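import Cfsg.Agent.Lib.RegUnip.Flag
import Mathlib.LinearAlgebra.FiniteDimensional.Basic
import Mathlib.Algebra.Module.ZMod

/-!
# Matrices of automorphisms of an elementary abelian group
-/

set_option autoImplicit false
set_option linter.style.haveILetI false

namespace CfsgLib.MCFusion

open CfsgLib.RegUnip (M2 GLw)

/-- An identification of a finite module over the prime field with column vectors. -/
theorem exists_linearEquiv (p : ℕ) [Fact p.Prime] (A : Type*) [AddCommGroup A] [Finite A]
    [Module (ZMod p) A] :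
    ∃ (d : ℕ), Nat.card A = p ^ d ∧ Nonempty (A ≃ₗ[ZMod p] (Fin d → ZMod p)) := by
  haveI : Module.Finite (ZMod p) A := Module.Finite.of_finite
  let b := Module.finBasis (ZMod p) A
  refine ⟨Module.finrank (ZMod p) A, ?_, ⟨b.equivFun⟩⟩
  rw [Nat.card_congr b.equivFun.toEquiv]
  simp

/-- Coordinates on an elementary abelian group and the matrices of its automorphisms. -/
theorem exists_rep_of_module (p : ℕ) [Fact p.Prime] (H : Type*) [CommGroup H] [Finite H]
    [Module (ZMod p) (Additive H)] :
    ∃ (d : ℕ) (e : H → Fin d → ZMod p) (Φ : MulAut H →* GLw p d), Function.Bijective e ∧ e 1 = 0 ∧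
      (∀ a b, e (a * b) = e a + e b) ∧ Nat.card H = p ^ d ∧ Function.Injective Φ ∧
      ∀ σ a, (Φ σ : M2 p d).mulVec (e a) = e (σ a) := by
  haveI : Finite (Additive H) := Finite.of_equiv H Additive.ofMul
  obtain ⟨d, hcard, ⟨L⟩⟩ := exists_linearEquiv p (Additive H)
  let e : H → Fin d → ZMod p := fun a => L.toLinearMap (Additive.ofMul a)
  have hadd : ∀ a b, e (a * b) = e a + e b := fun a b => map_add L.toLinearMap _ _
  let lin : MulAut H → ((Fin d → ZMod p) →ₗ[ZMod p] (Fin d → ZMod p)) := fun σ =>
    L.toLinearMap ∘ₗ ((MonoidHom.toAdditive σ.toMonoidHom).toZModLinearMap p) ∘ₗ L.symm.toLinearMap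
  let mat : MulAut H → M2 p d := fun σ => LinearMap.toMatrix' (lin σ)
  have happ : ∀ σ a, (mat σ).mulVec (e a) = e (σ a) := fun σ a => by
    rw [← Matrix.toLin'_apply, Matrix.toLin'_toMatrix']
    show L _ = L _
    simp [e]
  have hbij : Function.Bijective e := L.bijective.comp Additive.ofMul.bijective
  have hext : ∀ M N : M2 p d, (∀ a, M.mulVec (e a) = N.mulVec (e a)) → M = N := fun M N h =>
    Matrix.ext_of_mulVec_single fun i => by
      obtain ⟨a, ha⟩ := hbij.2 (Pi.single i 1)
      rw [← ha, h]
  let f : MulAut H →* M2 p d :=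
    { toFun := mat
      map_one' := hext _ _ fun a => by rw [happ, Matrix.one_mulVec]; rfl
      map_mul' := fun σ τ => hext _ _ fun a => by
        rw [happ, ← Matrix.mulVec_mulVec, happ, happ, MulAut.mul_apply] }
  refine ⟨d, e, f.toHomUnits, hbij, map_zero L, hadd, ?_, ?_, fun σ a => happ σ a⟩
  · rw [← hcard, Nat.card_congr Additive.toMul]
  · intro σ τ h
    refine MulEquiv.ext fun a => hbij.1 ?_
    have h1 : mat σ = mat τ := congrArg Units.val h
    rw [← happ, ← happ, h1]

/-- Coordinates on an elementary abelian group and the matrices of its automorphisms. -/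
theorem exists_rep (p : ℕ) [Fact p.Prime] (H : Type*) [Group H] [Finite H] (hc : ∀ a b : H, a * b = b * a)
    (he : ∀ a : H, a ^ p = 1) :
    ∃ (d : ℕ) (e : H → Fin d → ZMod p) (Φ : MulAut H →* GLw p d), Function.Bijective e ∧ e 1 = 0 ∧
      (∀ a b, e (a * b) = e a + e b) ∧ Nat.card H = p ^ d ∧ Function.Injective Φ ∧
      ∀ σ a, (Φ σ : M2 p d).mulVec (e a) = e (σ a) := by
  letI : CommGroup H := { (inferInstance : Group H) with mul_comm := hc }
  letI : Module (ZMod p) (Additive H) := AddCommGroup.zmodModule (n := p) (fun a =>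
    show p • a = 0 from Additive.toMul.injective ((toMul_nsmul p a).trans (he (Additive.toMul a))))
  exact exists_rep_of_module p H

end CfsgLib.MCFusion
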