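import Cfsg.Agent.Lib.RegUnip.Flag
import Mathlib.RingTheory.Nilpotent.Lemmas
import Mathlib.LinearAlgebra.Matrix.Charpoly.Coeff
import Mathlib.FieldTheory.Finite.Basic
import Mathlib.GroupTheory.Sylow

/-!
# Groups of order prime to `p` in dimension less than `p`

A `p`-element normalizing an abelian group of order prime to `p` in dimension less than `p`
centralizes it; hence a `p'`-group normalized by it with trivial fixed points is trivial.
-/

set_option autoImplicit false
set_option linter.unusedSectionVars false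
set_option linter.style.haveILetI false

open Polynomial
open scoped Classical

namespace CfsgLib.MCFusion

open CfsgLib.RegUnip (M2 GLw)

variable {p d : ℕ} [hpf : Fact p.Prime]

/-- An element of a commutative group of units spans only elements fixed by a power of the
Frobenius map. -/
theorem pow_frob_of_span {A : Subgroup (GLw p d)} (hcomm : ∀ a ∈ A, ∀ b ∈ A, a * b = b * a)
    (hA : ¬ p ∣ Nat.card A) :
    ∃ e, 0 < e ∧ ∀ r ∈ Submodule.span (ZMod p) ((fun a : GLw p d => (a : M2 p d)) '' (A : Set (GLw p d))),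
      r ^ p ^ e = r := by
  have hp := hpf.out
  haveI : Finite A := inferInstance
  refine ⟨(Nat.card A).totient, Nat.totient_pos.2 Nat.card_pos, fun r hr => ?_⟩
  have hmod : p ^ (Nat.card A).totient ≡ 1 [MOD Nat.card A] :=
    Nat.ModEq.pow_totient ((Nat.Prime.coprime_iff_not_dvd hp).2 hA)
  rcases Nat.eq_zero_or_pos d with rfl | hd
  · exact Subsingleton.elim _ _
  haveI : Nonempty (Fin d) := ⟨⟨0, hd⟩⟩
  haveI : CharP (M2 p d) p := inferInstance
  have hc : ∀ u ∈ Submodule.span (ZMod p) ((fun a : GLw p d => (a : M2 p d)) '' (A : Set (GLw p d))),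
      ∀ a ∈ A, Commute u (a : M2 p d) := by
    intro u hu a ha
    induction hu using Submodule.span_induction with
    | mem y hy => obtain ⟨b, hb, rfl⟩ := hy; exact congrArg Units.val (hcomm b hb a ha)
    | zero => exact Commute.zero_left _
    | add y z _ _ hy hz => exact hy.add_left hz
    | smul c y _ hy => exact hy.smul_left c
  induction hr using Submodule.span_induction with
  | mem y hy =>
    obtain ⟨a, ha, rfl⟩ := hy
    have h1 : a ^ p ^ (Nat.card A).totient = a := by
      have h2 : (⟨a, ha⟩ : A) ^ p ^ (Nat.card A).totient = (⟨a, ha⟩ : A) ^ 1 := by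
        rw [pow_eq_pow_iff_modEq]
        exact hmod.of_dvd (orderOf_dvd_natCard _)
      rw [pow_one] at h2
      exact congrArg Subtype.val h2
    show (a : M2 p d) ^ _ = a
    rw [← Units.val_pow_eq_pow_val, h1]
  | zero => exact zero_pow (pow_ne_zero _ hp.ne_zero)
  | add y z hy hz ey ez =>
    have hyz : Commute y z := by
      clear ey ez
      induction hz using Submodule.span_induction with
      | mem w hw => obtain ⟨a, ha, rfl⟩ := hw; exact hc y hy a ha
      | zero => exact Commute.zero_right _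
      | add w w' _ _ hw hw' => exact hw.add_right hw'
      | smul c w _ hw => exact hw.smul_right c
    rw [add_pow_char_pow_of_commute _ _ hyz, ey, ez]
  | smul c y _ ey => rw [smul_pow, ey, ZMod.pow_card_pow]

/-- A `p`-element normalizing a commutative group of order prime to `p` in dimension less than
`p` centralizes it. -/
theorem commute_of_normalised_abelian (hd : d < p) {A : Subgroup (GLw p d)}
    (hcomm : ∀ a ∈ A, ∀ b ∈ A, a * b = b * a) (hA : ¬ p ∣ Nat.card A) {x : GLw p d} {k : ℕ}
    (hx : x ^ p ^ k = 1) (hn : ∀ a ∈ A, x * a * x⁻¹ ∈ A) : ∀ a ∈ A, x * a = a * x := by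
  have hp := hpf.out
  obtain ⟨e, he, hfrob⟩ := pow_frob_of_span hcomm hA
  set s : Set (M2 p d) := (fun a : GLw p d => (a : M2 p d)) '' (A : Set (GLw p d)) with hs
  let cm : Submonoid (M2 p d) :=
    { carrier := s
      one_mem' := ⟨1, one_mem A, rfl⟩
      mul_mem' := by
        rintro _ _ ⟨a, ha, rfl⟩ ⟨b, hb, rfl⟩
        exact ⟨a * b, mul_mem ha hb, rfl⟩ }
  set R := Algebra.adjoin (ZMod p) s with hR
  have hspan : ∀ r, r ∈ R → r ∈ Submodule.span (ZMod p) s := by
    intro r hr
    have h1 : r ∈ Subalgebra.toSubmodule (Algebra.adjoin (ZMod p) s) := hr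
    rw [Algebra.adjoin_eq_span, show Submonoid.closure s = cm from
      le_antisymm (Submonoid.closure_le.2 le_rfl) fun y hy => Submonoid.subset_closure hy] at h1
    exact h1
  have hscomm : ∀ a ∈ s, ∀ b ∈ s, a * b = b * a := by
    rintro _ ⟨a, ha, rfl⟩ _ ⟨b, hb, rfl⟩
    exact congrArg Units.val (hcomm a ha b hb)
  intro a ha
  by_contra hne
  -- the action of `x` on the span
  let φ : Module.End (ZMod p) (M2 p d) :=
    { toFun := fun m => (x : M2 p d) * m * ((x⁻¹ : GLw p d) : M2 p d)
      map_add' := fun m m' => by rw [mul_add, add_mul]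
      map_smul' := fun c m => by rw [RingHom.id_apply, mul_smul_comm, smul_mul_assoc] }
  have hφ : ∀ m, φ m = (x : M2 p d) * m * ((x⁻¹ : GLw p d) : M2 p d) := fun m => rfl
  have hφmul : ∀ m m', φ (m * m') = φ m * φ m' := fun m m' => by
    simp only [hφ, mul_assoc, Units.inv_mul_cancel_left]
  have hφ1 : φ 1 = 1 := by rw [hφ, mul_one, Units.mul_inv]
  have hφR : ∀ r ∈ R, φ r ∈ R := by
    intro r hr
    induction hr using Algebra.adjoin_induction with
    | mem y hy =>
      obtain ⟨b, hb, rfl⟩ := hy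
      exact Algebra.subset_adjoin ⟨x * b * x⁻¹, hn b hb, by simp [hφ]⟩
    | algebraMap c =>
      rw [Algebra.algebraMap_eq_smul_one, map_smul, hφ1, ← Algebra.algebraMap_eq_smul_one]
      exact Subalgebra.algebraMap_mem _ c
    | add y z _ _ hy hz => rw [map_add]; exact add_mem hy hz
    | mul y z _ _ hy hz => rw [hφmul]; exact mul_mem hy hz
  have hpowφ : ∀ (i : ℕ) m, (φ ^ i) m = ((x ^ i : GLw p d) : M2 p d) * m * (((x ^ i)⁻¹ : GLw p d) : M2 p d) := by
    intro i
    induction i with
    | zero => intro m; simp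
    | succ i ih =>
      intro m
      rw [pow_succ', Module.End.mul_apply, ih, hφ, pow_succ', mul_inv_rev, Units.val_mul, Units.val_mul]
      simp only [mul_assoc]
  rcases Nat.eq_zero_or_pos d with rfl | hd0
  · exact hne (Units.ext (Subsingleton.elim _ _))
  haveI : Nonempty (Fin d) := ⟨⟨0, hd0⟩⟩
  haveI : CharP (M2 p d) p := inferInstance
  haveI : CharP (Module.End (ZMod p) (M2 p d)) p := by
    refine charP_of_injective_algebraMap (R := ZMod p) ?_ p
    intro c c' hcc
    have h1 := LinearMap.congr_fun hcc (1 : M2 p d)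
    simp only [Module.algebraMap_end_apply] at h1
    exact smul_left_injective (ZMod p) (one_ne_zero (α := M2 p d)) h1
  set D := φ - 1 with hD
  have hDk : D ^ p ^ k = 0 := by
    rw [hD, sub_pow_char_pow_of_commute _ _ (Commute.one_right φ), one_pow, sub_eq_zero]
    refine LinearMap.ext fun m => ?_
    rw [hpowφ, hx, inv_one, Units.val_one, one_mul, mul_one, Module.End.one_apply]
  have hDR : ∀ i : ℕ, ∀ r ∈ R, (D ^ i) r ∈ R := by
    intro i
    induction i with
    | zero => intro r hr; simpa using hr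
    | succ i ih =>
      intro r hr
      rw [pow_succ', Module.End.mul_apply, hD, LinearMap.sub_apply, Module.End.one_apply]
      exact sub_mem (hφR _ (ih r hr)) (ih r hr)
  have haR : ((a : GLw p d) : M2 p d) ∈ R := Algebra.subset_adjoin ⟨a, ha, rfl⟩
  have hDa : (D ^ 1) ((a : GLw p d) : M2 p d) ≠ 0 := by
    rw [pow_one, hD, LinearMap.sub_apply, Module.End.one_apply, sub_ne_zero, hφ]
    intro h1
    refine hne (Units.ext ?_)
    rw [Units.val_mul, Units.val_mul]
    conv_rhs => rw [← h1]
    rw [mul_assoc ((x : M2 p d) * _), Units.inv_mul, mul_one]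
  -- the last nonzero difference
  have hexI : ∃ i, (D ^ (i + 2)) ((a : GLw p d) : M2 p d) = 0 :=
    ⟨p ^ k, by rw [pow_add, hDk, zero_mul, LinearMap.zero_apply]⟩
  set i := Nat.find hexI with hi
  set a' := (D ^ i) ((a : GLw p d) : M2 p d) with ha'
  set b := D a' with hb
  have hDb : D b = 0 := by
    rw [hb, ha', ← Module.End.mul_apply, ← Module.End.mul_apply, mul_assoc, ← pow_succ', ← pow_succ']
    exact Nat.find_spec hexI
  have hb0 : b ≠ 0 := by
    rw [hb, ha', ← Module.End.mul_apply, ← pow_succ']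
    intro h1
    rcases Nat.eq_zero_or_pos i with h0 | h0
    · rw [h0] at h1; exact hDa h1
    · exact Nat.find_min hexI (show i - 1 < i by omega) (by rw [show i - 1 + 2 = i + 1 by omega]; exact h1)
  have ha'R : a' ∈ R := hDR i _ haR
  have hbR : b ∈ R := by rw [hb, ← pow_one D]; exact hDR 1 _ ha'R
  have hφb : φ b = b := by
    rw [hD, LinearMap.sub_apply, Module.End.one_apply, sub_eq_zero] at hDb; exact hDb
  have hφa' : φ a' = a' + b := by rw [hb, hD, LinearMap.sub_apply, Module.End.one_apply, add_sub_cancel]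
  -- the roots of the characteristic polynomial
  have hroot : ∀ j : ℕ, aeval (a' + (j : M2 p d) * b) a'.charpoly = 0 := by
    intro j
    induction j with
    | zero => rw [Nat.cast_zero, zero_mul, add_zero]; exact Matrix.aeval_self_charpoly a'
    | succ j ih =>
      have hnat : φ (j : M2 p d) = (j : M2 p d) := by
        rw [← nsmul_one, map_nsmul, hφ1]
      have h1 : φ (a' + (j : M2 p d) * b) = a' + ((j + 1 : ℕ) : M2 p d) * b := by
        rw [map_add, hφmul, hnat, hφb, hφa', Nat.cast_succ, add_mul, one_mul]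
        abel
      let Φ : M2 p d →ₐ[ZMod p] M2 p d :=
        AlgHom.ofLinearMap φ hφ1 hφmul
      rw [← h1, show φ (a' + (j : M2 p d) * b) = Φ (a' + (j : M2 p d) * b) from rfl, aeval_algHom_apply,
        ih, map_zero]
  letI : CommRing R := Algebra.adjoinCommRingOfComm (ZMod p) hscomm
  let A' : R := ⟨a', ha'R⟩
  let B' : R := ⟨b, hbR⟩
  have hroot' : ∀ j : ℕ, aeval (A' + (j : R) * B') a'.charpoly = 0 := by
    intro j
    refine Subtype.ext ?_
    rw [show ((aeval (A' + (j : R) * B') a'.charpoly : R) : M2 p d)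
        = R.val (aeval (A' + (j : R) * B') a'.charpoly) from rfl, ← aeval_algHom_apply]
    simpa [A', B'] using hroot j
  have hBn : ¬ IsNilpotent B' := by
    rintro ⟨N, hN⟩
    have h1 : b ^ p ^ e = b := hfrob b (hspan b hbR)
    have h2 : ∀ l, b ^ (p ^ e) ^ l = b := by
      intro l
      induction l with
      | zero => rw [pow_zero, pow_one]
      | succ l ih => rw [pow_succ, pow_mul, ih, h1]
    have hN' : b ^ N = 0 := congrArg Subtype.val hN
    refine hb0 ?_
    rw [← h2 N]
    exact pow_eq_zero_of_le (le_of_lt (Nat.lt_pow_self (Nat.one_lt_pow he.ne' hp.one_lt))) hN'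
  rw [nilpotent_iff_mem_prime] at hBn
  push Not at hBn
  obtain ⟨P, hP, hBP⟩ := hBn
  haveI := hP
  set π := Ideal.Quotient.mk P with hπ
  haveI : CharP (R ⧸ P) p := charP_of_injective_algebraMap (algebraMap (ZMod p) (R ⧸ P)).injective p
  have hB0 : π B' ≠ 0 := fun h0 => hBP (Ideal.Quotient.eq_zero_iff_mem.1 h0)
  set q := a'.charpoly.map (algebraMap (ZMod p) (R ⧸ P)) with hq
  have hq0 : q = 0 := by
    refine eq_zero_of_natDegree_lt_card_of_eval_eq_zero q
      (f := fun j : Fin p => π A' + ((j : ℕ) : R ⧸ P) * π B') (fun i j hij => ?_) (fun j => ?_) ?_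
    · simp only [add_right_inj] at hij
      have h1 := mul_right_cancel₀ hB0 hij
      exact Fin.ext (CharP.natCast_injOn_Iio (R ⧸ P) p i.2 j.2 h1)
    · have h1 := congrArg (Ideal.Quotient.mkₐ (ZMod p) P) (hroot' j)
      rw [← aeval_algHom_apply, map_zero, map_add, map_mul, map_natCast] at h1
      rw [hq, eval_map, ← aeval_def]
      exact h1
    · rw [Fintype.card_fin, hq, natDegree_map_eq_of_injective (algebraMap (ZMod p) (R ⧸ P)).injective,
        Matrix.charpoly_natDegree_eq_dim, Fintype.card_fin]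
      exact hd
  exact (a'.charpoly_monic.map (algebraMap (ZMod p) (R ⧸ P))).ne_zero hq0

/-- A group of order prime to `p` normalized by a `p`-element without fixed points in dimension
less than `p` is trivial. -/
theorem eq_bot_of_fixedPointFree (hd : d < p) {K : Subgroup (GLw p d)} (hK : ¬ p ∣ Nat.card K)
    {x : GLw p d} {k : ℕ} (hx : x ^ p ^ k = 1) (hn : ∀ a ∈ K, x * a * x⁻¹ ∈ K)
    (hfix : ∀ a ∈ K, x * a = a * x → a = 1) : K = ⊥ := by
  have hp := hpf.out
  by_contra hne
  obtain ⟨q, hq, hqd⟩ := Nat.exists_prime_and_dvd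
    (show Nat.card K ≠ 1 from fun e => hne (Subgroup.eq_bot_of_card_eq K e))
  haveI : Fact q.Prime := ⟨hq⟩
  -- the conjugation permutes the Sylow subgroups
  have hn' : ∀ i : ℕ, ∀ a ∈ K, x ^ i * a * (x ^ i)⁻¹ ∈ K := by
    intro i
    induction i with
    | zero => intro a ha; simpa using ha
    | succ i ih =>
      intro a ha
      rw [pow_succ', mul_inv_rev, show x * x ^ i * a * ((x ^ i)⁻¹ * x⁻¹) = x * (x ^ i * a * (x ^ i)⁻¹) * x⁻¹ by group]
      exact hn _ (ih a ha)
  let P := Subgroup.zpowers x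
  have hP : IsPGroup p P := fun g => ⟨k, Subtype.ext (by
    obtain ⟨i, hi⟩ := Subgroup.mem_zpowers_iff.1 g.2
    rw [SubgroupClass.coe_pow, ← hi, ← zpow_natCast, ← zpow_mul, mul_comm, zpow_mul, zpow_natCast, hx,
      one_zpow]
    rfl)⟩
  have hnorm : x ∈ Subgroup.normalizer (K : Set (GLw p d)) := by
    refine Subgroup.mem_normalizer_fintype (fun a ha => hn a ha) |> fun h => ?_
    exact h
  have hPN : P ≤ Subgroup.normalizer (K : Set (GLw p d)) := Subgroup.zpowers_le.2 hnorm
  let f : P →* MulAut K :=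
    (K.normalizerMonoidHom).comp (Subgroup.inclusion hPN)
  letI : MulAction P (Sylow q K) :=
    MulAction.compHom (Sylow q K) f
  have hnq : ¬ p ∣ Nat.card (Sylow q K) := fun hd' => hK (hd'.trans (Sylow.card_dvd_index _ |>.trans
    ((Classical.arbitrary (Sylow q K)).toSubgroup.index_dvd_card)))
  obtain ⟨T, hT⟩ := hP.nonempty_fixed_point_of_prime_not_dvd_card (α := Sylow q K) hnq
  set Q : Subgroup (GLw p d) := (T : Subgroup K).map K.subtype with hQ
  have hQx : ∀ a ∈ Q, x * a * x⁻¹ ∈ Q := by
    rintro _ ⟨a, ha, rfl⟩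
    have hTx : f ⟨x, Subgroup.mem_zpowers x⟩ • T = T := hT ⟨x, Subgroup.mem_zpowers x⟩
    refine ⟨f ⟨x, Subgroup.mem_zpowers x⟩ a, ?_, rfl⟩
    rw [← hTx]
    exact Set.smul_mem_smul_set ha
  have hQne : Q ≠ ⊥ := by
    rw [hQ, Ne, Subgroup.map_eq_bot_iff_of_injective _ K.subtype_injective]
    exact T.ne_bot_of_dvd_card hqd
  haveI : Nontrivial Q := (Subgroup.nontrivial_iff_ne_bot Q).2 hQne
  have hQq : IsPGroup q Q := T.isPGroup'.map _
  haveI := hQq.center_nontrivial
  set Z := (Subgroup.center Q).map Q.subtype with hZ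
  have hZQ : Z ≤ Q := Subgroup.map_subtype_le _
  have hZK : Z ≤ K := hZQ.trans (Subgroup.map_subtype_le _)
  have hZc : ∀ a ∈ Z, ∀ b ∈ Q, a * b = b * a := by
    rintro _ ⟨a, ha, rfl⟩ b hb
    exact (congrArg Subtype.val (Subgroup.mem_center_iff.1 ha ⟨b, hb⟩)).symm
  have hQi : ∀ a ∈ Q, x⁻¹ * a * x ∈ Q := fun a ha => by
    have h1 : x ∈ Subgroup.normalizer (Q : Set (GLw p d)) := Subgroup.mem_normalizer_fintype hQx
    have h2 := (Subgroup.mem_normalizer_iff.1 (inv_mem h1) a).1 ha
    rwa [inv_inv] at h2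
  have hZx : ∀ a ∈ Z, x * a * x⁻¹ ∈ Z := fun a ha => by
    refine ⟨⟨x * a * x⁻¹, hQx a (hZQ ha)⟩, Subgroup.mem_center_iff.2 fun b => Subtype.ext ?_, rfl⟩
    show (b : GLw p d) * (x * a * x⁻¹) = x * a * x⁻¹ * b
    calc (b : GLw p d) * (x * a * x⁻¹) = x * ((x⁻¹ * b * x) * a) * x⁻¹ := by group
      _ = x * (a * (x⁻¹ * b * x)) * x⁻¹ := by rw [← hZc a ha _ (hQi b b.2)]
      _ = _ := by group
  have hall := commute_of_normalised_abelian hd (fun a ha b hb => hZc a ha b (hZQ hb))
    (fun hd' => hK (hd'.trans (Subgroup.card_dvd_of_le hZK))) hx hZx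
  obtain ⟨a, ha⟩ := exists_ne (1 : Subgroup.center Q)
  have hmem : ((a : Q) : GLw p d) ∈ Z := ⟨a, a.2, rfl⟩
  exact ha (Subtype.ext (Subtype.ext (hfix _ (hZK hmem) (hall _ hmem))))

end CfsgLib.MCFusion
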