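import Cfsg.Agent.Lib.MaxClassFusion.Weights
import Cfsg.Agent.Lib.MaxClassFusion.Coords
import Cfsg.Agent.Lib.MaxClassFusion.SmallDim
import Cfsg.Agent.Lib.MaxClassEss.Section
import Cfsg.Agent.Lib.PGroup.MaxClassAgemo.Main
import Cfsg.Agent.Lib.Fusion.System.Group

/-!
# Automorphisms of the first two step centralizer trivial on two consecutive layers

Let `A` be the first two step centralizer of a group of maximal class and `X` a group of automorphisms
of `A` with the conjugations as a Sylow `p`-subgroup, such that automorphisms normalizing the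
conjugations extend. Elements of `X` trivial on two consecutive layers have `p`-power order.
-/

set_option autoImplicit false
set_option linter.style.haveILetI false
set_option linter.unusedSectionVars false

open Subgroup
open scoped commutatorElement Classical

namespace CfsgLib.MCFusion

open CfsgLib.MaxClassShift (gam gam_normal gam_anti gam_one gam_comm)
open CfsgLib.MaxClassUniform (Uniform gam_le_twoStepAt)
open CfsgLib.PGroup.MaxClassRank (twoStepAt)
open CfsgLib.MaxClassEss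

universe u

variable {G : Type u} [Group G] [Finite G] {p n : ℕ} [hpf : Fact p.Prime] {x : G}

/-- The data of the automizer of the first two step centralizer. -/
structure TopData (p : ℕ) (X : Subgroup (MulAut (lev G 1))) (c : G →* MulAut (lev G 1)) : Prop where
  conj : ∀ g a, ((c g a : lev G 1) : G) = g * (a : G) * g⁻¹
  mem : ∀ g, c g ∈ X
  sylow : ¬ p ∣ c.range.relIndex X
  ext : ∀ σ ∈ X, (∀ g, σ * c g * σ⁻¹ ∈ c.range) → ∃ Φ : MulAut G, ∀ a : lev G 1, Φ a = ((σ a : lev G 1) : G)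

variable {X : Subgroup (MulAut (lev G 1))} {c : G →* MulAut (lev G 1)}

theorem finite_aut : Finite (MulAut (lev G 1)) :=
  Finite.of_injective (fun a : MulAut (lev G 1) => (a : lev G 1 → lev G 1)) DFunLike.coe_injective

theorem TopData.isPGroup_range (D : TopData p X c) (hG : IsPGroup p G) : IsPGroup p c.range := by
  intro y
  obtain ⟨g, hg⟩ := y.2
  obtain ⟨k, hk⟩ := hG g
  exact ⟨k, Subtype.ext (by rw [SubgroupClass.coe_pow, ← hg, ← map_pow, hk, map_one]; rfl)⟩

/-- A `p`-subgroup of `X` normalized by `X` consists of conjugations. -/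
theorem TopData.le_range (D : TopData p X c) (hG : IsPGroup p G) (K : Subgroup (MulAut (lev G 1)))
    (hKX : K ≤ X) (hK : IsPGroup p K) (hn : ∀ γ ∈ X, ∀ σ ∈ K, γ * σ * γ⁻¹ ∈ K) : K ≤ c.range := by
  haveI := finite_aut (G := G)
  have hRX : c.range ≤ X := by rintro _ ⟨g, rfl⟩; exact D.mem g
  have hRN : c.range ≤ normalizer (K : Set (MulAut (lev G 1))) := fun r hr =>
    mem_normalizer_fintype fun σ hσ => hn r (hRX hr) σ hσ
  exact (le_inf hKX le_sup_right).trans (le_of_sylow (le_inf hRX le_sup_left)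
    ((D.isPGroup_range hG).to_sup_of_normal_right' hK hRN) D.sylow)

/-- An element commuting with the conjugation by `x` up to conjugations normalizes them. -/
theorem TopData.normalizes (D : TopData p X c) (h : Uniform x p n) (h4 : 4 ≤ n) {σ : MulAut (lev G 1)}
    (hx : σ * c x * σ⁻¹ ∈ c.range) : ∀ g, σ * c g * σ⁻¹ ∈ c.range := by
  intro g
  obtain ⟨i, hi⟩ := exists_zpow_mem h le_rfl (show 2 + 2 ≤ n by omega) g
  rw [← lev_one] at hi
  have h1 : σ * c ((x ^ i)⁻¹ * g) * σ⁻¹ = c ((σ ⟨_, hi⟩ : lev G 1) : G) := by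
    refine MulEquiv.ext fun a => ?_
    rw [MulAut.mul_apply, MulAut.mul_apply]
    have e : ∀ (w b : lev G 1), c (w : G) b = w * b * w⁻¹ := fun w b => Subtype.ext (D.conj _ _)
    rw [e ⟨_, hi⟩, e, map_mul, map_mul, map_inv, MulAut.apply_inv_self]
  rw [show g = x ^ i * ((x ^ i)⁻¹ * g) by group, map_mul, map_zpow,
    show σ * (c x ^ i * c ((x ^ i)⁻¹ * g)) * σ⁻¹
      = (σ * c x * σ⁻¹) ^ i * (σ * c ((x ^ i)⁻¹ * g) * σ⁻¹) by rw [conj_zpow]; group, h1]
  exact mul_mem (zpow_mem hx i) ⟨_, rfl⟩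

/-- The Frattini quotient of the first two step centralizer has order at most `p ^ (p - 1)`. -/
theorem card_frattini_quotient (h : Uniform x p n) (h4 : 4 ≤ n)
    (hnab : ∃ a b : lev G 1, a * b ≠ b * a) :
    ∃ d, d ≤ p - 1 ∧ Nat.card (lev G 1 ⧸ frattini (lev G 1)) = p ^ d := by
  have hp := hpf.out
  haveI := lev_normal h 1
  have hA := h.isPGroup.to_subgroup (lev G 1)
  obtain ⟨d, hd⟩ := (hA.to_quotient (frattini (lev G 1))).exists_card_eq
  refine ⟨d, ?_, hd⟩
  have hAc : Nat.card (lev G 1) = p ^ (n - 1) := by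
    have e := (lev G 1).card_mul_index
    rw [lev_one, index_twoStepAt h le_rfl (show 2 + 2 ≤ n by omega), h.card,
      show p ^ n = p ^ (n - 1) * p by rw [← pow_succ]; congr 1; omega] at e
    rw [lev_one]
    exact Nat.eq_of_mul_eq_mul_right hp.pos e
  have hle : Nat.card (lev G 1 ⧸ frattini (lev G 1)) * Nat.card (frattini (lev G 1)) = p ^ (n - 1) := by
    rw [← card_eq_card_quotient_mul_card_subgroup, hAc]
  have hdn : d ≤ n - 1 := (Nat.pow_dvd_pow_iff_le_right hp.one_lt).1 (hd ▸ Dvd.intro _ hle)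
  rcases Nat.lt_or_ge (n - 1) p with hn | hn
  · omega
  rcases Nat.lt_or_ge n (p + 2) with hn2 | hn2
  · -- `A` is not elementary
    have hne : frattini (lev G 1) ≠ ⊥ := fun e => by
      obtain ⟨a, b, hab⟩ := hnab
      have h1 : ⁅a, b⁆ ∈ frattini (lev G 1) := CfsgLib.Coprime.commutator_le_frattini hA
        (commutator_mem_commutator (mem_top a) (mem_top b))
      rw [e, mem_bot, commutatorElement_eq_one_iff_mul_comm] at h1
      exact hab h1
    have h1 : 1 < Nat.card (frattini (lev G 1)) := one_lt_card_iff_ne_bot _ |>.2 hne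
    have h2 : p ^ d < p ^ (n - 1) := by
      rw [← hle, hd]
      exact lt_mul_of_one_lt_right (pow_pos hp.pos d) h1
    have := (Nat.pow_lt_pow_iff_right hp.one_lt).1 h2
    omega
  · set P := (frattini (lev G 1)).map (lev G 1).subtype with hP
    haveI : P.Normal := ⟨by
      rintro _ ⟨a, ha, rfl⟩ g
      exact ⟨MulAut.conjNormal g a, mem_frattini_iff_apply.2 ha, rfl⟩⟩
    have hle2 : P ≤ gam G 2 := by
      by_contra hnot
      have h1 : gam G 2 ≤ P := gam_two_le_of_inv h h4 le_rfl (by omega) P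
        (fun a ha => Subgroup.Normal.conj_mem ‹_› a ha x)
        ((map_subtype_le _).trans lev_one.le) hnot
      obtain ⟨b, hb, hb'⟩ := SetLike.not_le_iff_exists.1 hnot
      have h2 : lev G 1 ≤ P := by
        rw [lev_one_gen h h4 (map_subtype_le _ hb) hb']
        exact sup_le (zpowers_le.2 hb) h1
      have h3 : frattini (lev G 1) = ⊤ := eq_top_iff.2 fun a _ => by
        obtain ⟨a', ha', e⟩ := h2 a.2
        rwa [← Subtype.ext e]
      have h4 : (⊥ : Subgroup (lev G 1)) = ⊤ := frattini_nongenerating (by rw [bot_sup_eq, h3])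
      obtain ⟨a, c', hac⟩ := hnab
      exact hac (by rw [mem_bot.1 (h4.ge (mem_top a)), one_mul, mul_one])
    obtain ⟨k, hk2, hkn, hPk⟩ := normal_eq_gam h le_rfl (by omega) hle2
    obtain ⟨b, hb, hbp⟩ := CfsgLib.MaxClassAgemo.exists_pow_notMem_twoStep h hn2
    have hbP : b ^ p ∈ P := ⟨_, CfsgLib.Coprime.pow_mem_frattini hA ⟨b, lev_one (G := G) ▸ hb⟩, rfl⟩
    rw [hPk] at hbP
    have hkp : k ≤ p := by
      by_contra hlt
      exact hbp (gam_anti (show p + 1 ≤ k by omega) hbP)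
    have hPc : Nat.card (frattini (lev G 1)) = p ^ (n - k) := by
      rw [← card_map_of_injective (lev G 1).subtype_injective, ← hP, hPk, h.card_gam hk2 hkn]
    rw [hd, hPc, ← pow_add] at hle
    have := Nat.pow_right_injective hp.two_le hle
    omega

/-- Elements of `X` trivial on a section containing two consecutive layers have `p`-power order. -/
theorem TopData.pow_eq_one (D : TopData p X c) (h : Uniform x p n) (h4 : 4 ≤ n)
    (hnab : ∃ a b : lev G 1, a * b ≠ b * a) {U W : Subgroup G} {i : ℕ} (hi2 : 2 ≤ i) (hin : i + 1 < n)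
    (hok : i + 3 ≤ n ∨ twoStepAt G (n - 2) = twoStepAt G 2) (hiU : gam G i ≤ U)
    (hWi : W ≤ gam G (i + 2)) (hU : ∀ σ ∈ X, ∀ a : lev G 1, (a : G) ∈ U → ((σ a : lev G 1) : G) ∈ U)
    (hW : ∀ σ ∈ X, ∀ a : lev G 1, (a : G) ∈ W → ((σ a : lev G 1) : G) ∈ W)
    {σ : MulAut (lev G 1)} (hσ : σ ∈ X)
    (htriv : ∀ a : lev G 1, (a : G) ∈ U → ((σ a : lev G 1) : G) * (a : G)⁻¹ ∈ W) :
    ∃ k, σ ^ p ^ k = 1 := by
  have hp := hpf.out
  haveI := finite_aut (G := G)
  haveI := lev_normal h 1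
  have hA := h.isPGroup.to_subgroup (lev G 1)
  -- the kernel
  set K : Subgroup (MulAut (lev G 1)) := CfsgLib.RegUnip.subgroupOfFinite
    {τ | τ ∈ X ∧ ∀ a : lev G 1, (a : G) ∈ U → ((τ a : lev G 1) : G) * (a : G)⁻¹ ∈ W}
    ⟨one_mem X, fun a _ => by simp⟩
    (fun {τ υ} hτ hυ => ⟨mul_mem hτ.1 hυ.1, fun a ha => by
      have h1 := hυ.2 a ha
      have h2 : ((υ a * a⁻¹ : lev G 1) : G) ∈ W := h1
      have h3 := hW τ hτ.1 _ h2
      rw [map_mul, map_inv, Subgroup.coe_mul, Subgroup.coe_inv] at h3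
      rw [MulAut.mul_apply]
      have h4 := mul_mem h3 (hτ.2 a ha)
      rwa [mul_assoc, inv_mul_cancel_left] at h4⟩) with hK
  have hKm : ∀ {τ}, τ ∈ K → τ ∈ X ∧ ∀ a : lev G 1, (a : G) ∈ U → ((τ a : lev G 1) : G) * (a : G)⁻¹ ∈ W :=
    fun hτ => hτ
  have hKn : ∀ γ ∈ X, ∀ τ ∈ K, γ * τ * γ⁻¹ ∈ K := fun γ hγ τ hτ => by
    refine ⟨mul_mem (mul_mem hγ (hKm hτ).1) (inv_mem hγ), fun a ha => ?_⟩
    have h1 : ((τ (γ⁻¹ a) * (γ⁻¹ a)⁻¹ : lev G 1) : G) ∈ W := (hKm hτ).2 _ (hU _ (inv_mem hγ) a ha)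
    have h2 := hW γ hγ _ h1
    rw [map_mul, map_inv, MulAut.apply_inv_self, Subgroup.coe_mul, Subgroup.coe_inv] at h2
    rw [MulAut.mul_apply, MulAut.mul_apply]
    exact h2
  have hKX : K ≤ X := fun τ hτ => (hKm hτ).1
  -- the matrices on the Frattini quotient
  obtain ⟨d, hd, hdc⟩ := card_frattini_quotient h h4 hnab
  have hcm : ∀ a b : lev G 1 ⧸ frattini (lev G 1), a * b = b * a := by
    intro a b
    obtain ⟨a, rfl⟩ := QuotientGroup.mk_surjective a
    obtain ⟨b, rfl⟩ := QuotientGroup.mk_surjective b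
    rw [← QuotientGroup.mk'_apply, ← QuotientGroup.mk'_apply, ← commutatorElement_eq_one_iff_mul_comm,
      ← map_commutatorElement]
    exact (QuotientGroup.eq_one_iff _).2
      (CfsgLib.Coprime.commutator_le_frattini hA (commutator_mem_commutator (mem_top a) (mem_top b)))
  have hel : ∀ a : lev G 1 ⧸ frattini (lev G 1), a ^ p = 1 := by
    intro a
    obtain ⟨a, rfl⟩ := QuotientGroup.mk_surjective a
    rw [← QuotientGroup.mk_pow, QuotientGroup.eq_one_iff]
    exact CfsgLib.Coprime.pow_mem_frattini hA a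
  obtain ⟨d', e, ρ, -, -, -, hd'c, hρ, -⟩ := exists_rep p _ hcm hel
  obtain rfl : d = d' := Nat.pow_right_injective hp.two_le (hdc.symm.trans hd'c)
  set f := ρ.comp frAct with hf
  have hf1 : ∀ {τ}, f τ = 1 ↔ frAct τ = 1 := fun {τ} => map_eq_one_iff ρ hρ
  -- the conjugations in the kernel are inner
  have hTi : twoStepAt G i = twoStepAt G 2 := by
    rcases hok with hok | hne
    · exact twoStepAt_common h (by omega) hi2 hok
    · exact twoStepAt_all h hne hi2 (by omega)
  have hKR : ∀ g, c g ∈ K → f (c g) = 1 := by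
    intro g hg
    have hgA : g ∈ lev G 1 := by
      rw [lev_one, ← hTi]
      intro v hv
      have hvA : v ∈ lev G 1 := lev_anti h (show 1 ≤ i by omega) (by rw [lev_eq hi2]; exact hv)
      have := (hKm hg).2 ⟨v, hvA⟩ (hiU hv)
      rw [D.conj] at this
      exact hWi this
    rw [hf1, frAct_eq_one_iff]
    intro a
    rw [show c g a * a⁻¹ = ⁅(⟨g, hgA⟩ : lev G 1), a⁆ from Subtype.ext (by
      rw [Subgroup.coe_mul, D.conj, Subgroup.coe_inv]; rfl)]
    exact CfsgLib.Coprime.commutator_le_frattini hA (commutator_mem_commutator (mem_top _) (mem_top _))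
  -- the image has order prime to `p`
  have hRX : c.range ≤ X := by rintro _ ⟨g, rfl⟩; exact D.mem g
  have hKN : X ≤ normalizer (K : Set (MulAut (lev G 1))) := fun γ hγ =>
    mem_normalizer_fintype fun τ hτ => hKn γ hγ τ hτ
  have hnd : ¬ p ∣ Nat.card (K.map f) := by
    intro hdvd
    refine CfsgLib.Fusion.not_dvd_relIndex_inf_of_le_normalizer (D.isPGroup_range h.isPGroup) hRX D.sylow
      hKX hKN (hdvd.trans ?_)
    rw [← relIndex_bot_left, ← map_bot f, relIndex_map_map, bot_sup_eq, relIndex_sup_right]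
    exact relIndex_dvd_of_le_left K fun τ hτ => by
      obtain ⟨g, rfl⟩ := hτ.1
      exact hKR g hτ.2
  -- the conjugation by `x`
  obtain ⟨k, hk⟩ := h.isPGroup x
  have hxk : f (c x) ^ p ^ k = 1 := by rw [← map_pow, ← map_pow, hk, map_one, map_one]
  have hxn : ∀ a ∈ K.map f, f (c x) * a * (f (c x))⁻¹ ∈ K.map f := by
    rintro _ ⟨τ, hτ, rfl⟩
    exact ⟨_, hKn _ (D.mem x) τ hτ, by rw [map_mul, map_mul, map_inv]⟩
  -- no fixed points
  set Kf := K ⊓ f.ker with hKf
  have hKfp : IsPGroup p Kf := isPGroup_of_frAct hA Kf fun τ hτ => hf1.1 hτ.2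
  have hKfR : Kf ≤ c.range := D.le_range h.isPGroup Kf (inf_le_left.trans hKX) hKfp fun γ hγ τ hτ =>
    ⟨hKn γ hγ τ hτ.1, by
      show f (γ * τ * γ⁻¹) = 1
      rw [map_mul, map_mul, map_inv, show f τ = 1 from hτ.2, mul_one, mul_inv_cancel]⟩
  have hfix : ∀ a ∈ K.map f, f (c x) * a = a * f (c x) → a = 1 := by
    rintro _ ⟨τ, hτ, rfl⟩ hcom
    have h1 : τ * c x * τ⁻¹ * (c x)⁻¹ ∈ Kf := by
      refine ⟨?_, ?_⟩
      · rw [show τ * c x * τ⁻¹ * (c x)⁻¹ = τ * (c x * τ⁻¹ * (c x)⁻¹) by group]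
        exact mul_mem hτ (hKn _ (D.mem x) _ (inv_mem hτ))
      · show f (τ * c x * τ⁻¹ * (c x)⁻¹) = 1
        simp only [map_mul, map_inv]
        rw [← hcom]
        group
    have h2 : τ * c x * τ⁻¹ ∈ c.range := by
      simpa using mul_mem (hKfR h1) (⟨x, rfl⟩ : c x ∈ c.range)
    obtain ⟨Φ, hΦ⟩ := D.ext τ (hKm hτ).1 (D.normalizes h h4 h2)
    obtain ⟨a, b, W'⟩ := exists_wts h h4 Φ
    have heig : ∀ j, j = i ∨ j = i + 1 → (b : ZMod p) * (a : ZMod p) ^ (j - 1) = 1 := by
      intro j hj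
      have hji : i ≤ j := by omega
      obtain ⟨v, hv, hv'⟩ := exists_notMem_succ h h4 (show 1 ≤ j by omega) (show j < n by omega)
      have hvj : v ∈ gam G j := by rwa [lev_eq (show 2 ≤ j by omega)] at hv
      have hvA : v ∈ lev G 1 := lev_anti h (show 1 ≤ j by omega) hv
      have h3 := (hKm hτ).2 ⟨v, hvA⟩ (hiU (gam_anti hji hvj))
      rw [← hΦ] at h3
      haveI := gam_normal (G := G) (j + 1)
      have h5 : (v ^ (1 : ℤ))⁻¹ * Φ v ∈ gam G (j + 1) := by
        rw [zpow_one]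
        exact Subgroup.Normal.mem_comm ‹_› (gam_anti (show j + 1 ≤ i + 2 by omega) (hWi h3))
      have h6 := W'.eigen h h4 (show 1 ≤ j by omega) (show j < n by omega)
        (hok.imp_left fun h' => by omega) hv hv' h5
      rw [← h6, Int.cast_one]
    have h3 := heig i (Or.inl rfl)
    have h5 := heig (i + 1) (Or.inr rfl)
    rw [show i + 1 - 1 = i - 1 + 1 by omega, pow_succ, ← mul_assoc, h3, one_mul] at h5
    rw [h5, one_pow, mul_one] at h3
    obtain ⟨m, hm⟩ := W'.pow_eq_one h h4 h5 h3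
    have h6 : τ ^ p ^ m = 1 := by
      have h7 : ∀ (j : ℕ) (a : lev G 1), (((τ ^ j) a : lev G 1) : G) = (Φ ^ j) a := by
        intro j
        induction j with
        | zero => intro a; rfl
        | succ j ih => intro a; rw [pow_succ, MulAut.mul_apply, pow_succ, MulAut.mul_apply, ih, hΦ]
      refine MulEquiv.ext fun a => Subtype.ext ?_
      rw [h7, hm]; rfl
    have h8 : orderOf (f τ) ∣ p ^ m := orderOf_dvd_of_pow_eq_one (by rw [← map_pow, h6, map_one])
    have h9 : orderOf (f τ) ∣ Nat.card (K.map f) := Subgroup.orderOf_dvd_natCard (s := K.map f) (mem_map_of_mem f hτ)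
    obtain ⟨r, -, hr⟩ := (Nat.dvd_prime_pow hp).1 h8
    rcases Nat.eq_zero_or_pos r with rfl | hr0
    · rwa [pow_zero, orderOf_eq_one_iff] at hr
    · exact absurd ((hr ▸ dvd_pow_self p hr0.ne').trans h9) hnd
  have hbot := eq_bot_of_fixedPointFree (show d < p by have := hp.two_le; omega) hnd hxk hxn hfix
  have hσK : σ ∈ Kf := ⟨⟨hσ, htriv⟩, by
    show f σ = 1
    exact mem_bot.1 (hbot ▸ mem_map_of_mem f (show σ ∈ K from ⟨hσ, htriv⟩))⟩
  obtain ⟨m, hm⟩ := hKfp ⟨σ, hσK⟩
  exact ⟨m, congrArg Subtype.val hm⟩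

end CfsgLib.MCFusion
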