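import Cfsg.Agent.Lib.MaxClassFusion.Lift
import Cfsg.Agent.Lib.MaxClassFusion.Kernel

/-!
# The automizer of the first two step centralizer
-/

set_option autoImplicit false
set_option linter.style.haveILetI false
set_option linter.unusedSectionVars false

open Subgroup
open scoped commutatorElement Classical

namespace CfsgLib.MCFusion

open Cfsg (FusionSystem autInducedBy)
open Cfsg.FusionSystem (normalizerIn centralizerIn)
open CfsgLib.Fusion
open CfsgLib.Fusion.MaxClassCubeSystem (sub mem_sub sub_le card_sub sub_subgroupOf)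
open CfsgLib.MaxClassShift (gam gam_normal gam_anti gam_one gam_comm)
open CfsgLib.MaxClassUniform (Uniform gam_le_twoStepAt)
open CfsgLib.PGroup.MaxClassRank (twoStepAt)
open CfsgLib.MaxClassEss

universe u

variable {Ω : Type u} [Group Ω] {S : Subgroup Ω} [Finite S] {p n : ℕ} [hpf : Fact p.Prime]

/-- The first two step centralizer as a subgroup of the ambient group. -/
noncomputable def topEquiv (S : Subgroup Ω) : lev S 1 ≃* sub (lev S 1) :=
  (lev S 1).equivMapOfInjective S.subtype S.subtype_injective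

/-- The automizer of the first two step centralizer. -/
noncomputable def autTop (F : FusionSystem S) : Subgroup (MulAut (lev S 1)) :=
  (F.autGroup (sub (lev S 1))).comap (MulAut.congr (topEquiv S)).toMonoidHom

theorem autFun_congr (σ : MulAut (lev S 1)) (a : lev S 1) :
    autFun (MulAut.congr (topEquiv S) σ) ((a : S) : Ω) = (((σ a : lev S 1) : S) : Ω) := by
  rw [show ((a : S) : Ω) = ((topEquiv S a : sub (lev S 1)) : Ω) from rfl, autFun_coe]
  show ((topEquiv S (σ ((topEquiv S).symm (topEquiv S a))) : sub (lev S 1)) : Ω) = _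
  rw [MulEquiv.symm_apply_apply]
  rfl

variable {F : FusionSystem S}

theorem exists_autTop {Φ : MulAut (sub (lev S 1))} (hΦ : Φ ∈ F.autGroup (sub (lev S 1))) :
    ∃ σ ∈ autTop F, ∀ a : lev S 1, (((σ a : lev S 1) : S) : Ω) = autFun Φ ((a : S) : Ω) := by
  obtain ⟨σ, rfl⟩ := (MulAut.congr (topEquiv S)).surjective Φ
  exact ⟨σ, hΦ, fun a => (autFun_congr σ a).symm⟩

variable {x : S} (hx : Uniform x p n)
include hx

/-- The conjugations on the first two step centralizer. -/
theorem exists_conjTop : ∃ c : S →* MulAut (lev S 1),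
    ∀ g a, ((c g a : lev S 1) : S) = g * (a : S) * g⁻¹ := by
  haveI := lev_normal hx 1
  exact ⟨MulAut.conjNormal, fun g a => MulAut.conjNormal_apply g a⟩

/-- The automizer and the conjugations form the top data. -/
theorem top_data (hF : F.IsSaturated p) {c : S →* MulAut (lev S 1)}
    (hc : ∀ g a, ((c g a : lev S 1) : S) = g * (a : S) * g⁻¹) : TopData p (autTop F) c := by
  set A := sub (lev S 1) with hA
  have hAS : A ≤ S := sub_le _
  haveI hn : (A.subgroupOf S).Normal := by
    rw [hA, show (sub (lev S 1)).subgroupOf S = lev S 1 from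
      comap_map_eq_self_of_injective S.subtype_injective _]
    exact lev_normal hx 1
  have hfn : F.IsFullyNormalized A := ⟨hAS, fun R _ => by
    rw [show normalizerIn S A = S from inf_eq_left.2 ((normal_subgroupOf_iff_le_normalizer hAS).1 hn)]
    exact card_le_of_le' le_rfl inf_le_left⟩
  obtain ⟨hauto, hrec⟩ := IsSaturated.automized_receptive hx.isPGroup hF hfn
  have hcg : ∀ (g : S) (a : lev S 1), autFun (MulAut.congr (topEquiv S) (c g)) ((a : S) : Ω)
      = (g : Ω) * ((a : S) : Ω) * (g : Ω)⁻¹ := fun g a => by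
    rw [autFun_congr, hc]; rfl
  have hind : ∀ g : S, MulAut.congr (topEquiv S) (c g) ∈ autInducedBy S A := fun g =>
    mem_autInducedBy_iff.2 ⟨g, g.2, by
      rintro _ ⟨v, hv, rfl⟩
      exact hcg g ⟨v, hv⟩⟩
  have hrange : c.range = (autInducedBy S A).comap (MulAut.congr (topEquiv S)).toMonoidHom := by
    refine le_antisymm ?_ fun σ hσ => ?_
    · rintro _ ⟨g, rfl⟩
      exact hind g
    · obtain ⟨g, hg, hge⟩ := mem_autInducedBy_iff.1 (show MulAut.congr (topEquiv S) σ ∈ _ from hσ)
      refine ⟨⟨g, hg⟩, MulEquiv.ext fun a => Subtype.ext (Subtype.ext ?_)⟩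
      have h1 : autFun (MulAut.congr (topEquiv S) σ) ((a : S) : Ω) = g * ((a : S) : Ω) * g⁻¹ :=
        hge _ (mem_map_of_mem S.subtype a.2)
      rw [← autFun_congr σ a, h1, hc]
      rfl
  refine ⟨hc, fun g => autInducedBy_le_autGroup hAS (hind g), ?_, fun σ hσ hn => ?_⟩
  · rw [hrange, relIndex_comap, autTop, map_comap_eq_self_of_surjective (MulEquiv.surjective _)]
    exact ((isFullyAutomized_iff hx.isPGroup).1 hauto).2
  · -- extension
    set α := MulAut.congr (topEquiv S) σ with hα
    obtain ⟨f, hf, hfa⟩ := (isReceptive_iff.1 hrec).2 A _ ((mem_autGroup_iff hAS).1 hσ) (img_autFun α)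
    have hle : S ≤ extSub S A (autFun α) := by
      intro g hg
      obtain ⟨k, hk⟩ := hn ⟨g, hg⟩
      refine mem_extSub.2 ⟨⟨hg, (normal_subgroupOf_iff_le_normalizer hAS).1 ‹_› hg⟩, k, k.2, ?_⟩
      rintro _ ⟨v, hv, rfl⟩
      set a : lev S 1 := ⟨v, hv⟩
      rw [show S.subtype v = ((a : S) : Ω) from rfl, autFun_congr σ a,
        show g * ((a : S) : Ω) * g⁻¹ = (((c ⟨g, hg⟩ a : lev S 1) : S) : Ω) by rw [hc]; rfl, autFun_congr]
      have h1 := DFunLike.congr_fun hk (σ a)
      rw [MulAut.mul_apply, MulAut.mul_apply, MulAut.inv_apply_self] at h1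
      rw [← h1, hc]
      rfl
    have hfS := hf.mono hle
    have himg : img S f = S := eq_of_le_of_card_le le_rfl hfS.img_le hfS.card_img.ge
    refine ⟨autOf hfS himg, fun a => Subtype.ext ?_⟩
    rw [← autFun_coe, autFun_autOf hfS himg (a : S).2]
    exact (hfa _ (mem_map_of_mem S.subtype a.2)).trans (autFun_congr σ a)

end CfsgLib.MCFusion
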