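import Cfsg.Agent.Lib.MaxClassFusion.Group

/-!
# The centralizer of the second centre in the exceptional case

Its automorphisms preserve every term of the series, and its quotient by a subgroup of order `p` of
the second centre other than the centre has maximal class.
-/

set_option autoImplicit false
set_option linter.style.haveILetI false
set_option linter.unusedSectionVars false

open Subgroup
open scoped commutatorElement Classical

namespace CfsgLib.MCFusion

open CfsgLib.MaxClassShift (gam gam_normal gam_anti gam_one gam_comm)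
open CfsgLib.MaxClassUniform (Uniform gam_le_twoStepAt)
open CfsgLib.PGroup.MaxClassRank (twoStepAt layer_gen pow_mem_two)
open CfsgLib.MaxClassEss

universe u

variable {G : Type u} [Group G] [Finite G] {p n : ℕ} [hpf : Fact p.Prime] {x : G}
  (h : Uniform x p n) (hex : twoStepAt G (n - 2) ≠ twoStepAt G 2)
include h hex

theorem exists_outer (h4 : 4 ≤ n) : ∃ y ∈ twoStepAt G (n - 2), y ∉ twoStepAt G 2 := by
  by_contra hcon
  push Not at hcon
  exact hex (twoStepAt_eq_of_le h (by omega) (by omega) le_rfl (by omega) hcon)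

theorem mem_gam_two_of_inner (h4 : 4 ≤ n) {v : G} (hv : v ∈ twoStepAt G (n - 2)) (hv' : v ∈ twoStepAt G 2) :
    v ∈ gam G 2 :=
  (inf_extremes h h4 hex).le ⟨hv', hv⟩

/-- The second centre is the centre of its centralizer. -/
theorem center_C2 (h6 : 6 ≤ n) {v : G} (hv : v ∈ twoStepAt G (n - 2)) :
    (∀ d ∈ twoStepAt G (n - 2), Commute v d) ↔ v ∈ gam G (n - 2) := by
  refine ⟨fun hc => ?_, fun hv2 d hd => (last_two_commute h hv2 hd).symm⟩
  by_cases hA : v ∈ twoStepAt G 2
  · have h2 := mem_gam_two_of_inner h hex (by omega) hv hA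
    by_contra hne
    obtain ⟨L, hL, hLn, hvL, hvL'⟩ := exists_level (show 2 ≤ n - 2 by omega) h2 hne
    obtain ⟨y, hy, hyA⟩ := exists_outer h hex (by omega)
    refine (step_level h (by omega) hyA (L := L) (by omega) (by omega) (Or.inl (by omega))
      (by rw [lev_eq hL]; exact hvL) hvL').2 ?_
    rw [commutatorElement_eq_one_iff_commute.2 (hc y hy).symm]; exact one_mem _
  · exfalso
    obtain ⟨w, hw, hw'⟩ := exists_layer h (k := 2) le_rfl (by omega)
    refine (step_level h (by omega) hA (L := 2) (by omega) (by omega) (Or.inl (by omega))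
      (by rw [lev_eq le_rfl]; exact hw) hw').2 ?_
    rw [commutatorElement_eq_one_iff_commute.2 (hc w (gam_le_twoStepAt h.isPGroup (by omega) hw))]
    exact one_mem _

/-- The terms from `γ₃` on. -/
theorem gam_C2 (h6 : 6 ≤ n) {k : ℕ} (hk : 3 ≤ k) (hkn : k + 3 ≤ n) {v : G} (hv : v ∈ twoStepAt G (n - 2)) :
    (∀ d ∈ twoStepAt G (n - 2), ⁅v, d⁆ ∈ gam G (k + 1)) ↔ v ∈ gam G k := by
  refine ⟨fun hc => ?_, fun hvk d _ => gam_comm (a := k) (b := 1) (by omega) le_rfl hvk (mem_top d)⟩
  by_cases hA : v ∈ twoStepAt G 2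
  · have h2 := mem_gam_two_of_inner h hex (by omega) hv hA
    by_contra hne
    obtain ⟨L, hL, hLn, hvL, hvL'⟩ := exists_level (show 2 ≤ k by omega) h2 hne
    obtain ⟨y, hy, hyA⟩ := exists_outer h hex (by omega)
    refine (step_level h (by omega) hyA (L := L) (by omega) (by omega) (Or.inl (by omega))
      (by rw [lev_eq hL]; exact hvL) hvL').2 ?_
    rw [← commutatorElement_inv]
    exact inv_mem (gam_anti (show L + 2 ≤ k + 1 by omega) (hc y hy))
  · exfalso
    obtain ⟨w, hw, hw'⟩ := exists_layer h (k := 2) le_rfl (by omega)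
    refine (step_level h (by omega) hA (L := 2) (by omega) (by omega) (Or.inl (by omega))
      (by rw [lev_eq le_rfl]; exact hw) hw').2 ?_
    exact gam_anti (show 2 + 2 ≤ k + 1 by omega) (hc w (gam_le_twoStepAt h.isPGroup (by omega) hw))

/-- The term `γ₂`. -/
theorem gam_two_C2 (h6 : 6 ≤ n) {v : G} (hv : v ∈ twoStepAt G (n - 2)) :
    (∀ w ∈ gam G (n - 4), ⁅v, w⁆ ∈ gam G (n - 1)) ↔ v ∈ gam G 2 := by
  refine ⟨fun hc => ?_, fun h2 w hw => ?_⟩
  · by_contra hne
    have hA : v ∉ twoStepAt G 2 := fun hA => hne (mem_gam_two_of_inner h hex (by omega) hv hA)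
    obtain ⟨w, hw, hw'⟩ := exists_layer h (k := n - 4) (by omega) (by omega)
    refine (step_level h (by omega) hA (L := n - 4) (by omega) (by omega) (Or.inl (by omega))
      (by rw [lev_eq (by omega)]; exact hw) hw').2 ?_
    exact gam_anti (by omega) (hc w hw)
  · have := comm_lev h (by omega) (i := 2) (k := n - 4) (by omega) (by omega) (by omega)
      (by rw [lev_eq le_rfl]; exact h2) (by rw [lev_eq (by omega)]; exact hw)
    rwa [show 2 + (n - 4) + 1 = n - 1 by omega] at this

/-- Automorphisms of the centralizer of the second centre preserve the series. -/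
theorem aut_C2_gam (h7 : 7 ≤ n) {k : ℕ} (hk : 2 ≤ k) (σ : MulAut (twoStepAt G (n - 2)))
    {v : twoStepAt G (n - 2)} (hv : (v : G) ∈ gam G k) : ((σ v : twoStepAt G (n - 2)) : G) ∈ gam G k := by
  have key : ∀ t k, 3 ≤ k → k + t = n - 2 → ∀ (τ : MulAut (twoStepAt G (n - 2))) (v : (twoStepAt G (n - 2))), (v : G) ∈ gam G k →
      ((τ v : (twoStepAt G (n - 2))) : G) ∈ gam G k := by
    intro t
    induction t with
    | zero =>
      intro k _ hkt τ v hv
      rw [show k = n - 2 by omega] at hv ⊢
      rw [← center_C2 h hex (by omega) (τ v).2]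
      intro d hd
      obtain ⟨d', hd'⟩ := τ.surjective ⟨d, hd⟩
      have h1 : Commute v d' := Subtype.ext ((center_C2 h hex (by omega) v.2).2 hv d' d'.2).eq
      rw [show d = ((τ d' : (twoStepAt G (n - 2))) : G) by rw [hd']]
      exact congrArg Subtype.val (h1.map (τ : (twoStepAt G (n - 2)) →* (twoStepAt G (n - 2)))).eq
    | succ t ih =>
      intro k hk hkt τ v hv
      rw [← gam_C2 h hex (by omega) hk (by omega) (τ v).2]
      intro d hd
      obtain ⟨d', hd'⟩ := τ.surjective ⟨d, hd⟩
      have h1 := ih (k + 1) (by omega) (by omega) τ ⁅v, d'⁆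
        ((gam_C2 h hex (by omega) hk (by omega) v.2).2 hv d' d'.2)
      rwa [map_commutatorElement, hd'] at h1
  -- the centre
  have hZ : ∀ v : (twoStepAt G (n - 2)), (v : G) ∈ gam G (n - 1) → ((σ v : (twoStepAt G (n - 2))) : G) ∈ gam G (n - 1) := by
    intro v hv
    obtain ⟨a, ha, ha'⟩ := exists_layer h (k := n - 4) (by omega) (by omega)
    obtain ⟨b, hb, hne⟩ := exists_pair h (by omega) hex (i := n - 4) (by omega) (by omega)
      (v := a) (by rw [lev_eq (by omega)]; exact ha) (by rwa [show n - 4 + 1 = n - 3 by omega] at ha' ⊢)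
    rw [show n - 1 - (n - 4) = 3 by omega, lev_eq (by omega)] at hb
    have haD : a ∈ (twoStepAt G (n - 2)) := gam_le_twoStepAt h.isPGroup (by omega) (gam_anti (show 2 ≤ n - 4 by omega) ha)
    have hbD : b ∈ (twoStepAt G (n - 2)) := gam_le_twoStepAt h.isPGroup (by omega) (gam_anti (show 2 ≤ 3 by omega) hb)
    set c : (twoStepAt G (n - 2)) := ⁅(⟨a, haD⟩ : (twoStepAt G (n - 2))), ⟨b, hbD⟩⁆ with hc
    have hce : (c : G) = ⁅a, b⁆ := rfl
    have hcZ : (c : G) ∈ gam G (n - 1) := by
      rw [hce]
      have := gam_comm (a := n - 4) (b := 3) (by omega) (by omega) ha hb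
      rwa [show n - 4 + 3 = n - 1 by omega] at this
    have hσc : ((σ c : (twoStepAt G (n - 2))) : G) ∈ gam G (n - 1) := by
      rw [hc, map_commutatorElement]
      have := gam_comm (a := n - 4) (b := 3) (by omega) (by omega)
        (key 2 (n - 4) (by omega) (by omega) σ ⟨a, haD⟩ ha) (key (n - 5) 3 le_rfl (by omega) σ ⟨b, hbD⟩ hb)
      rwa [show n - 4 + 3 = n - 1 by omega] at this
    have hcard : Nat.card (gam G (n - 1)) = p := by
      rw [h.card_gam (by omega) (by omega), show n - (n - 1) = 1 by omega, pow_one]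
    obtain ⟨i, hi⟩ := mem_zpowers_iff.1 (mem_zpowers_of_prime_card hcard (g := (⟨c, hcZ⟩ : gam G (n - 1)))
      (fun e => hne (hce.symm.trans (congrArg Subtype.val e))) (g' := ⟨v, hv⟩))
    have e : v = c ^ i := Subtype.ext (by
      rw [SubgroupClass.coe_zpow]; exact (congrArg Subtype.val hi).symm.trans rfl)
    rw [e, map_zpow, SubgroupClass.coe_zpow]
    exact zpow_mem hσc i
  rcases (show k = 2 ∨ (3 ≤ k ∧ k ≤ n - 2) ∨ k = n - 1 ∨ n ≤ k by omega) with rfl | h1 | rfl | h1
  · rw [← gam_two_C2 h hex (by omega) (σ v).2]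
    intro w hw
    have hwD : w ∈ (twoStepAt G (n - 2)) := gam_le_twoStepAt h.isPGroup (by omega) (gam_anti (show 2 ≤ n - 4 by omega) hw)
    have hw' := key 2 (n - 4) (by omega) (by omega) σ⁻¹ ⟨w, hwD⟩ hw
    have h1 := hZ ⁅v, σ⁻¹ ⟨w, hwD⟩⁆ ((gam_two_C2 h hex (by omega) v.2).2 hv _ hw')
    rwa [map_commutatorElement, MulAut.apply_inv_self] at h1
  · exact key (n - 2 - k) k h1.1 (by omega) σ v hv
  · exact hZ v hv
  · rw [h.gam_eq_bot h1, mem_bot] at hv
    rw [show v = 1 from Subtype.ext hv, map_one]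
    exact one_mem _

/-- An element moving the last but two layer outside a given line of the second centre. -/
theorem exists_outer_notMem (h6 : 6 ≤ n) {R : Subgroup G} (hR : R ⊓ gam G (n - 1) = ⊥) {v : G}
    (hv : v ∈ gam G (n - 3)) (hv' : v ∉ gam G (n - 2)) :
    ∃ y ∈ twoStepAt G (n - 2), y ∉ twoStepAt G 2 ∧ ⁅y, v⁆ ∉ R := by
  obtain ⟨y, hy, hyA⟩ := exists_outer h hex (by omega)
  by_cases hyR : ⁅y, v⁆ ∈ R
  · obtain ⟨e, he, hne⟩ := exists_pair h (by omega) hex (i := n - 3) (by omega) (by omega)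
      (v := v) (by rw [lev_eq (by omega)]; exact hv) (by rwa [show n - 3 + 1 = n - 2 by omega])
    rw [show n - 1 - (n - 3) = 2 by omega, lev_eq le_rfl] at he
    have hc : ⁅e, v⁆ ∈ gam G (n - 1) := by
      have := gam_comm (a := 2) (b := n - 3) (by omega) (by omega) he hv
      rwa [show 2 + (n - 3) = n - 1 by omega] at this
    refine ⟨y * e, mul_mem hy (gam_le_twoStepAt h.isPGroup (by omega) he), fun hh => hyA ?_, fun hh => ?_⟩
    · exact (Subgroup.mul_mem_cancel_right _ (gam_le_twoStepAt h.isPGroup (by omega) he)).1 hh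
    · rw [commutatorElement_mul_left_eq_conj_mul, comm_gam_central h hc y, mul_inv_cancel_right,
        Subgroup.mul_mem_cancel_right _ hyR] at hh
      have h1 : ⁅e, v⁆ = 1 := mem_bot.1 (hR.le ⟨hh, hc⟩)
      exact hne (by rw [← commutatorElement_inv, h1, inv_one])
  · exact ⟨y, hy, hyA, hyR⟩

/-- The quotient by a line of the second centre other than the centre has a uniform element. -/
theorem exists_uniform_quotient (h6 : 6 ≤ n) {R : Subgroup G} (hR2 : R ≤ gam G (n - 2))
    (hR : R ⊓ gam G (n - 1) = ⊥) (hRc : Nat.card R = p)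
    [(R.subgroupOf (twoStepAt G (n - 2))).Normal] :
    ∃ y : twoStepAt G (n - 2) ⧸ R.subgroupOf (twoStepAt G (n - 2)), Uniform y p (n - 2) := by
  have hp := hpf.out
  set R' := R.subgroupOf (twoStepAt G (n - 2)) with hR'
  have hRD : R ≤ (twoStepAt G (n - 2)) := hR2.trans ((gam_anti (by omega)).trans (gam_le_twoStepAt h.isPGroup (by omega)))
  obtain ⟨v, hv, hv'⟩ := exists_layer h (k := n - 3) (by omega) (by omega)
  rw [show n - 3 + 1 = n - 2 by omega] at hv'
  obtain ⟨y, hy, hyA, hyv⟩ := exists_outer_notMem h hex h6 hR hv hv'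
  have hvD : v ∈ (twoStepAt G (n - 2)) := gam_le_twoStepAt h.isPGroup (by omega) (gam_anti (by omega) hv)
  have hyv2 : ⁅y, v⁆ ∈ gam G (n - 2) := by
    have := gam_comm (a := 1) (b := n - 3) le_rfl (by omega) (mem_top y) hv
    rwa [show 1 + (n - 3) = n - 2 by omega] at this
  -- commuting with `y` modulo `R`
  have hdeep : ∀ c ∈ (twoStepAt G (n - 2)), ⁅y, c⁆ ∈ R → c ∈ gam G 2 → c ∈ gam G (n - 2) := by
    intro c hc hcR h2
    by_contra hne
    obtain ⟨L, hL, hLn, hcL, hcL'⟩ := exists_level (show 2 ≤ n - 2 by omega) h2 hne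
    rcases (show L + 4 ≤ n ∨ L = n - 3 by omega) with hL4 | rfl
    · exact (step_level h (by omega) hyA (L := L) (by omega) (by omega) (Or.inl (by omega))
        (by rw [lev_eq hL]; exact hcL) hcL').2 (gam_anti (by omega) (hR2 hcR))
    · rw [show n - 3 + 1 = n - 2 by omega] at hcL'
      obtain ⟨j, hj⟩ := layer_gen h.isPGroup h.card h.three h.class_eq (show 2 ≤ n - 3 by omega)
        (by omega) hv (by rwa [show n - 3 + 1 = n - 2 by omega]) hcL
      rw [show n - 3 + 1 = n - 2 by omega] at hj
      have e : c = v ^ j * ((v ^ j)⁻¹ * c) := by group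
      have h1 : ⁅y, c⁆ = ⁅y, v ^ j⁆ := by
        rw [e, commutatorElement_mul_right_eq_mul_conj,
          commutatorElement_eq_one_iff_commute.2 (last_two_commute h hj hy), mul_one, mul_inv_cancel_right]
      have hcy : Commute ⁅y, v⁆ v := (last_two_commute h hyv2 (show v ∈ (twoStepAt G (n - 2)) from hvD)).symm
      have h2 : ⁅y, v ^ j⁆ = ⁅y, v⁆ ^ j := by
        rw [commutatorElement_def, ← conj_zpow,
          show y * v * y⁻¹ = ⁅y, v⁆ * v by rw [commutatorElement_def]; group, hcy.mul_zpow,
          mul_inv_cancel_right]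
      have hndvd : ¬ (p : ℤ) ∣ j := by
        rintro ⟨t, rfl⟩
        refine hcL' ?_
        rw [zpow_mul, zpow_natCast] at e hj
        rw [e]
        refine mul_mem (zpow_mem (gam_anti (show n - 2 ≤ n - 3 + p - 1 by have := hp.two_le; omega)
          (h.pow_shift n (n - 3) (by omega) (by omega) v hv).1) t) hj
      have hcop : IsCoprime (p : ℤ) j := (Nat.prime_iff_prime_int.1 hp).coprime_iff_not_dvd.2 hndvd
      obtain ⟨a, b, hab⟩ := hcop
      refine hyv ?_
      rw [h1, h2] at hcR
      have hp1 : ⁅y, v⁆ ^ p = 1 := pow_eq_one_of_deep h (k := n - 2) (by omega)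
        (by have := (five_le_of_exc h (by omega) hex).1; omega) hyv2
      rw [show ⁅y, v⁆ = (⁅y, v⁆ ^ p) ^ a * (⁅y, v⁆ ^ j) ^ b by
        rw [← zpow_natCast, ← zpow_mul, ← zpow_mul, ← zpow_add, mul_comm _ a, mul_comm j b, hab, zpow_one],
        hp1, one_zpow, one_mul]
      exact zpow_mem hcR b
  have hcentR : ∀ r ∈ R, ∀ d ∈ (twoStepAt G (n - 2)), Commute d r := fun r hr d hd => last_two_commute h (hR2 hr) hd
  -- the centralizer
  set H := zpowers y ⊔ gam G (n - 2) with hH
  have hHD : H ≤ (twoStepAt G (n - 2)) := sup_le (zpowers_le.2 hy)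
    ((gam_anti (show 2 ≤ n - 2 by omega)).trans (gam_le_twoStepAt h.isPGroup (by omega)))
  set π := QuotientGroup.mk' R' with hπ
  have hyp : y ^ p ∈ gam G (n - 2) := hdeep _ (pow_mem hy p) (by
    rw [commutatorElement_eq_one_iff_commute.2 ((Commute.refl y).pow_right p)]; exact one_mem _)
    (pow_mem_two h.isPGroup h.card h.three h.class_eq y)
  have hcent : centralizer ({π ⟨y, hy⟩} : Set ((twoStepAt G (n - 2)) ⧸ R')) = (H.subgroupOf (twoStepAt G (n - 2))).map π := by
    ext q
    obtain ⟨c, rfl⟩ := QuotientGroup.mk'_surjective R' q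
    constructor
    · intro hq
      have hcR : ⁅y, (c : G)⁆ ∈ R := by
        have h1 := (mem_centralizer_singleton_iff.1 hq).symm
        rw [← commutatorElement_eq_one_iff_mul_comm, ← map_commutatorElement, QuotientGroup.mk'_apply,
          QuotientGroup.eq_one_iff] at h1
        exact h1
      obtain ⟨i, hi⟩ : ∃ i : ℤ, (y ^ i)⁻¹ * (c : G) ∈ gam G 2 := by
        haveI := twoStepAt_normal h (show 1 ≤ 2 by omega)
        set T := twoStepAt G 2 with hT
        have hcard : Nat.card (G ⧸ T) = p := by rw [← index_eq_card, index_twoStepAt h le_rfl (by omega)]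
        obtain ⟨i, hi⟩ := mem_zpowers_iff.1 (mem_zpowers_of_prime_card hcard
          (g := QuotientGroup.mk' T y) (fun e => hyA ((QuotientGroup.eq_one_iff _).1 e))
          (g' := QuotientGroup.mk' T (c : G)))
        refine ⟨i, mem_gam_two_of_inner h hex (by omega) (mul_mem (inv_mem (zpow_mem hy i)) c.2) ?_⟩
        rw [← QuotientGroup.eq_one_iff, QuotientGroup.mk_mul, QuotientGroup.mk_inv, QuotientGroup.mk_zpow,
          ← QuotientGroup.mk'_apply, ← QuotientGroup.mk'_apply, hi, inv_mul_cancel]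
      have h1 : ⁅y, (y ^ i)⁻¹ * (c : G)⁆ ∈ R := by
        rw [commutatorElement_mul_right_eq_mul_conj,
          commutatorElement_eq_one_iff_commute.2 (((Commute.refl y).zpow_right i).inv_right), one_mul,
          inv_inv, (hcentR _ hcR _ (inv_mem (zpow_mem hy i))).eq, mul_assoc, inv_mul_cancel, mul_one]
        exact hcR
      have h3 : (c : G) ∈ H := by
        rw [show (c : G) = y ^ i * ((y ^ i)⁻¹ * (c : G)) by group]
        exact mul_mem (mem_sup_left (zpow_mem (mem_zpowers y) i))
          (mem_sup_right (hdeep _ (mul_mem (inv_mem (zpow_mem hy i)) c.2) h1 hi))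
      exact mem_map_of_mem π (mem_subgroupOf.2 h3)
    · rintro ⟨c', hc', e⟩
      rw [← e]
      refine mem_centralizer_singleton_iff.2 ?_
      have h1 : H ≤ centralizer ({y} : Set G) := sup_le (zpowers_le.2 (mem_centralizer_singleton_iff.2 rfl))
        fun w hw => mem_centralizer_singleton_iff.2 (last_two_commute h hw hy).eq.symm
      rw [← map_mul, ← map_mul]
      exact congrArg π (Subtype.ext (mem_centralizer_singleton_iff.1 (h1 (mem_subgroupOf.1 hc'))))
  refine ⟨π ⟨y, hy⟩, ⟨?_, ?_, by omega⟩⟩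
  · have e := card_eq_card_quotient_mul_card_subgroup R'
    have e2 := (twoStepAt G (n - 2)).card_mul_index
    rw [index_twoStepAt h (by omega) (by omega), h.card,
      show p ^ n = p ^ (n - 2) * p * p by rw [← pow_succ, ← pow_succ]; congr 1; omega] at e2
    rw [hR', Nat.card_congr (subgroupOfEquivOfLe hRD).toEquiv, hRc, Nat.eq_of_mul_eq_mul_right hp.pos e2] at e
    exact Nat.eq_of_mul_eq_mul_right hp.pos e.symm
  · rw [hcent]
    have e1 : Nat.card ((H.subgroupOf (twoStepAt G (n - 2))).map π) * p = Nat.card H := by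
      rw [← relIndex_ker, hπ, QuotientGroup.ker_mk', hR',
        relIndex_subgroupOf hHD, mul_comm, ← hRc, ← relIndex_bot_left, ← relIndex_bot_left,
        relIndex_mul_relIndex ⊥ R H bot_le (hR2.trans le_sup_right)]
    have e2 : Nat.card H = p * p ^ 2 := by
      have hZ : Nat.card (gam G (n - 2)) = p ^ 2 := by
        rw [h.card_gam (by omega) (by omega)]; congr 1; omega
      have hlt : gam G (n - 2) < H := lt_of_le_of_ne le_sup_right fun e =>
        hyA (gam_le_twoStepAt h.isPGroup (by omega)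
          (gam_anti (show 2 ≤ n - 2 by omega) (e.ge (mem_sup_left (mem_zpowers y)))))
      refine le_antisymm ?_ (by rw [← hZ]; exact CfsgLib.MaxClassCube.mul_card_le h.isPGroup hlt)
      haveI : (gam G (n - 2)).Normal := gam_normal _
      have hsurj : ∀ c ∈ H, ∃ a : Fin p, ∃ w : gam G (n - 2), y ^ (a : ℕ) * (w : G) = c := by
        intro c hc
        obtain ⟨y', hy', w, hw, rfl⟩ := mem_sup_of_normal_right.1 hc
        obtain ⟨i, rfl⟩ := mem_zpowers_iff.1 hy'
        have hp0 : (p : ℤ) ≠ 0 := by exact_mod_cast hp.ne_zero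
        refine ⟨⟨(i % p).toNat, ?_⟩, ⟨(y ^ p) ^ (i / p) * w, mul_mem (zpow_mem hyp _) hw⟩, ?_⟩
        · have := Int.emod_lt_of_pos i (show (0 : ℤ) < p by exact_mod_cast hp.pos)
          have := Int.emod_nonneg i hp0
          omega
        · simp only []
          rw [← zpow_natCast, Int.toNat_of_nonneg (Int.emod_nonneg i hp0), ← mul_assoc, ← zpow_natCast,
            ← zpow_mul, ← zpow_add, Int.emod_add_mul_ediv]
      let f : Fin p × gam G (n - 2) → H := fun aw => ⟨y ^ (aw.1 : ℕ) * (aw.2 : G),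
        mul_mem (mem_sup_left (pow_mem (mem_zpowers y) _)) (mem_sup_right aw.2.2)⟩
      have hf : Function.Surjective f := fun c => by
        obtain ⟨a, w, e⟩ := hsurj c c.2
        exact ⟨(a, w), Subtype.ext e⟩
      refine (Nat.card_le_card_of_surjective f hf).trans_eq ?_
      rw [Nat.card_prod, Nat.card_fin, hZ]
    rw [e2, mul_comm] at e1
    exact Nat.eq_of_mul_eq_mul_left hp.pos e1

/-- Such quotients have no uniform element in `γ₂`. -/
theorem not_uniform_gam_two (h8 : 8 ≤ n) {R : Subgroup G} (hR2 : R ≤ gam G (n - 2)) (hRc : Nat.card R = p)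
    [(R.subgroupOf (twoStepAt G (n - 2))).Normal] {g : twoStepAt G (n - 2)} (hg : (g : G) ∈ gam G 2) :
    ¬ Uniform (g : twoStepAt G (n - 2) ⧸ R.subgroupOf (twoStepAt G (n - 2))) p (n - 2) := by
  have hp := hpf.out
  intro hu
  set π := QuotientGroup.mk' (R.subgroupOf (twoStepAt G (n - 2))) with hπ
  -- a large subgroup centralizing `g`
  obtain ⟨C, hCD, hRC, hgC, hcard⟩ : ∃ C : Subgroup G, C ≤ (twoStepAt G (n - 2)) ∧ R ≤ C ∧ (∀ c ∈ C, Commute (g : G) c) ∧
      p ^ 4 ≤ Nat.card C := by
    have hg2 : gam G 2 ≤ (twoStepAt G (n - 2)) := gam_le_twoStepAt h.isPGroup (by omega)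
    by_cases hgd : (g : G) ∈ gam G (n - 4)
    · refine ⟨gam G 4, (gam_anti (by omega)).trans hg2, hR2.trans (gam_anti (by omega)),
        fun c hc => commute_of_deep h (by omega) (by omega) (by omega) hgd hc, ?_⟩
      rw [h.card_gam (by omega) (by omega)]
      exact Nat.pow_le_pow_right hp.pos (by omega)
    · let f : gam G (n - 4) →* G := MonoidHom.mk' (fun w => ⁅(g : G), (w : G)⁆) fun a b => by
        have hz : ⁅(g : G), (b : G)⁆ ∈ gam G (n - 1) := by
          have := comm_lev h (by omega) (i := 2) (k := n - 4) (by omega) (by omega) (by omega)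
            (by rw [lev_eq le_rfl]; exact hg) (by rw [lev_eq (by omega)]; exact b.2)
          rwa [show 2 + (n - 4) + 1 = n - 1 by omega] at this
        rw [Subgroup.coe_mul, commutatorElement_mul_right_eq_mul_conj, mul_assoc _ (a : G),
          comm_gam_central h hz, mul_assoc, mul_inv_cancel_right]
      have hrange : f.range ≤ gam G (n - 1) := by
        rintro _ ⟨w, rfl⟩
        have := comm_lev h (by omega) (i := 2) (k := n - 4) (by omega) (by omega) (by omega)
          (by rw [lev_eq le_rfl]; exact hg) (by rw [lev_eq (by omega)]; exact w.2)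
        rwa [show 2 + (n - 4) + 1 = n - 1 by omega] at this
      set K := f.ker.map (gam G (n - 4)).subtype with hK
      have hKc : p ^ 3 ≤ Nat.card K := by
        rw [hK, card_map_of_injective (gam G (n - 4)).subtype_injective]
        have e := f.ker.card_mul_index
        rw [index_ker, h.card_gam (show 2 ≤ n - 4 by omega) (by omega), show n - (n - 4) = 3 + 1 by omega,
          pow_succ] at e
        have hr : Nat.card f.range ≤ p := by
          refine (card_le_of_le hrange).trans_eq ?_
          rw [h.card_gam (by omega) (by omega), show n - (n - 1) = 1 by omega, pow_one]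
        refine Nat.le_of_mul_le_mul_right (e ▸ Nat.mul_le_mul_left _ hr) hp.pos
      have hKgam : K ≤ gam G (n - 4) := map_subtype_le _
      refine ⟨zpowers (g : G) ⊔ K, sup_le (zpowers_le.2 g.2) (hKgam.trans ((gam_anti (by omega)).trans hg2)),
        fun r hr => mem_sup_right ⟨⟨r, gam_anti (by omega) (hR2 hr)⟩, ?_, rfl⟩, ?_, ?_⟩
      · show ⁅(g : G), r⁆ = 1
        exact commutatorElement_eq_one_iff_commute.2 (last_two_commute h (hR2 hr) g.2)
      · intro c hc
        have h1 : zpowers (g : G) ⊔ K ≤ centralizer ({(g : G)} : Set G) :=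
          sup_le (zpowers_le.2 (mem_centralizer_singleton_iff.2 rfl)) (by
            rintro _ ⟨w, hw, rfl⟩
            exact mem_centralizer_singleton_iff.2 (commutatorElement_eq_one_iff_mul_comm.1 hw).symm)
        exact (mem_centralizer_singleton_iff.1 (h1 hc)).symm
      · have hlt : K < zpowers (g : G) ⊔ K :=
          lt_of_le_of_ne le_sup_right fun e => hgd (hKgam (e.ge (mem_sup_left (mem_zpowers _))))
        calc p ^ 4 = p * p ^ 3 := pow_succ' p 3
          _ ≤ p * Nat.card K := Nat.mul_le_mul_left p hKc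
          _ ≤ _ := CfsgLib.MaxClassCube.mul_card_le h.isPGroup hlt
  have h1 : (C.subgroupOf (twoStepAt G (n - 2))).map π ≤ centralizer ({(g : (twoStepAt G (n - 2)) ⧸ R.subgroupOf (twoStepAt G (n - 2)))} : Set _) := by
    rintro _ ⟨c, hc, rfl⟩
    refine mem_centralizer_singleton_iff.2 ?_
    rw [← QuotientGroup.mk'_apply, ← hπ, ← map_mul, ← map_mul]
    exact congrArg π (Subtype.ext (hgC c (mem_subgroupOf.1 hc)).eq.symm)
  have h2 := card_le_of_le h1
  rw [hu.cent] at h2
  have e1 : Nat.card ((C.subgroupOf (twoStepAt G (n - 2))).map π) * p = Nat.card C := by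
    rw [← relIndex_ker, hπ, QuotientGroup.ker_mk',
      relIndex_subgroupOf hCD, mul_comm, ← hRc, ← relIndex_bot_left, ← relIndex_bot_left,
      relIndex_mul_relIndex ⊥ R C bot_le hRC]
  have h3 : p ^ 4 ≤ p ^ 2 * p := hcard.trans (e1 ▸ Nat.mul_le_mul_right p h2)
  rw [← pow_succ, Nat.pow_le_pow_iff_right hp.one_lt] at h3
  omega

end CfsgLib.MCFusion
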