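import Cfsg.Agent.Lib.Fusion.System.Quotient
import Cfsg.Agent.Lib.Fusion.System.Alperin
import Cfsg.Agent.Lib.Fusion.System.KNormalizer
import Cfsg.Agent.Lib.Fusion.System.EssentialCube
import Cfsg.Agent.Lib.Fusion.System.MaxClassCubeSystem
import Cfsg.Agent.Lib.RegUnip.Flag

/-!
# Essential subgroups in centralizer systems and their central quotients
-/

set_option autoImplicit false
set_option linter.style.haveILetI false
set_option linter.unusedSectionVars false

open Subgroup
open scoped Classical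

namespace CfsgLib.MCFusion

open Cfsg (FusionSystem autInducedBy)
open Cfsg.FusionSystem (normalizerIn centralizerIn preimageAlong)
open CfsgLib.Fusion
open CfsgLib.Fusion.MaxClassCubeSystem (sub mem_sub sub_normalizer sub_subgroupOf)

variable {Ω : Type*} [Group Ω] {S : Subgroup Ω} [Finite S] {p : ℕ} [hpf : Fact p.Prime]
  {F : FusionSystem S} {E : Subgroup Ω}

theorem isCentralizerSystem_cSystem {Q : Subgroup Ω} (hQ : Q ≤ S) :
    F.IsCentralizerSystem Q (cSystem F (centralizerIn S Q) Q le_rfl hQ) := fun _ =>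
  Set.ext fun _ => mem_hom_iff.trans (isMap_cSystem_iff.trans mem_centralizerHom_iff.symm)

/-- An essential subgroup with an automorphism outside the extendable ones fixing `Q` is essential in
the centralizer system of `Q`. -/
theorem cent_essential (hS : IsPGroup p S) (hF : F.IsSaturated p) (hE : F.IsEssential p E) (hES : E < S)
    {Q : Subgroup Ω} (hQE : Q ≤ E) (hQ : F.IsFullyCentralized Q)
    (hN : normalizerIn S E ≤ centralizerIn S Q) {g : MulAut E} (hg : g ∈ F.autGroup E)
    (hgM : g ∉ extGroup F E) (hfix : ∀ r ∈ Q, autFun g r = r) :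
    (cSystem F (centralizerIn S Q) Q le_rfl hQ.1).IsSaturated p ∧
      (cSystem F (centralizerIn S Q) Q le_rfl hQ.1).IsEssential p E := by
  haveI : Finite (centralizerIn S Q) := finite_of_le inf_le_left
  have hsat := isSaturated_centralizerSystem hS hF hQ (isCentralizerSystem_cSystem hQ.1)
  have hTp : IsPGroup p (centralizerIn S Q) := hS.to_le inf_le_left
  have hET : E ≤ centralizerIn S Q := (le_normalizerIn hE.1.1).trans hN
  refine ⟨hsat, isEssential_of_extGroup_ne hTp hsat ?_ ⟨hET, fun R hR => ?_⟩ fun he => hgM ?_⟩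
  · refine lt_of_le_of_ne hET fun e => ?_
    exact (lt_normalizerIn hS hE.1.1 hES.ne).ne (le_antisymm (le_normalizerIn hE.1.1) (hN.trans e.ge))
  · obtain ⟨f, hf, rfl⟩ := isConj_iff.1 hR
    have h1 := hE.2.1.2 _ (isConj_iff.2 ⟨f, (isMap_cSystem_iff.1 hf).isMap, rfl⟩)
    refine (card_le_of_le' inf_le_left (inf_le_inf_right _ inf_le_left)).trans (h1.trans ?_)
    refine card_le_of_le' inf_le_left (le_inf hN inf_le_right)
  · have hgC : g ∈ (cSystem F (centralizerIn S Q) Q le_rfl hQ.1).autGroup E := by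
      refine (mem_autGroup_iff hET).2 (isMap_cSystem_iff.2 ⟨hET, fun x hx => hET (autFun_mem g hx), autFun g,
        ((mem_autGroup_iff hE.1.1).1 hg).mono (sup_le le_rfl hQE), fun x _ => rfl, hfix⟩)
    rw [← he] at hgC
    refine (closure_le _).2 ?_ hgC
    rintro α ⟨R, f, hR, hf, hfa⟩
    exact mem_extGroup hR (isMap_cSystem_iff.1 hf).isMap hfa

/-- Central subgroups of a centralizer system. -/
theorem cSystem_fix {Q R : Subgroup Ω} (hQ : Q ≤ S) (hQT : Q ≤ centralizerIn S Q) (hRQ : R ≤ Q)
    {P : Subgroup Ω} {f : Ω → Ω} (hf : IsMap (cSystem F (centralizerIn S Q) Q le_rfl hQ) P f) :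
    ∃ g, IsMap (cSystem F (centralizerIn S Q) Q le_rfl hQ) (P ⊔ R) g ∧ (∀ x ∈ P, g x = f x) ∧
      ∀ r ∈ R, g r = r := by
  obtain ⟨h1, h2, k, hk, hkf, hkQ⟩ := isMap_cSystem_iff.1 hf
  have hle : P ⊔ R ≤ P ⊔ Q := sup_le_sup_left hRQ P
  refine ⟨k, isMap_cSystem_iff.2 ⟨sup_le h1 (hRQ.trans hQT), fun z hz => ?_, k,
    hk.mono (sup_le hle le_sup_right), fun _ _ => rfl, hkQ⟩, hkf, fun r hr => hkQ r (hRQ hr)⟩
  exact (hk.mono hle).map_mem_of_sup (fun x hx => hkf x hx ▸ h2 x hx)
    (fun x hx => (hkQ x (hRQ hx)).symm ▸ hQT (hRQ hx)) hz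

variable {T : Subgroup Ω} [Finite T] {C : FusionSystem T} {R : Subgroup Ω} [(R.subgroupOf T).Normal]

theorem preimageAlong_mk_bot (hRT : R ≤ T) :
    preimageAlong (QuotientGroup.mk' (R.subgroupOf T)) ⊥ = R := by
  ext x
  rw [mem_preimageAlong]
  constructor
  · rintro ⟨hx, h⟩
    rw [ext1_apply _ hx, mem_bot] at h
    exact mem_subgroupOf.1 ((QuotientGroup.eq_one_iff _).1 h)
  · intro hx
    refine ⟨hRT hx, ?_⟩
    rw [ext1_apply _ (hRT hx), mem_bot]
    exact (QuotientGroup.eq_one_iff _).2 (mem_subgroupOf.2 hx)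

/-- An essential subgroup stays essential modulo a central subgroup of the system inside it. -/
theorem quot_essential (hT : IsPGroup p T) (hC : C.IsSaturated p) (hE : C.IsEssential p E) (hET : E < T)
    (hRE : R ≤ E) (hR : ∀ (P : Subgroup Ω) (f : Ω → Ω), IsMap C P f →
      ∃ g, IsMap C (P ⊔ R) g ∧ (∀ x ∈ P, g x = f x) ∧ ∀ r ∈ R, g r = r) :
    ∃ hK : C.IsNormal (preimageAlong (QuotientGroup.mk' (R.subgroupOf T)) ⊥),
      (quotientSystem hK).IsSaturated p ∧
        (quotientSystem hK).IsEssential p (imgι (QuotientGroup.mk' (R.subgroupOf T)) E) := by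
  set α := QuotientGroup.mk' (R.subgroupOf T) with hα
  have hES := hE.1.1
  have hK0 : preimageAlong α ⊥ = R := preimageAlong_mk_bot (hRE.trans hES)
  have hK : C.IsNormal (preimageAlong α ⊥) := by
    rw [hK0]
    exact isNormal_iff.2 ⟨hRE.trans hES, fun P f hf => by
      obtain ⟨g, hg, hgf, hgR⟩ := hR P f hf
      exact ⟨g, hg, hgf, img_eq_self_of_fix hgR⟩⟩
  have hsat := isSaturated_quotientSystem hK hT hC
  have hsm := quotientSystem_surjective hK
  haveI : Finite α.range := Finite.of_surjective _ α.rangeRestrict_surjective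
  have hT'p : IsPGroup p α.range := hT.of_surjective _ α.rangeRestrict_surjective
  set E' := imgι α E with hE'
  have hkE : preimageAlong α ⊥ ≤ E := hK0.le.trans hRE
  have hpre : preimageAlong α E' = E := preimageAlong_imgι hES hkE
  have hE'le : E' ≤ α.range := imgι_le_range E
  have hsurj : Function.Surjective α := QuotientGroup.mk'_surjective _
  -- normalizers
  have hnorm : ∀ P' : Subgroup _, preimageAlong α (normalizerIn α.range P')
      = normalizerIn T (preimageAlong α P') := by
    intro P'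
    show sub ((normalizerIn α.range P').comap α) = normalizerIn T (sub (P'.comap α))
    rw [← sub_normalizer, ← comap_normalizer_eq_of_surjective _ hsurj]
    congr 1
    rw [Cfsg.FusionSystem.normalizerIn, MonoidHom.range_eq_top.2 hsurj, top_inf_eq]
  have hcard : ∀ P' : Subgroup _, Nat.card (preimageAlong α P') = Nat.card R * Nat.card P' := by
    intro P'
    have hker : α.ker ≤ P'.comap α := MonoidHom.ker_le_comap α P'
    have h1 := relIndex_mul_relIndex ⊥ α.ker (P'.comap α) bot_le hker
    rw [relIndex_bot_left, relIndex_bot_left, relIndex_ker, map_comap_eq_self_of_surjective hsurj, hα,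
      QuotientGroup.ker_mk', Nat.card_congr (subgroupOfEquivOfLe (hRE.trans hES)).toEquiv] at h1
    rw [show preimageAlong α P' = (P'.comap α).map T.subtype from rfl,
      card_map_of_injective T.subtype_injective, ← h1]
  refine ⟨hK, hsat, isEssential_of_extGroup_ne hT'p hsat ?_ ⟨hE'le, fun Q' hQ' => ?_⟩ fun he => ?_⟩
  · refine lt_of_le_of_ne hE'le fun e => hET.ne (le_antisymm hES fun x hx => ?_)
    rw [← hpre]
    exact mem_preimageAlong.2 ⟨hx, e ▸ ext1_mem_range α x⟩
  · obtain ⟨f', hf', rfl⟩ := isConj_iff.1 hQ'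
    obtain ⟨f, hf, hfe⟩ := exists_lift_map hsm hf'
    rw [hpre] at hf hfe
    have himg : preimageAlong α (img E' f') = img E f := by
      refine le_antisymm (fun x hx => ?_) fun x hx => ?_
      · obtain ⟨hxT, hx'⟩ := mem_preimageAlong.1 hx
        obtain ⟨y, hy, hyx⟩ := hf'.mem_img.1 hx'
        obtain ⟨z, hz, rfl⟩ := (mem_imgι hES).1 hy
        rw [← hfe z hz] at hyx
        have h1 := kernel_le_img_map hK hf hkE ((ext1_eq_iff (hf.mem_S hz) hxT).1 hyx)
        have h2 := mul_mem (hf.mem_img.2 ⟨z, hz, rfl⟩ : f z ∈ img E f) h1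
        rwa [mul_inv_cancel_left] at h2
      · obtain ⟨z, hz, rfl⟩ := hf.mem_img.1 hx
        exact mem_preimageAlong.2 ⟨hf.mem_S hz, hf'.mem_img.2
          ⟨ext1 α z, ext1_mem_imgι hES hz, (hfe z hz).symm⟩⟩
    have h1 := hE.2.1.2 _ (isConj_iff.2 ⟨f, hf, rfl⟩)
    rw [← himg, ← hpre, ← hnorm, ← hnorm, hcard, hcard] at h1
    haveI := finite_of_le (hRE.trans hES)
    exact Nat.le_of_mul_le_mul_left h1 Nat.card_pos
  · -- automorphisms
    obtain ⟨g, hg, hgM⟩ : ∃ g ∈ C.autGroup E, g ∉ extGroup C E := by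
      by_contra hcon
      push Not at hcon
      exact extGroup_ne_autGroup hT hC hE (le_antisymm (extGroup_le_autGroup hES) hcon)
    let Rel : MulAut E → MulAut E' → Prop := fun a b =>
      ∀ x ∈ E, autFun b (ext1 α x) = ext1 α (autFun a x)
    obtain ⟨g', hg', hge⟩ := exists_image_map hsm ((mem_autGroup_iff hES).1 hg)
    have himg' : img E' g' = E' := by
      refine img_eq_of_map_le hE'le hg' le_rfl fun y hy => ?_
      obtain ⟨z, hz, rfl⟩ := (mem_imgι hES).1 hy
      rw [hge z hz]
      exact ext1_mem_imgι hES (autFun_mem g hz)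
    have hb := autOf_mem hg' himg'
    rw [← he] at hb
    let B : Subgroup (MulAut E') :=
      { carrier := {b | ∃ a ∈ extGroup C E, Rel a b}
        one_mem' := ⟨1, one_mem _, fun x hx => by rw [autFun_one hx, autFun_one (ext1_mem_imgι hES hx)]⟩
        mul_mem' := fun {b c} ⟨a, ha, hab⟩ ⟨d, hd, hdc⟩ => ⟨a * d, mul_mem ha hd, fun x hx => by
          rw [autFun_mul _ _ (ext1_mem_imgι hES hx), autFun_mul _ _ hx, hdc x hx, hab _ (autFun_mem d hx)]⟩
        inv_mem' := fun {b} ⟨a, ha, hab⟩ => ⟨a⁻¹, inv_mem ha, fun x hx => by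
          have h1 := hab _ (autFun_mem a⁻¹ hx)
          rw [← autFun_mul _ _ hx, mul_inv_cancel, autFun_one hx] at h1
          rw [← h1, ← autFun_mul _ _ (ext1_mem_imgι hES (autFun_mem a⁻¹ hx)), inv_mul_cancel,
            autFun_one (ext1_mem_imgι hES (autFun_mem a⁻¹ hx))]⟩ }
    have hgB : extGroup (quotientSystem hK) E' ≤ B := by
      refine (closure_le _).2 ?_
      rintro b ⟨Q', f', hQ', hf', hfb⟩
      obtain ⟨f, hf, hfe⟩ := exists_lift_map hsm hf'
      have hlt : E < preimageAlong α Q' := by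
        refine lt_of_le_of_ne (hpre.ge.trans (preimageAlong_mono hQ'.le)) fun e => hQ'.ne ?_
        rw [← imgι_preimageAlong hf'.le, ← e]
      have hfE : ∀ x ∈ E, ext1 α (f x) = autFun b (ext1 α x) := fun x hx => by
        rw [hfe x (hlt.le hx), hfb _ (ext1_mem_imgι hES hx)]
      have himgE : img E f = E := by
        refine img_eq_of_map_le hES hf hlt.le fun x hx => ?_
        rw [← hpre]
        exact mem_preimageAlong.2 ⟨hf.mem_S (hlt.le hx),
          hfE x hx ▸ autFun_mem b (ext1_mem_imgι hES hx)⟩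
      refine ⟨autOf (hf.mono hlt.le) himgE, mem_extGroup hlt hf fun x hx => (autFun_autOf _ _ hx).symm,
        fun x hx => ?_⟩
      rw [autFun_autOf _ _ hx, hfE x hx]
    obtain ⟨a, ha, hab⟩ := hgB hb
    -- the difference
    haveI := finite_of_le hES
    haveI := finite_mulAut (P := E)
    have haX := extGroup_le_autGroup hES ha
    have hfixR : ∀ k ∈ C.autGroup E, ∀ r ∈ R, autFun k r = r := by
      intro k hk r hr
      obtain ⟨k', -, hk', hk'R⟩ := hR E _ ((mem_autGroup_iff hES).1 hk)
      rw [← hk' r (hRE hr), hk'R r hr]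
    set K : Subgroup (C.autGroup E) := CfsgLib.RegUnip.subgroupOfFinite
      {k | ∀ x ∈ E, x⁻¹ * autFun (k : MulAut E) x ∈ R}
      (fun x hx => by rw [OneMemClass.coe_one, autFun_one hx, inv_mul_cancel]; exact one_mem R)
      (fun {k l} hk hl x hx => by
        rw [Subgroup.coe_mul, autFun_mul _ _ hx]
        have h1 := mul_mem (hl x hx) (hk _ (autFun_mem (l : MulAut E) hx))
        rwa [mul_assoc, mul_inv_cancel_left] at h1) with hKdef
    have hKm : ∀ {k}, k ∈ K → ∀ x ∈ E, x⁻¹ * autFun (k : MulAut E) x ∈ R := fun hk => hk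
    have hKn : K.Normal := ⟨fun k hk c x hx => by
      have h1 := hKm hk _ (autFun_mem ((c : MulAut E)⁻¹) hx)
      have hcm := (mem_autGroup_iff hES).1 c.2
      have h2 := hfixR c c.2 _ h1
      rw [hcm.map_mul (inv_mem (autFun_mem _ hx)) (autFun_mem _ (autFun_mem _ hx)),
        hcm.map_inv (autFun_mem _ hx)] at h2
      rw [Subgroup.coe_mul, Subgroup.coe_mul, Subgroup.coe_inv, autFun_mul _ _ hx,
        autFun_mul _ _ (autFun_mem _ hx)]
      rw [← autFun_mul (c : MulAut E) ((c : MulAut E)⁻¹) hx, mul_inv_cancel, autFun_one hx] at h2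
      exact h2.symm ▸ h1⟩
    have hRp : IsPGroup p R := hT.to_le (hRE.trans hES)
    have hKp : IsPGroup p K := fun k => by
      haveI := finite_of_le (hRE.trans hES)
      obtain ⟨j, hj⟩ := hRp.exists_card_eq
      refine ⟨j, Subtype.ext (Subtype.ext (autFun_ext (P := E) fun x hx => ?_))⟩
      have hpow : ∀ m : ℕ, autFun (((k : C.autGroup E) : MulAut E) ^ m) x
          = x * (x⁻¹ * autFun ((k : C.autGroup E) : MulAut E) x) ^ m := by
        intro m
        induction m with
        | zero => rw [pow_zero, pow_zero, mul_one, autFun_one hx]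
        | succ m ih =>
          have hkm := (mem_autGroup_iff hES).1 (k : C.autGroup E).2
          rw [pow_succ', autFun_mul _ _ hx, ih,
            hkm.map_mul hx (pow_mem (mul_mem (inv_mem hx) (autFun_mem _ hx)) m),
            hfixR _ (k : C.autGroup E).2 _ (pow_mem (hKm k.2 x hx) m), pow_succ', ← mul_assoc,
            mul_inv_cancel_left]
      have h1 := congrArg Subtype.val (pow_card_eq_one' (x := (⟨_, hKm k.2 x hx⟩ : R)))
      rw [hj, SubgroupClass.coe_pow, OneMemClass.coe_one] at h1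
      rw [SubgroupClass.coe_pow, SubgroupClass.coe_pow, hpow, h1, mul_one, OneMemClass.coe_one,
        OneMemClass.coe_one, autFun_one hx]
    have hmem : (⟨a⁻¹ * g, mul_mem (inv_mem haX) hg⟩ : C.autGroup E) ∈ K := by
      intro x hx
      show x⁻¹ * autFun (a⁻¹ * g) x ∈ R
      rw [autFun_mul _ _ hx, ← hK0]
      refine (ext1_eq_iff (hES hx) (hES (autFun_mem _ (autFun_mem g hx)))).1 ?_
      have hy := autFun_mem a⁻¹ (autFun_mem g hx)
      have h1 : ext1 α (autFun a x) = ext1 α (autFun g x) := by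
        rw [← hab x hx, autFun_autOf hg' himg' (ext1_mem_imgι hES hx), hge x hx]
      have hia := ((mem_autGroup_iff hES).1 (inv_mem haX))
      have h2 := (ext1_map_eq_iff hK hia hkE (autFun_mem a hx) (autFun_mem g hx)).2 h1
      rwa [← autFun_mul _ _ hx, inv_mul_cancel, autFun_one hx] at h2
    have h1 := CfsgLib.PGroup.le_pCore hKn hKp hmem
    rw [(CfsgLib.Fusion.EssentialCube.autGroup_data hT hE).1] at h1
    have h2 : a⁻¹ * g ∈ extGroup C E := inn_le_extGroup hT hET (mem_subgroupOf.1 h1)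
    exact hgM (by simpa using mul_mem ha h2)

end CfsgLib.MCFusion
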