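import Cfsg.Agent.Lib.MaxClassFusion.Pair

/-!
# A central transvection in a Sylow subgroup of an embedded pair
-/

set_option autoImplicit false
set_option linter.style.haveILetI false
set_option linter.unusedSectionVars false

open Subgroup
open scoped Matrix Classical

namespace CfsgLib.MCFusion

open CfsgLib.RegUnip (M2 GLw)
open CfsgLib.Fusion (conjBy_le_iff exists_conj_le_of_not_dvd_relIndex)

variable {p d : ℕ} [hpf : Fact p.Prime] {X M P : Subgroup (GLw p d)}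

/-- Conjugates of a quadratic element generating with it a `p`-group come from `M`. -/
theorem Emb.mem_of_nilpotent (h : Emb X M P) {u : GLw p d} (huP : u ∈ P) (hu1 : u ≠ 1)
    (hq : ((u : M2 p d) - 1) * ((u : M2 p d) - 1) = 0) {γ : GLw p d} (hγ : γ ∈ X) {m : ℕ}
    (hm : (((u : M2 p d) - 1) * (((γ * u * γ⁻¹ : GLw p d) : M2 p d) - 1)) ^ m = 0) : γ ∈ M := by
  have hp := hpf.out
  rcases Nat.eq_zero_or_pos d with rfl | hd
  · exact absurd (Units.ext (Subsingleton.elim _ _)) hu1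
  haveI : Nonempty (Fin d) := ⟨⟨0, hd⟩⟩
  have huX : u ∈ X := h.mX (h.pM huP)
  set H := Subgroup.closure ({u, γ * u * γ⁻¹} : Set (GLw p d)) with hH
  have hHX : H ≤ X := (closure_le _).2 (Set.insert_subset huX
    (Set.singleton_subset_iff.2 (mul_mem (mul_mem hγ huX) (inv_mem hγ))))
  have hHp : IsPGroup p H := fun g => by
    obtain ⟨e, he⟩ := Qd.exists_pow_eq_one (Units.coeHom (M2 p d)) u (γ * u * γ⁻¹) hq (quadratic_conj hq γ) hm g.2
    exact ⟨e, Subtype.ext (Units.ext (by simpa using he))⟩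
  obtain ⟨k, hk, hle⟩ := exists_conj_le_of_not_dvd_relIndex h.isP (h.pM.trans h.mX) h.sylow hHp hHX
  have hup : IsPGroup p (zpowers u) := h.isP.to_le (zpowers_le.2 huP)
  have h1 : k * u * k⁻¹ ∈ M := h.pM (conjBy_le_iff.1 hle u (subset_closure (Or.inl rfl)))
  have hkM := h.mem_of_conj (h.pM huP) hu1 hup hk h1
  have h2 : k * (γ * u * γ⁻¹) * k⁻¹ ∈ M := h.pM (conjBy_le_iff.1 hle _ (subset_closure (Or.inr rfl)))
  refine h.mem_of_conj (h.pM huP) hu1 hup hγ ?_
  have h3 := mul_mem (mul_mem (inv_mem hkM) h2) hkM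
  rwa [show k⁻¹ * (k * (γ * u * γ⁻¹) * k⁻¹) * k = γ * u * γ⁻¹ by group] at h3

theorem mulVec_eq_zero_of_pow {A : M2 p d} {m : ℕ} (hm : A ^ m = 0) {z : Fin d → ZMod p} {c : ZMod p}
    (h : A *ᵥ z = c • z) (hz : z ≠ 0) : c = 0 := by
  have h1 : ∀ k : ℕ, (A ^ k) *ᵥ z = c ^ k • z := by
    intro k
    induction k with
    | zero => simp
    | succ k ih => rw [pow_succ', ← Matrix.mulVec_mulVec, ih, Matrix.mulVec_smul, h, smul_smul, pow_succ]
  have h2 := h1 m
  rw [hm, Matrix.zero_mulVec] at h2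
  exact eq_zero_of_pow_eq_zero ((smul_eq_zero.1 h2.symm).resolve_right hz)

/-- The centre of a transvection is fixed. -/
theorem transvection_center (h : Emb X M P) {u : GLw p d} (huP : u ∈ P) {z : Fin d → ZMod p} (hz : z ≠ 0)
    (him : ∀ v, ∃ c : ZMod p, ((u : M2 p d) - 1) *ᵥ v = c • z) : ((u : M2 p d) - 1) *ᵥ z = 0 := by
  rcases Nat.eq_zero_or_pos d with rfl | hd
  · exact Subsingleton.elim _ _
  haveI : Nonempty (Fin d) := ⟨⟨0, hd⟩⟩
  obtain ⟨c, hc⟩ := him z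
  obtain ⟨k, hk⟩ := h.isP ⟨u, huP⟩
  have hk' : (u : M2 p d) ^ p ^ k = 1 := by
    rw [← Units.val_pow_eq_pow_val, show u ^ p ^ k = 1 from congrArg Subtype.val hk, Units.val_one]
  have hm : ((u : M2 p d) - 1) ^ p ^ k = 0 := by
    rw [sub_pow_char_pow_of_commute _ _ (Commute.one_right _), hk', one_pow, sub_self]
  rw [hc, mulVec_eq_zero_of_pow hm hc hz, zero_smul]

theorem transvection_quadratic (h : Emb X M P) {u : GLw p d} (huP : u ∈ P) {z : Fin d → ZMod p} (hz : z ≠ 0)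
    (him : ∀ v, ∃ c : ZMod p, ((u : M2 p d) - 1) *ᵥ v = c • z) :
    ((u : M2 p d) - 1) * ((u : M2 p d) - 1) = 0 := by
  have hAz := transvection_center h huP hz him
  refine Matrix.ext_of_mulVec_single fun i => ?_
  obtain ⟨c, hc⟩ := him (Pi.single i 1)
  rw [← Matrix.mulVec_mulVec, hc, Matrix.mulVec_smul, hAz, smul_zero, Matrix.zero_mulVec]

/-- Outside `M` the centre is moved out of the axis. -/
theorem Emb.center_moved (h : Emb X M P) {u : GLw p d} (huP : u ∈ P) (hu1 : u ≠ 1) {z : Fin d → ZMod p}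
    (hz : z ≠ 0) (him : ∀ v, ∃ c : ZMod p, ((u : M2 p d) - 1) *ᵥ v = c • z) {β : GLw p d} (hβ : β ∈ X)
    (hβM : β ∉ M) : ((u : M2 p d) - 1) *ᵥ ((β : M2 p d) *ᵥ z) ≠ 0 := by
  intro h0
  refine hβM (h.mem_of_nilpotent huP hu1 (transvection_quadratic h huP hz him) hβ (m := 1) ?_)
  rw [pow_one]
  refine Matrix.ext_of_mulVec_single fun i => ?_
  obtain ⟨c, hc⟩ := him (((β⁻¹ : GLw p d) : M2 p d) *ᵥ Pi.single i 1)
  have e : ((β * u * β⁻¹ : GLw p d) : M2 p d) - 1 =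
      (β : M2 p d) * ((u : M2 p d) - 1) * ((β⁻¹ : GLw p d) : M2 p d) := by
    rw [mul_sub, mul_one, sub_mul, Units.mul_inv, Units.val_mul, Units.val_mul]
  rw [e, ← Matrix.mulVec_mulVec, ← Matrix.mulVec_mulVec, ← Matrix.mulVec_mulVec, hc, Matrix.mulVec_smul,
    Matrix.mulVec_smul, h0, smul_zero, Matrix.zero_mulVec]

/-- A central transvection generates the Sylow subgroup. -/
theorem Emb.le_zpowers_of_transvection (h : Emb X M P) {u : GLw p d} (huP : u ∈ P) (hu1 : u ≠ 1)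
    (hcent : ∀ τ ∈ P, τ * u = u * τ) {z : Fin d → ZMod p} (hz : z ≠ 0)
    (him : ∀ v, ∃ c : ZMod p, ((u : M2 p d) - 1) *ᵥ v = c • z) : P ≤ zpowers u := by
  have hp := hpf.out
  rcases Nat.eq_zero_or_pos d with rfl | hd
  · exact absurd (Units.ext (Subsingleton.elim _ _)) hu1
  haveI : Nonempty (Fin d) := ⟨⟨0, hd⟩⟩
  intro τ hτ
  set A := (u : M2 p d) - 1 with hA
  have hq := transvection_quadratic h huP hz him
  have hAz := transvection_center h huP hz him
  -- `τ` fixes the centre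
  have hτA : (τ : M2 p d) * A = A * (τ : M2 p d) := by
    rw [hA, mul_sub, sub_mul, mul_one, one_mul, ← Units.val_mul, ← Units.val_mul, hcent τ hτ]
  obtain ⟨i₀, hi₀⟩ : ∃ i, A *ᵥ Pi.single i 1 ≠ 0 := by
    by_contra hcon
    push Not at hcon
    refine hu1 (Units.ext (sub_eq_zero.1 (Matrix.ext_of_mulVec_single fun i => ?_)))
    rw [Units.val_one, ← hA, hcon i, Matrix.zero_mulVec]
  obtain ⟨c₀, hc₀⟩ := him (Pi.single i₀ 1)
  have hc₀0 : c₀ ≠ 0 := fun e => hi₀ (by rw [hc₀, e, zero_smul])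
  obtain ⟨cτ, hcτ⟩ := him ((τ : M2 p d) *ᵥ Pi.single i₀ 1)
  have hτz0 : (τ : M2 p d) *ᵥ z = (c₀⁻¹ * cτ) • z := by
    have h1 : (τ : M2 p d) *ᵥ (c₀ • z) = cτ • z := by
      rw [← hc₀, Matrix.mulVec_mulVec, hτA, ← Matrix.mulVec_mulVec, hcτ]
    rw [mul_smul, ← h1, Matrix.mulVec_smul, smul_smul, inv_mul_cancel₀ hc₀0, one_smul]
  have hτz : (τ : M2 p d) *ᵥ z = z := by
    obtain ⟨k, hk⟩ := h.isP ⟨τ, hτ⟩
    have hm : ((τ : M2 p d) - 1) ^ p ^ k = 0 := by
      rw [sub_pow_char_pow_of_commute _ _ (Commute.one_right _), ← Units.val_pow_eq_pow_val,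
        show τ ^ p ^ k = 1 from congrArg Subtype.val hk, Units.val_one, one_pow, sub_self]
    have h2 := mulVec_eq_zero_of_pow hm (c := c₀⁻¹ * cτ - 1)
      (by rw [Matrix.sub_mulVec, hτz0, Matrix.one_mulVec, sub_smul, one_smul]) hz
    rw [hτz0, sub_eq_zero.1 h2, one_smul]
  -- a conjugate outside
  obtain ⟨β, hβ, hβM⟩ : ∃ β ∈ X, β ∉ M := by
    by_contra hcon
    push Not at hcon
    exact h.proper (le_antisymm h.mX hcon)
  set a := (β : M2 p d) *ᵥ z with ha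
  set β' := ((β⁻¹ : GLw p d) : M2 p d) with hβ'
  have hββ : β' * (β : M2 p d) = 1 := Units.inv_mul β
  set A' := (β : M2 p d) * A * β' with hA'
  obtain ⟨c, hc⟩ := him a
  have hc0 : c ≠ 0 := fun e => h.center_moved huP hu1 hz him hβ hβM (by rw [← ha, hc, e, zero_smul])
  -- the line of the conjugate
  have hA'im : ∀ v, ∃ r : ZMod p, A' *ᵥ v = r • a := fun v => by
    obtain ⟨r, hr⟩ := him (β' *ᵥ v)
    exact ⟨r, by rw [hA', ← Matrix.mulVec_mulVec, ← Matrix.mulVec_mulVec, hr, Matrix.mulVec_smul, ← ha]⟩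
  have hA'a : A' *ᵥ a = 0 := by
    rw [hA', ← Matrix.mulVec_mulVec, ha, Matrix.mulVec_mulVec z β' (β : M2 p d), hββ, Matrix.one_mulVec,
      ← Matrix.mulVec_mulVec, hAz, Matrix.mulVec_zero]
  obtain ⟨c', hc'⟩ := hA'im z
  have hc'0 : c' ≠ 0 := by
    intro e
    have hβi : β⁻¹ ∉ M := fun hm => hβM (by simpa using inv_mem hm)
    refine h.center_moved huP hu1 hz him (inv_mem hβ) hβi ?_
    have h1 : (β : M2 p d) *ᵥ (A *ᵥ (β' *ᵥ z)) = 0 := by
      rw [Matrix.mulVec_mulVec, Matrix.mulVec_mulVec, ← hA', hc', e, zero_smul]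
    have h2 := congrArg (β' *ᵥ ·) h1
    simp only [Matrix.mulVec_mulVec, ← mul_assoc, hββ, one_mul, Matrix.mulVec_zero] at h2
    rw [Matrix.mulVec_mulVec]
    exact h2
  -- adjust `τ`
  obtain ⟨r, hr⟩ := hA'im ((τ : M2 p d) *ᵥ a - a)
  set k := (-(r / (c' * c))).val with hk
  set τ' := τ * u ^ k with hτ'
  have hτ'a : (τ' : M2 p d) *ᵥ a = (τ : M2 p d) *ᵥ a + ((k : ZMod p) * c) • z := by
    rw [hτ', Units.val_mul, pow_of_quadratic hq, ← hA, mul_add, mul_one, Matrix.add_mulVec, ← Nat.cast_smul_eq_nsmul (ZMod p),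
      mul_smul_comm, Matrix.smul_mulVec, ← Matrix.mulVec_mulVec, hc, Matrix.mulVec_smul, hτz, smul_smul]
  have hkey : A' *ᵥ ((τ' : M2 p d) *ᵥ a) = 0 := by
    have h1 : A' *ᵥ ((τ : M2 p d) *ᵥ a) = r • a := by
      rw [Matrix.mulVec_sub, hA'a, sub_zero] at hr
      exact hr
    rw [hτ'a, Matrix.mulVec_add, Matrix.mulVec_smul, h1, hc', smul_smul, ← add_smul, hk, ZMod.natCast_zmod_val]
    rw [show r + -(r / (c' * c)) * c * c' = 0 by field_simp; ring, zero_smul]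
  have hτ'P : τ' ∈ P := mul_mem hτ (pow_mem huP k)
  have hτ'1 : τ' = 1 := by
    by_contra hne
    set γ := β⁻¹ * τ' * β with hγ
    have hγX : γ ∈ X := mul_mem (mul_mem (inv_mem hβ) (h.mX (h.pM hτ'P))) hβ
    have hγM : γ ∈ M := by
      refine h.mem_of_nilpotent huP hu1 hq hγX (m := 1) ?_
      rw [pow_one]
      have e : ((γ * u * γ⁻¹ : GLw p d) : M2 p d) - 1 =
          (γ : M2 p d) * A * ((γ⁻¹ : GLw p d) : M2 p d) := by
        rw [hA, mul_sub, mul_one, sub_mul, Units.mul_inv, Units.val_mul, Units.val_mul]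
      rw [e, ← hA]
      have h0 : A' * ((τ' : M2 p d) * A') = 0 := by
        refine Matrix.ext_of_mulVec_single fun i => ?_
        obtain ⟨s, hs⟩ := hA'im (Pi.single i 1)
        rw [← Matrix.mulVec_mulVec _ A' ((τ' : M2 p d) * A'), ← Matrix.mulVec_mulVec _ (τ' : M2 p d) A', hs, Matrix.mulVec_smul, Matrix.mulVec_smul, hkey,
          smul_zero, Matrix.zero_mulVec]
      have hAA : A = β' * A' * (β : M2 p d) := by
        rw [hA', ← mul_assoc, ← mul_assoc, hββ, one_mul, mul_assoc, hββ, mul_one]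
      have hγv : (γ : M2 p d) = β' * (τ' : M2 p d) * (β : M2 p d) := by
        rw [hγ, Units.val_mul, Units.val_mul]
      have hββ2 : ∀ Y : M2 p d, (β : M2 p d) * (β' * Y) = Y := fun Y => by
        rw [← mul_assoc, hβ', Units.mul_inv, one_mul]
      calc A * ((γ : M2 p d) * A * ((γ⁻¹ : GLw p d) : M2 p d))
          = β' * (A' * ((τ' : M2 p d) * A')) * (β : M2 p d) * ((γ⁻¹ : GLw p d) : M2 p d) := by
            rw [hγv, hAA]
            simp only [mul_assoc]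
            simp only [hββ2]
        _ = 0 := by rw [h0, mul_zero, zero_mul, zero_mul]
    exact hβM (by
      simpa using inv_mem (h.mem_of_conj (h.pM hτ'P) hne (h.isP.to_le (zpowers_le.2 hτ'P)) (inv_mem hβ)
        (by rwa [inv_inv])))
  rw [hτ'] at hτ'1
  rw [eq_inv_of_mul_eq_one_left hτ'1]
  exact inv_mem (pow_mem (mem_zpowers u) k)

end CfsgLib.MCFusion
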