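import Cfsg.Agent.Lib.MaxClassFusion.Lift
import Cfsg.Agent.Lib.MaxClassFusion.Transvection
import Cfsg.Agent.Lib.MaxClassFusion.Coords

/-!
# The elements of order `p` in the centre of the essential subgroup
-/

set_option autoImplicit false
set_option linter.style.haveILetI false
set_option linter.unusedSectionVars false

open Subgroup
open scoped commutatorElement Classical

namespace CfsgLib.MCFusion

open Cfsg (FusionSystem autInducedBy)
open Cfsg.FusionSystem (normalizerIn centralizerIn)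
open CfsgLib.Fusion
open CfsgLib.Fusion.MaxClassCubeSystem (sub mem_sub sub_le sub_centralizer card_sub sub_subgroupOf)
open CfsgLib.MaxClassShift (gam gam_normal gam_anti gam_one gam_comm)
open CfsgLib.MaxClassUniform (Uniform gam_le_twoStepAt)
open CfsgLib.PGroup.MaxClassRank (twoStepAt pow_mem_two)
open CfsgLib.MaxClassEss
open CfsgLib.RegUnip (M2 GLw subgroupOfFinite)

universe u

variable {Ω : Type u} [Group Ω] {S : Subgroup Ω} [Finite S] {p n : ℕ} [hpf : Fact p.Prime]
  {F : FusionSystem S} {E : Subgroup Ω}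

/-- The elements of order `p` in the centre of `E`. -/
noncomputable def vec (p : ℕ) (S : Subgroup Ω) [Finite S] (E : Subgroup Ω) : Subgroup S :=
  subgroupOfFinite {v | v ∈ E.subgroupOf S ∧ v ^ p = 1 ∧ ∀ e ∈ E.subgroupOf S, Commute v e}
    ⟨one_mem _, one_pow _, fun e _ => Commute.one_left e⟩
    fun {a b} ha hb => ⟨mul_mem ha.1 hb.1, by rw [(ha.2.2 b hb.1).mul_pow, ha.2.1, hb.2.1, one_mul],
      fun e he => (ha.2.2 e he).mul_left (hb.2.2 e he)⟩

theorem mem_vec {v : S} :
    v ∈ vec p S E ↔ v ∈ E.subgroupOf S ∧ v ^ p = 1 ∧ ∀ e ∈ E.subgroupOf S, Commute v e := Iff.rfl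

theorem vec_le : vec p S E ≤ E.subgroupOf S := fun _ hv => hv.1

theorem vec_commute {a b : S} (ha : a ∈ vec p S E) (hb : b ∈ vec p S E) : Commute a b :=
  ha.2.2 b hb.1

variable (H : Hyp p n F E)
include H

theorem Hyp.autFun_mem_vec {α : MulAut E} (hα : α ∈ F.autGroup E) {v : S} (hv : v ∈ vec p S E) :
    (⟨autFun α (v : Ω), H.le (autFun_mem α (mem_subgroupOf.1 hv.1))⟩ : S) ∈ vec p S E := by
  have hm := (mem_autGroup_iff H.le).1 hα
  have hvE := mem_subgroupOf.1 hv.1
  refine ⟨mem_subgroupOf.2 (autFun_mem α hvE), Subtype.ext ?_, fun e he => Subtype.ext ?_⟩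
  · rw [SubgroupClass.coe_pow, OneMemClass.coe_one]
    show autFun α (v : Ω) ^ p = 1
    rw [autFun_apply α hvE, ← SubgroupClass.coe_pow, ← map_pow,
      show (⟨(v : Ω), hvE⟩ : E) ^ p = 1 from Subtype.ext (congrArg Subtype.val hv.2.1 :), map_one]
    rfl
  · show autFun α (v : Ω) * (e : Ω) = (e : Ω) * autFun α (v : Ω)
    obtain ⟨e', he'⟩ := α.surjective ⟨(e : Ω), mem_subgroupOf.1 he⟩
    have h1 : autFun α (e' : Ω) = (e : Ω) := by rw [autFun_coe, he']
    rw [← h1]
    exact (hm.map_commute hvE e'.2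
      (congrArg Subtype.val (hv.2.2 ⟨(e' : Ω), H.le e'.2⟩ (mem_subgroupOf.2 e'.2)).eq)).eq

theorem Hyp.gam_last_le_vec : gam S (n - 1) ≤ vec p S E := fun z hz => by
  obtain ⟨x, hx⟩ := H.exists_x
  have h5 := H.five
  refine ⟨H.gam_last_le hz, ?_, fun e _ => (comm_gam_central hx hz e).symm⟩
  have h1 := pow_card_eq_one' (x := (⟨z, hz⟩ : gam S (n - 1)))
  rw [hx.card_gam (by omega) (by omega), show n - (n - 1) = 1 by omega, pow_one] at h1
  exact congrArg Subtype.val h1

variable (IH : Conc.{u} p (n - 1))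
include IH

theorem Hyp.ext_of_fix_vec {α : MulAut E} (hα : α ∈ F.autGroup E)
    (hf : ∀ v ∈ vec p S E, autFun α (v : Ω) = v) : α ∈ extGroup F E :=
  H.ext_of_fix IH hα fun z hz => hf z (H.gam_last_le_vec hz)

/-- The centralizer of these elements is the subgroup. -/
theorem Hyp.cent_vec {g : S} (hg : ∀ v ∈ vec p S E, Commute g v) : g ∈ E.subgroupOf S := by
  by_contra hgE
  haveI := finite_of_le H.le
  haveI := finite_mulAut (P := E)
  set C := sub (centralizer ((vec p S E : Subgroup S) : Set S)) with hC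
  have hEC : E < C := by
    refine lt_of_le_of_ne (fun e he => mem_sub.2 (show (⟨e, H.le he⟩ : S) ∈ _ from
      mem_centralizer_iff.2 fun v hv => (hv.2.2 ⟨e, H.le he⟩ (mem_subgroupOf.2 he)).eq)) fun e => hgE ?_
    refine mem_subgroupOf.2 (e.ge (mem_sub.2 (mem_centralizer_iff.2 fun v hv => (hg v hv).eq.symm)))
  haveI : Finite C := finite_of_le (sub_le _)
  obtain ⟨c, hc, hcE⟩ := exists_mem_not_mem_normalizer (H.isP.to_le (sub_le _)) hEC
  obtain ⟨d, hd, rfl⟩ := hc.1
  let K : Subgroup (MulAut E) := subgroupOfFinite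
    {α | α ∈ F.autGroup E ∧ ∀ v ∈ vec p S E, autFun α (v : Ω) = v}
    ⟨one_mem _, fun v hv => autFun_one (mem_subgroupOf.1 hv.1)⟩
    fun {a b} ha hb => ⟨mul_mem ha.1 hb.1, fun v hv => by
      rw [autFun_mul _ _ (mem_subgroupOf.1 hv.1), hb.2 v hv, ha.2 v hv]⟩
  refine H.conjAut_notInn d.2 hc.2 hcE (H.normal_inter (K := K) (fun α hα => H.ext_of_fix_vec IH hα.1 hα.2)
    (fun γ hγ k hk => ⟨mul_mem (mul_mem hγ hk.1) (inv_mem hγ), fun v hv => ?_⟩)
    (conjAut_mem d.2 hc.2) ⟨autInducedBy_le_autGroup H.le (conjAut_mem d.2 hc.2), fun v hv => ?_⟩)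
  · have hvE := mem_subgroupOf.1 hv.1
    rw [autFun_mul _ _ hvE, autFun_mul _ _ (autFun_mem γ⁻¹ hvE),
      hk.2 _ (H.autFun_mem_vec (inv_mem hγ) hv), ← autFun_mul _ _ hvE, mul_inv_cancel, autFun_one hvE]
  · refine (autFun_conjAut _ (mem_subgroupOf.1 hv.1)).trans ?_
    show (d : Ω) * (v : Ω) * (d : Ω)⁻¹ = v
    rw [show (d : Ω) * (v : Ω) = (v : Ω) * (d : Ω) from (congrArg Subtype.val (mem_centralizer_iff.1 hd v hv)).symm, mul_inv_cancel_right]

/-- The prime is at least five. -/
theorem Hyp.five_prime : 5 ≤ p := by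
  obtain ⟨x, hx⟩ := H.exists_x
  have hp := hpf.out
  have h5 := H.five
  by_contra hlt
  have hp3 : p ≤ 3 := by
    rcases (show p ≤ 3 ∨ p = 4 by omega) with h3 | rfl
    · exact h3
    · exact absurd hp (by norm_num)
  have hne : twoStepAt S (n - 2) = twoStepAt S 2 := twoStepAt_small hx hp3 h5 _ (by omega) (by omega)
  refine H.neA (le_antisymm (H.inner_A hne) fun a ha => H.cent_vec IH fun v hv => ?_)
  refine (lev_one_commute_deep hx (by omega) hne (gam_anti (show n - 2 ≤ n + 1 - p by omega) ?_) ha).symm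
  exact omega_deep hx (by omega) (H.inner_A hne hv.1) hv.2.1

/-- The normalizer of the subgroup has no uniform elements. -/
theorem Hyp.not_uniform_norm {g : S} (hg : ∀ e ∈ E.subgroupOf S, g * e * g⁻¹ ∈ E.subgroupOf S) :
    ¬ Uniform g p n := by
  intro hu
  have hp5 := H.five_prime IH
  have h5 := H.five
  have hgA : g ∉ twoStepAt S 2 := uniform_notMem hu le_rfl (by omega)
  have hgC : g ∉ twoStepAt S (n - 2) := uniform_notMem hu (by omega) (by omega)
  refine H.not_normal hp5 ?_
  rcases H.inner with hA | hC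
  · -- the first level met
    have hex : ∃ L, 1 ≤ L ∧ L < n ∧ E.subgroupOf S ≤ lev S L ∧ ¬ E.subgroupOf S ≤ gam S (L + 1) := by
      by_contra hcon
      push Not at hcon
      have hall : ∀ L, 1 ≤ L → L ≤ n → E.subgroupOf S ≤ lev S L := by
        intro L hL
        induction L, hL using Nat.le_induction with
        | base => exact fun _ => hA
        | succ L hL ih => intro hLn; rw [lev_eq (by omega)]; exact hcon L hL (by omega) (ih (by omega))
      have h1 := (H.gam_last_le).trans (hall n (by omega) le_rfl)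
      rw [lev_eq (by omega), hu.gam_eq_bot le_rfl, le_bot_iff] at h1
      have h2 := congrArg (fun K : Subgroup S => Nat.card K) h1
      simp only [card_bot, hu.card_gam (show 2 ≤ n - 1 by omega) (by omega), show n - (n - 1) = 1 by omega,
        pow_one] at h2
      exact hpf.out.ne_one h2
    obtain ⟨L, hL, hLn, hEL, hEL'⟩ := hex
    obtain ⟨w, hw, hw'⟩ := SetLike.not_le_iff_exists.1 hEL'
    have h1 := shift_le hu (by omega) hgA (E.subgroupOf S) hg (Or.inl hgC) hL hLn hw (hEL hw) hw'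
    refine ⟨fun e he s => ?_⟩
    rw [show s * e * s⁻¹ = ⁅s, e⁆ * e by rw [commutatorElement_def]; group]
    refine (E.subgroupOf S).mul_mem (h1 ?_) he
    have := comm_top_lev hu hL (g := s) (hEL he)
    rwa [lev_eq (show 2 ≤ L + 1 by omega)] at this
  · -- inside the centralizer of the second centre
    have h2 : gam S 2 ≤ E.subgroupOf S := by
      by_cases hA : E.subgroupOf S ≤ gam S 2
      · exfalso
        exact H.not_normal hp5 (by
          obtain ⟨l, -, -, hl⟩ := inf_gam_two hu (E.subgroupOf S) hg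
          rw [inf_eq_left.2 hA] at hl
          rw [hl]; exact gam_normal l)
      · exact gam_two_le_of_inv hu (by omega) (show 2 ≤ n - 2 by omega) (by omega) _ hg hC hA
    refine ⟨fun e he s => ?_⟩
    rw [show s * e * s⁻¹ = ⁅s, e⁆ * e by rw [commutatorElement_def]; group]
    exact (E.subgroupOf S).mul_mem (h2 (gam_comm (a := 1) (b := 1) le_rfl le_rfl (mem_top s) (mem_top e))) he

omit IH in
theorem Hyp.mem_normalizer_iff' {g : S} (hg : ∀ e ∈ E.subgroupOf S, g * e * g⁻¹ ∈ E.subgroupOf S) :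
    (g : Ω) ∈ Subgroup.normalizer (E : Set Ω) := by
  have h1 : g ∈ normalizer ((E.subgroupOf S : Subgroup S) : Set S) := mem_normalizer_fintype hg
  have h2 := mem_sub.2 h1
  rw [CfsgLib.Fusion.MaxClassCubeSystem.sub_normalizer, sub_subgroupOf H.le] at h2
  exact h2.2

/-- The normalizer of the subgroup lies in the first two step centralizer. -/
theorem Hyp.norm_le {g : S} (hg : ∀ e ∈ E.subgroupOf S, g * e * g⁻¹ ∈ E.subgroupOf S) : g ∈ lev S 1 := by
  obtain ⟨x, hx⟩ := H.exists_x
  have h5 := H.five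
  have hp := hpf.out
  have hp5 := H.five_prime IH
  set N := normalizer ((E.subgroupOf S : Subgroup S) : Set S) with hN
  have hgN : g ∈ N := mem_normalizer_fintype hg
  have hEN : E.subgroupOf S ≤ N := le_normalizer
  have hNc : ∀ k ∈ N, ∀ e ∈ E.subgroupOf S, k * e * k⁻¹ ∈ E.subgroupOf S := fun k hk e he =>
    (mem_normalizer_iff.1 hk e).1 he
  rcases inner_of_no_uniform hx (by omega) N (fun k hk => H.not_uniform_norm IH (hNc k hk)) with hA | hC
  · exact hA hgN
  by_contra hgA
  rw [lev_one] at hgA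
  -- the second centre is central in `E`
  have hZc : ∀ r ∈ gam S (n - 2), ∀ e ∈ E.subgroupOf S, Commute r e := fun r hr e he =>
    (last_two_commute hx hr (hC (hEN he))).symm
  have hZ2 : gam S (n - 2) ≤ vec p S E := fun r hr => ⟨H.mem_of_commute (hZc r hr),
    pow_eq_one_of_deep hx (show 2 ≤ n - 2 by omega) (by omega) hr, hZc r hr⟩
  obtain ⟨v, hv, hv2⟩ : ∃ v ∈ vec p S E, v ∉ gam S (n - 2) := by
    by_contra hcon
    push Not at hcon
    refine H.neC (le_antisymm ((hEN).trans hC) fun c hc => H.cent_vec IH fun v hv =>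
      last_two_commute hx (hcon v hv) hc)
  by_cases hEA : E.subgroupOf S ≤ lev S 1
  · -- inside the first two step centralizer
    have hVinv : ∀ k ∈ vec p S E, g * k * g⁻¹ ∈ vec p S E := fun k hk => by
      refine ⟨hg k hk.1, by rw [conj_pow, hk.2.1, mul_one, mul_inv_cancel], fun e he => ?_⟩
      have h1 := hk.2.2 (g⁻¹ * e * g) (by
        have := hNc g⁻¹ (inv_mem hgN) e he
        rwa [inv_inv] at this)
      have h2 := h1.map (MulAut.conj g).toMonoidHom
      simpa [MulAut.conj_apply, mul_assoc] using h2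
    have hVA : vec p S E ≤ lev S 1 := vec_le.trans hEA
    obtain ⟨L, hL, hLn, hVL, hVL'⟩ : ∃ L, 1 ≤ L ∧ L < n ∧ vec p S E ≤ lev S L ∧
        ¬ vec p S E ≤ gam S (L + 1) := by
      by_contra hcon
      push Not at hcon
      have hall : ∀ L, 1 ≤ L → L ≤ n → vec p S E ≤ lev S L := by
        intro L hL
        induction L, hL using Nat.le_induction with
        | base => exact fun _ => hVA
        | succ L hL ih => intro hLn; rw [lev_eq (by omega)]; exact hcon L hL (by omega) (ih (by omega))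
      exact hv2 ((lev_le_gam hx (by omega)).trans (gam_anti (show n - 2 ≤ n by omega)) (hall n (by omega) le_rfl hv))
    obtain ⟨w, hw, hw'⟩ := SetLike.not_le_iff_exists.1 hVL'
    have h1 := shift_le hx (by omega) hgA (vec p S E) hVinv (Or.inr hZ2) hL hLn hw (hVL hw) hw'
    refine H.not_normal hp5 ⟨fun e he s => H.cent_vec IH fun k hk => ?_⟩
    have hk' : s⁻¹ * k * s ∈ vec p S E := by
      have h2 := comm_top_lev hx hL (g := s⁻¹) (hVL hk)
      rw [lev_eq (show 2 ≤ L + 1 by omega)] at h2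
      have h3 := (vec p S E).mul_mem (h1 h2) hk
      rwa [show ⁅s⁻¹, k⁆ * k = s⁻¹ * k * s by rw [commutatorElement_def]; group] at h3
    have h2 := (hk'.2.2 e he).symm.map (MulAut.conj s).toMonoidHom
    simpa [MulAut.conj_apply, mul_assoc] using h2
  · obtain ⟨y, hy, hyA⟩ := SetLike.not_le_iff_exists.1 hEA
    rw [lev_one] at hyA
    -- all elements of the centre are near a power of `y`
    obtain ⟨i, hi⟩ := cent_outer hx (by omega) hyA (hv.2.2 y hy).symm
    have hvA : v ∉ twoStepAt S 2 := by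
      intro hA
      have hyi : y ^ i ∈ twoStepAt S 2 := by
        have h1 := mul_mem hA (inv_mem (gam_le_twoStepAt (G := S) hx.isPGroup (show 1 ≤ 2 by omega)
          (gam_anti (show 2 ≤ n - 2 by omega) hi)))
        rwa [mul_inv_rev, inv_inv, mul_inv_cancel_left] at h1
      have hdiv : (p : ℤ) ∣ i := by
        by_contra hnd
        obtain ⟨a, b, hab⟩ := (Nat.prime_iff_prime_int.1 hp).coprime_iff_not_dvd.2 hnd
        refine hyA ?_
        rw [show y = (y ^ p) ^ a * (y ^ i) ^ b by
          rw [← zpow_natCast, ← zpow_mul, ← zpow_mul, ← zpow_add, mul_comm _ a, mul_comm i b, hab, zpow_one]]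
        exact mul_mem (zpow_mem (gam_le_twoStepAt hx.isPGroup (by omega) (pow_mem_two H.isP hx.card hx.three hx.class_eq y)) a)
          (zpow_mem hyi b)
      obtain ⟨t, rfl⟩ := hdiv
      refine hv2 ?_
      have hyp : y ^ p ∈ gam S (n - 2) := by
        by_contra hne
        obtain ⟨L, hL, hLn, hwL, hwL'⟩ := exists_level (show 2 ≤ n - 2 by omega)
          (pow_mem_two H.isP hx.card hx.three hx.class_eq y) hne
        refine (step_level hx (by omega) hyA (L := L) (by omega) (by omega) (Or.inl (by omega))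
          (by rw [lev_eq hL]; exact hwL) hwL').2 ?_
        rw [commutatorElement_eq_one_iff_commute.2 ((Commute.refl y).pow_right p)]; exact one_mem _
      rw [zpow_mul, zpow_natCast] at hi
      have h2 := mul_mem (zpow_mem hyp t) hi
      rwa [mul_inv_cancel_left] at h2
    -- `E` is elementary of order `p ^ 3`
    have hsub : E.subgroupOf S ≤ zpowers v ⊔ gam S (n - 2) := fun e he => by
      obtain ⟨j, hj⟩ := cent_outer hx (by omega) hvA (hv.2.2 e he)
      rw [show e = v ^ j * ((v ^ j)⁻¹ * e) by group]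
      exact mul_mem (mem_sup_left (zpow_mem (mem_zpowers v) j)) (mem_sup_right hj)
    have h4 := H.card_ge_of_Z2 hp5 (hZ2.trans vec_le) hZc
    haveI := gam_normal (G := S) (n - 2)
    have h3 : Nat.card (zpowers v ⊔ gam S (n - 2) : Subgroup S) ≤ p * p ^ 2 := by
      refine le_trans ?_ (le_of_eq (congrArg₂ (· * ·) (show Nat.card (zpowers v) = p by
        rw [Nat.card_zpowers, orderOf_eq_prime hv.2.1 fun e => hv2 (e ▸ one_mem _)])
        (show Nat.card (gam S (n - 2)) = p ^ 2 by
          rw [hx.card_gam (by omega) (by omega)]; congr 1; omega)))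
      rw [← Nat.card_prod]
      refine Nat.card_le_card_of_surjective (fun ab : zpowers v × gam S (n - 2) =>
        (⟨(ab.1 : S) * (ab.2 : S), mul_mem (mem_sup_left ab.1.2) (mem_sup_right ab.2.2)⟩ :
          (zpowers v ⊔ gam S (n - 2) : Subgroup S))) fun c => ?_
      obtain ⟨a, ha, b, hb, e⟩ := mem_sup_of_normal_right.1 c.2
      exact ⟨(⟨a, ha⟩, ⟨b, hb⟩), Subtype.ext e⟩
    have h5' := (card_le_of_le hsub).trans h3
    rw [H.card_E, ← pow_succ'] at h5'
    exact absurd (h4.trans h5') (not_le.2 (Nat.pow_lt_pow_right hp.one_lt (by norm_num)))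

/-- The last term not inside `E`. -/
theorem Hyp.exists_j : ∃ j u, 2 ≤ j ∧ j + 2 ≤ n ∧ gam S (j + 1) ≤ E.subgroupOf S ∧ u ∈ gam S j ∧
    u ∉ E.subgroupOf S ∧ ∀ w ∈ gam S j, ∀ e ∈ E.subgroupOf S, w * e * w⁻¹ ∈ E.subgroupOf S := by
  obtain ⟨x, hx⟩ := H.exists_x
  have h5 := H.five
  have hp5 := H.five_prime IH
  have hE2 : ¬ gam S 2 ≤ E.subgroupOf S := fun h2 => H.not_normal hp5 ⟨fun e he s => by
    rw [show s * e * s⁻¹ = ⁅s, e⁆ * e by rw [commutatorElement_def]; group]
    exact (E.subgroupOf S).mul_mem (h2 (gam_comm (a := 1) (b := 1) le_rfl le_rfl (mem_top s) (mem_top e))) he⟩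
  have hex : ∃ k, gam S (k + 3) ≤ E.subgroupOf S := ⟨n, by rw [hx.gam_eq_bot (by omega)]; exact bot_le⟩
  set k := Nat.find hex
  have hk := Nat.find_spec hex
  have hkn : k + 4 ≤ n := by
    have : k ≤ n - 4 := Nat.find_min' hex (by rw [show n - 4 + 3 = n - 1 by omega]; exact H.gam_last_le)
    omega
  have hnot : ¬ gam S (k + 2) ≤ E.subgroupOf S := by
    rcases Nat.eq_zero_or_pos k with h0 | h0
    · rw [h0]; exact hE2
    · have := Nat.find_min hex (show k - 1 < k by omega)
      rwa [show k - 1 + 3 = k + 2 by omega] at this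
  obtain ⟨u, hu, huE⟩ := SetLike.not_le_iff_exists.1 hnot
  refine ⟨k + 2, u, by omega, by omega, hk, hu, huE, fun w hw e he => ?_⟩
  rw [show w * e * w⁻¹ = ⁅w, e⁆ * e by rw [commutatorElement_def]; group]
  exact (E.subgroupOf S).mul_mem (hk (gam_comm (a := k + 2) (b := 1) (by omega) le_rfl hw (mem_top e))) he

/-- The action on these elements gives an embedded pair. -/
theorem Hyp.exists_emb : ∃ (d : ℕ) (e : vec p S E → Fin d → ZMod p) (Ψ : F.autGroup E →* GLw p d),
    Function.Bijective e ∧ e 1 = 0 ∧ (∀ a b, e (a * b) = e a + e b) ∧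
    (∀ (α : F.autGroup E) (v w : vec p S E), ((w : S) : Ω) = autFun (α : MulAut E) ((v : S) : Ω) →
      (Ψ α : M2 p d).mulVec (e v) = e w) ∧
    Emb Ψ.range (((extGroup F E).subgroupOf (F.autGroup E)).map Ψ)
      (((autInducedBy S E).subgroupOf (F.autGroup E)).map Ψ) ∧
    ∀ α : F.autGroup E, Ψ α ∈ ((extGroup F E).subgroupOf (F.autGroup E)).map Ψ →
      (α : MulAut E) ∈ extGroup F E := by
  obtain ⟨x, hx⟩ := H.exists_x
  haveI := finite_of_le H.le
  haveI := finite_mulAut (P := E)
  have hVE : ∀ v : vec p S E, ((v : S) : Ω) ∈ E := fun v => mem_subgroupOf.1 v.2.1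
  obtain ⟨d, e, Φ, hbij, he1, hadd, -, hinj, happ⟩ := exists_rep p (vec p S E)
    (fun a b => Subtype.ext (vec_commute a.2 b.2).eq)
    (fun a => Subtype.ext ((SubgroupClass.coe_pow a p).trans a.2.2.1))
  -- the restriction
  let rest : F.autGroup E → vec p S E → vec p S E := fun α v => ⟨_, H.autFun_mem_vec α.2 v.2⟩
  have hrest : ∀ α v, ((rest α v : S) : Ω) = autFun (α : MulAut E) ((v : S) : Ω) := fun α v => rfl
  have hmulr : ∀ α β v, rest (α * β) v = rest α (rest β v) := fun α β v =>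
    Subtype.ext (Subtype.ext (by rw [hrest, hrest, hrest, Subgroup.coe_mul, autFun_mul _ _ (hVE v)]))
  have honer : ∀ v, rest 1 v = v := fun v =>
    Subtype.ext (Subtype.ext (by rw [hrest, OneMemClass.coe_one, autFun_one (hVE v)]))
  let act : F.autGroup E →* MulAut (vec p S E) :=
    { toFun := fun α =>
        { toFun := rest α
          invFun := rest α⁻¹
          left_inv := fun v => by rw [← hmulr, inv_mul_cancel, honer]
          right_inv := fun v => by rw [← hmulr, mul_inv_cancel, honer]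
          map_mul' := fun v w => Subtype.ext (Subtype.ext (by
            simp only [Subgroup.coe_mul, hrest]
            exact ((mem_autGroup_iff H.le).1 α.2).map_mul (hVE v) (hVE w))) }
      map_one' := MulEquiv.ext honer
      map_mul' := fun α β => MulEquiv.ext (hmulr α β) }
  set Ψ := Φ.comp act with hΨ
  have hfix : ∀ α : F.autGroup E, α ∈ Ψ.ker → ∀ v ∈ vec p S E, autFun (α : MulAut E) (v : Ω) = v := by
    intro α hα v hv
    rw [MonoidHom.mem_ker, hΨ, MonoidHom.comp_apply, ← map_one Φ] at hα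
    exact congrArg (fun w : vec p S E => ((w : S) : Ω)) (DFunLike.congr_fun (hinj hα) ⟨v, hv⟩)
  have hker : Ψ.ker ≤ (extGroup F E).subgroupOf (F.autGroup E) := fun α hα =>
    mem_subgroupOf.2 (H.ext_of_fix_vec IH α.2 (hfix α hα))
  set Mx := (extGroup F E).subgroupOf (F.autGroup E) with hMx
  set Qx := (autInducedBy S E).subgroupOf (F.autGroup E) with hQx
  have hMmem : ∀ α : F.autGroup E, Ψ α ∈ Mx.map Ψ → α ∈ Mx := by
    rintro α ⟨β, hβ, hβα⟩
    have h1 : β⁻¹ * α ∈ Ψ.ker := by rw [MonoidHom.mem_ker, map_mul, map_inv, hβα, inv_mul_cancel]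
    simpa using Mx.mul_mem hβ (hker h1)
  refine ⟨d, e, Ψ, hbij, he1, hadd, fun α v w hw => ?_, ⟨?_, ?_, ?_, ?_, ?_, ?_⟩,
    fun α hα => hMmem α hα⟩
  · show (Φ (act α) : M2 p d).mulVec (e v) = e w
    rw [happ]
    exact congrArg e (Subtype.ext (Subtype.ext hw.symm))
  · exact Subgroup.map_mono fun α hα => H.autS_le_ext hα
  · rintro _ ⟨α, -, rfl⟩
    exact ⟨α, rfl⟩
  · exact ((isPGroup_autInducedBy H.isP).of_equiv
      (subgroupOfEquivOfLe (autInducedBy_le_autGroup H.le)).symm).map Ψ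
  · have h1 : ¬ p ∣ Qx.index := ((isFullyAutomized_iff H.isP).1
      (IsSaturated.automized_receptive H.isP H.sat H.ess.2.1).1).2
    rw [MonoidHom.range_eq_map, relIndex_map_map, top_sup_eq, relIndex_top_right]
    exact fun hd => h1 (hd.trans (index_dvd_of_le le_sup_left))
  · intro he'
    obtain ⟨g, hg, hgM⟩ := H.exists_notMem_ext
    exact hgM (hMmem ⟨g, hg⟩ (he'.ge ⟨⟨g, hg⟩, rfl⟩))
  · rintro _ ⟨t, ht, rfl⟩ ht1 _ ⟨γ, rfl⟩ hc
    refine mem_map_of_mem Ψ (mem_subgroupOf.2 ?_)
    rw [← map_inv, ← map_mul, ← map_mul] at hc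
    refine H.ext_embedded ht (fun hInn => ht1 ?_) γ.2 (hMmem _ hc)
    obtain ⟨c, hc'⟩ := hInn
    have htriv : act t = 1 := MulEquiv.ext fun v => Subtype.ext (Subtype.ext (by
      show autFun (t : MulAut E) ((v : S) : Ω) = ((v : S) : Ω)
      rw [autFun_apply _ (hVE v), show (t : MulAut E) = MulAut.conj c from hc'.symm, MulAut.conj_apply]
      show (c : Ω) * ((v : S) : Ω) * (c : Ω)⁻¹ = _
      have := congrArg Subtype.val (v.2.2.2 ⟨(c : Ω), H.le c.2⟩ (mem_subgroupOf.2 c.2)).eq
      simp only [Subgroup.coe_mul] at this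
      rw [← this, mul_inv_cancel_right]))
    show Φ (act t) = 1
    rw [htriv, map_one]

end CfsgLib.MCFusion
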