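import Cfsg.Agent.Lib.MaxClassFusion.Torus

/-!
# The exceptional case: the normalizer induces a transvection
-/

set_option autoImplicit false
set_option linter.style.haveILetI false
set_option linter.unusedSectionVars false

open Subgroup
open scoped commutatorElement Classical

namespace CfsgLib.MCFusion

open Cfsg (FusionSystem autInducedBy)
open Cfsg.FusionSystem (normalizerIn centralizerIn)
open CfsgLib.Fusion
open CfsgLib.MaxClassShift (gam gam_normal gam_anti gam_one gam_comm)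
open CfsgLib.MaxClassUniform (Uniform gam_le_twoStepAt)
open CfsgLib.PGroup.MaxClassRank (twoStepAt)
open CfsgLib.MaxClassEss
open CfsgLib.RegUnip (M2 GLw subgroupOfFinite)

universe u

variable {Ω : Type u} [Group Ω] {S : Subgroup Ω} [Finite S] {p n : ℕ} [hpf : Fact p.Prime]
  {F : FusionSystem S} {E : Subgroup Ω}

/-- An element of the first two step centralizer above a layer has a level. -/
theorem exists_lev_level {v : S} (hv : v ∈ lev S 1) {K : ℕ} (hK : 1 ≤ K) (hvK : v ∉ lev S K) :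
    ∃ L, 1 ≤ L ∧ L < K ∧ v ∈ lev S L ∧ v ∉ gam S (L + 1) := by
  rcases hK.eq_or_lt with rfl | hK2
  · exact absurd hv hvK
  rw [lev_eq hK2] at hvK
  by_cases hv2 : v ∈ gam S 2
  · obtain ⟨L, hL, hLK, h1, h2⟩ := exists_level hK2 hv2 hvK
    exact ⟨L, by omega, hLK, by rw [lev_eq hL]; exact h1, h2⟩
  · exact ⟨1, le_rfl, hK2, hv, hv2⟩

/-- In the exceptional case an element whose commutators with a term avoid the centre lies deep. -/
theorem deep_of_pair {x : S} (hx : Uniform x p n) (hex : twoStepAt S (n - 2) ≠ twoStepAt S 2)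
    (h6 : 6 ≤ n) {j : ℕ} (hj : 1 ≤ j) (hjn : j + 2 ≤ n) (R : Subgroup S) (hR : R ⊓ gam S (n - 1) = ⊥)
    {w : S} (hw : w ∈ lev S 1) (hc : ∀ e ∈ gam S (j + 1), ⁅w, e⁆ ∈ R) : w ∈ lev S (n - 1 - j) := by
  by_contra hne
  obtain ⟨L, hL, hLK, hwL, hwL'⟩ := exists_lev_level hw (show 1 ≤ n - 1 - j by omega) hne
  obtain ⟨e, he, hne'⟩ := exists_pair hx (by omega) hex hL (show L + 2 ≤ n by omega) hwL hwL'
  rw [lev_eq (show 2 ≤ n - 1 - L by omega)] at he
  refine hne' (mem_bot.1 (hR.le ⟨hc e (gam_anti (by omega) he), ?_⟩))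
  exact gam_anti (show n - 1 ≤ L + (n - 1 - L) by omega)
    (gam_comm hL (show 1 ≤ n - 1 - L by omega) (lev_le_gam hx hL hwL) he)

theorem e_zpow {V : Type*} [Group V] {M : Type*} [AddCommGroup M] {e : V → M} (h1 : e 1 = 0)
    (hadd : ∀ a b, e (a * b) = e a + e b) (a : V) (i : ℤ) : e (a ^ i) = i • e a := by
  induction i using Int.induction_on with
  | zero => rw [zpow_zero, zero_smul, h1]
  | succ i ih => rw [zpow_add_one, hadd, ih, add_smul, one_smul]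
  | pred i ih =>
    have h2 := hadd (a ^ (-(i : ℤ) - 1)) a
    rw [← zpow_add_one, sub_add_cancel, ih] at h2
    rw [sub_smul, one_smul, h2, add_sub_cancel_right]

/-- The data of the exceptional case. -/
structure Exc (p n : ℕ) (F : FusionSystem S) (E : Subgroup Ω) (j : ℕ) (u z0 a : S) (β : MulAut E) : Prop where
  two : 2 ≤ j
  le : j + 2 ≤ n
  deep : gam S (j + 1) ≤ E.subgroupOf S
  mem : u ∈ gam S j
  notMem : u ∉ E.subgroupOf S
  norm : ∀ e ∈ E.subgroupOf S, u * e * u⁻¹ ∈ E.subgroupOf S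
  zMem : z0 ∈ gam S (n - 1)
  zNe : z0 ≠ 1
  aut : β ∈ F.autGroup E
  out : β ∉ extGroup F E
  aEq : (a : Ω) = autFun β (z0 : Ω)
  aVec : a ∈ vec p S E
  aMove : ⁅u, a⁆ ≠ 1
  aLev : a ∈ lev S (n - 1 - j)
  aNot : a ∉ gam S (n - j)
  comm : ∀ v ∈ vec p S E, ⁅u, v⁆ ∈ gam S (n - 1)
  gen : ∀ τ : S, (∀ e ∈ E.subgroupOf S, τ * e * τ⁻¹ ∈ E.subgroupOf S) →
    ∃ i : ℤ, (u ^ i)⁻¹ * τ ∈ E.subgroupOf S

theorem mem_zpowers_last {x : S} (hx : Uniform x p n) (h4 : 4 ≤ n) {z0 z : S} (hz0 : z0 ∈ gam S (n - 1))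
    (h1 : z0 ≠ 1) (hz : z ∈ gam S (n - 1)) : ∃ i : ℤ, z = z0 ^ i := by
  have hc : Nat.card (gam S (n - 1)) = p := by
    rw [hx.card_gam (by omega) (by omega), show n - (n - 1) = 1 by omega, pow_one]
  obtain ⟨i, hi⟩ := mem_zpowers_iff.1 (mem_zpowers_of_prime_card hc (g := (⟨z0, hz0⟩ : gam S (n - 1)))
    (fun e => h1 (congrArg Subtype.val e)) (g' := ⟨z, hz⟩))
  exact ⟨i, (congrArg Subtype.val hi).symm⟩

theorem Hyp.inner_A' (H : Hyp p n F E) (IH : Conc.{u} p (n - 1)) : E.subgroupOf S ≤ lev S 1 :=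
  fun e he => H.norm_le IH fun c hc => (E.subgroupOf S).mul_mem ((E.subgroupOf S).mul_mem he hc)
    ((E.subgroupOf S).inv_mem he)

/-- The exceptional data exist for every last term outside. -/
theorem Hyp.exists_exc (H : Hyp p n F E) (IH : Conc.{u} p (n - 1))
    (hex : twoStepAt S (n - 2) ≠ twoStepAt S 2) {j : ℕ} {u : S} (hj : 2 ≤ j) (hjn : j + 2 ≤ n)
    (hdeep : gam S (j + 1) ≤ E.subgroupOf S) (hu : u ∈ gam S j) (huE : u ∉ E.subgroupOf S) :
    ∃ z0 a β, Exc p n F E j u z0 a β := by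
  obtain ⟨x, hx⟩ := H.exists_x
  obtain ⟨-, h6⟩ := five_le_of_exc hx (by have := H.five; omega) hex
  have hp := hpf.out
  haveI := finite_of_le H.le
  haveI := finite_mulAut (P := E)
  have hEA := H.inner_A' IH
  have hnorm : ∀ e ∈ E.subgroupOf S, u * e * u⁻¹ ∈ E.subgroupOf S := fun e he => by
    rw [show u * e * u⁻¹ = ⁅u, e⁆ * e by rw [commutatorElement_def]; group]
    exact (E.subgroupOf S).mul_mem (hdeep (gam_comm (a := j) (b := 1) (by omega) le_rfl hu (mem_top e))) he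
  have hVdeep : ∀ v ∈ vec p S E, v ∈ lev S (n - 1 - j) := fun v hv =>
    deep_of_pair hx hex h6 (by omega) hjn ⊥ (bot_inf_eq _) (hEA hv.1) fun e he => by
      rw [mem_bot, commutatorElement_eq_one_iff_commute]; exact hv.2.2 e (hdeep he)
  have hcomm : ∀ v ∈ vec p S E, ⁅u, v⁆ ∈ gam S (n - 1) := fun v hv => by
    have h1 := gam_comm (a := j) (b := n - 1 - j) (by omega) (by omega) hu
      (lev_le_gam hx (by omega) (hVdeep v hv))
    rwa [show j + (n - 1 - j) = n - 1 by omega] at h1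
  obtain ⟨z0, hz0, hz0'⟩ := exists_layer hx (k := n - 1) (by omega) (by omega)
  have hz0ne : z0 ≠ 1 := fun e => hz0' (e ▸ one_mem _)
  have hzV : z0 ∈ vec p S E := H.gam_last_le_vec hz0
  obtain ⟨d, e, Ψ, hbij, he1, hadd, happ, hEmb, -⟩ := H.exists_emb IH
  have hN : (u : Ω) ∈ normalizerIn S E := ⟨u.2, H.mem_normalizer_iff' hnorm⟩
  set uN : normalizerIn S E := ⟨(u : Ω), hN⟩ with huN
  set U := Ψ (H.conjX uN) with hU
  have hPmem : ∀ g : normalizerIn S E,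
      Ψ (H.conjX g) ∈ ((autInducedBy S E).subgroupOf (F.autGroup E)).map Ψ := fun g =>
    mem_map_of_mem Ψ (mem_subgroupOf.2 (conjAut_mem g.2.1 g.2.2))
  have hu1 : U ≠ 1 := fun h1 => huE (mem_subgroupOf.2 (H.mem_of_conjX IH hbij happ uN h1))
  -- the matrix of `u`
  have hUv : ∀ v : vec p S E, ((U : M2 p d) - 1).mulVec (e v) = e ⟨⁅u, (v : S)⁆, H.gam_last_le_vec (hcomm v v.2)⟩ := by
    intro v
    set c : vec p S E := ⟨⁅u, (v : S)⁆, H.gam_last_le_vec (hcomm v v.2)⟩ with hc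
    rw [Matrix.sub_mulVec, Matrix.one_mulVec, hU, happ (H.conjX uN) v (c * v) ?_, hadd, add_sub_cancel_right]
    rw [H.autFun_conjX _ (mem_subgroupOf.1 v.2.1)]
    show ((⁅u, (v : S)⁆ * (v : S) : S) : Ω) = ((u * (v : S) * u⁻¹ : S) : Ω)
    rw [commutatorElement_def, inv_mul_cancel_right]
  set zV : vec p S E := ⟨z0, hzV⟩ with hzV'
  have him : ∀ w, ∃ c : ZMod p, ((U : M2 p d) - 1).mulVec w = c • e zV := by
    intro w
    obtain ⟨v, rfl⟩ := hbij.2 w
    obtain ⟨i, hi⟩ := mem_zpowers_last hx (by omega) hz0 hz0ne (hcomm v v.2)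
    refine ⟨(i : ZMod p), ?_⟩
    rw [hUv, show (⟨⁅u, (v : S)⁆, H.gam_last_le_vec (hcomm v v.2)⟩ : vec p S E) = zV ^ i from
      Subtype.ext (by rw [SubgroupClass.coe_zpow]; exact hi), e_zpow he1 hadd, Int.cast_smul_eq_zsmul]
  have hzne : e zV ≠ 0 := fun h0 => hz0ne (congrArg Subtype.val (hbij.1 (h0.trans he1.symm)))
  have hcent : ∀ τ ∈ ((autInducedBy S E).subgroupOf (F.autGroup E)).map Ψ, τ * U = U * τ := by
    rintro _ ⟨t, ht, rfl⟩
    obtain ⟨g, hg, hgt⟩ := mem_autInducedBy_iff.1 (mem_subgroupOf.1 ht)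
    set gN : normalizerIn S E := ⟨g, hg, mem_normalizer_of_autFun hgt⟩ with hgN
    have htg : t = H.conjX gN := Subtype.ext (autFun_ext (P := E) fun y hy => by
      rw [H.autFun_conjX _ hy, hgt y hy])
    rw [htg, hU, ← commutatorElement_eq_one_iff_mul_comm, ← map_commutatorElement, ← map_commutatorElement]
    refine Units.ext (Matrix.ext_of_mulVec_single fun i => ?_)
    obtain ⟨v, hv⟩ := hbij.2 (Pi.single i 1)
    rw [Units.val_one, Matrix.one_mulVec, ← hv]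
    refine happ _ v v ?_
    rw [H.autFun_conjX _ (mem_subgroupOf.1 v.2.1)]
    have hk : ((⁅gN, uN⁆ : normalizerIn S E) : Ω) ∈ E := by
      have h1 : ⁅(⟨g, hg⟩ : S), u⁆ ∈ E.subgroupOf S := hdeep (by
        have := gam_comm (a := 1) (b := j) le_rfl (by omega) (mem_top (⟨g, hg⟩ : S)) hu
        rwa [add_comm] at this)
      exact mem_subgroupOf.1 h1
    have h1 := congrArg Subtype.val (v.2.2.2 ⟨_, H.le hk⟩ (mem_subgroupOf.2 hk)).eq
    simp only [Subgroup.coe_mul] at h1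
    show ((v : S) : Ω) = ((⁅gN, uN⁆ : normalizerIn S E) : Ω) * ((v : S) : Ω) * ((⁅gN, uN⁆ : normalizerIn S E) : Ω)⁻¹
    rw [← h1, mul_inv_cancel_right]
  have hPle := hEmb.le_zpowers_of_transvection (hPmem uN) hu1 hcent hzne him
  obtain ⟨β, hβ, hβM⟩ := H.exists_notMem_ext
  set a : S := ⟨autFun β (z0 : Ω), H.le (autFun_mem β (mem_subgroupOf.1 hzV.1))⟩ with ha
  have haV : a ∈ vec p S E := H.autFun_mem_vec hβ hzV
  have hmove : ⁅u, a⁆ ≠ 1 := by
    intro h1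
    refine hEmb.center_moved (hPmem uN) hu1 hzne him (β := Ψ ⟨β, hβ⟩) ⟨_, rfl⟩ (fun hm => ?_) ?_
    · obtain ⟨γ, hγ, hγβ⟩ := hm
      refine hβM ?_
      have h3 : ((γ⁻¹ * ⟨β, hβ⟩ : F.autGroup E) : MulAut E) ∈ extGroup F E :=
        H.ext_of_fix_vec IH (γ⁻¹ * ⟨β, hβ⟩ : F.autGroup E).2 fun v hv =>
          H.fix_of_ker IH hbij happ (by rw [map_mul, map_inv, hγβ, inv_mul_cancel]) hv
      have h4 := mul_mem (mem_subgroupOf.1 hγ) h3
      rwa [Subgroup.coe_mul, Subgroup.coe_inv, mul_inv_cancel_left] at h4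
    · rw [happ ⟨β, hβ⟩ zV ⟨a, haV⟩ rfl, hUv, show (⟨⁅u, a⁆, _⟩ : vec p S E) = 1 from Subtype.ext h1, he1]
  refine ⟨z0, a, β, hj, hjn, hdeep, hu, huE, hnorm, hz0, hz0ne, hβ, hβM, rfl, haV, hmove, hVdeep a haV,
    fun h1 => hmove (commutatorElement_eq_one_iff_commute.2
      (commute_of_deep hx (show 1 ≤ j by omega) (show 1 ≤ n - j by omega) (by omega) hu h1)), hcomm, ?_⟩
  intro τ hτ
  set τN : normalizerIn S E := ⟨(τ : Ω), τ.2, H.mem_normalizer_iff' hτ⟩ with hτN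
  obtain ⟨i, hi⟩ := mem_zpowers_iff.1 (hPle (hPmem τN))
  refine ⟨i, mem_subgroupOf.2 ?_⟩
  have h1 := H.mem_of_conjX IH hbij happ ((uN ^ i)⁻¹ * τN)
    (by rw [map_mul, map_mul, map_inv, map_inv, map_zpow, map_zpow, ← hU, hi, inv_mul_cancel])
  rw [Subgroup.coe_mul, Subgroup.coe_inv, SubgroupClass.coe_zpow] at h1 ⊢
  exact h1

/-- An element with central commutators lies in the centre. -/
theorem Exc.noZ {j : ℕ} {u z0 a : S} {β : MulAut E} (X : Exc p n F E j u z0 a β) (H : Hyp p n F E)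
    (IH : Conc.{u} p (n - 1)) (hex : twoStepAt S (n - 2) ≠ twoStepAt S 2) {w : S}
    (hw : w ∈ E.subgroupOf S) (hc : ∀ e ∈ E.subgroupOf S, ⁅w, e⁆ ∈ gam S (n - 1)) :
    ∀ e ∈ E.subgroupOf S, Commute w e := by
  obtain ⟨x, hx⟩ := H.exists_x
  obtain ⟨-, h6⟩ := five_le_of_exc hx (by have := H.five; omega) hex
  have hp := hpf.out
  have hm := (mem_autGroup_iff H.le).1 X.aut
  have hwE := mem_subgroupOf.1 hw
  set w' : S := ⟨autFun β (w : Ω), H.le (autFun_mem β hwE)⟩ with hw'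
  have hw'E : w' ∈ E.subgroupOf S := mem_subgroupOf.2 (autFun_mem β hwE)
  have key : ∀ e ∈ E.subgroupOf S, ∃ e' ∈ E.subgroupOf S, (autFun β (e' : Ω) = e) ∧ ⁅w', e⁆ ∈ zpowers a := by
    intro e he
    obtain ⟨c, hc'⟩ := β.surjective ⟨(e : Ω), mem_subgroupOf.1 he⟩
    set e' : S := ⟨(c : Ω), H.le c.2⟩ with he'
    have hce : autFun β (e' : Ω) = e := by
      show autFun β (c : Ω) = e
      rw [autFun_coe, hc']
    refine ⟨e', mem_subgroupOf.2 c.2, hce, ?_⟩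
    obtain ⟨i, hi⟩ := mem_zpowers_last hx (by omega) X.zMem X.zNe (hc e' (mem_subgroupOf.2 c.2))
    refine ⟨i, Subtype.ext ?_⟩
    have hz0E : (z0 : Ω) ∈ E := mem_subgroupOf.1 (H.gam_last_le X.zMem)
    show ((a ^ i : S) : Ω) = ((⁅w', e⁆ : S) : Ω)
    rw [SubgroupClass.coe_zpow, X.aEq]
    have h1 : autFun β ((⁅w, e'⁆ : S) : Ω) = ((⁅w', e⁆ : S) : Ω) := by
      simp only [commutatorElement_def, Subgroup.coe_mul, Subgroup.coe_inv]
      show autFun β ((w : Ω) * (e' : Ω) * (w : Ω)⁻¹ * (e' : Ω)⁻¹) = autFun β (w : Ω) * (e : Ω) * (autFun β (w : Ω))⁻¹ * (e : Ω)⁻¹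
      rw [hm.map_mul (mul_mem (mul_mem hwE c.2) (inv_mem hwE)) (inv_mem c.2), hm.map_conj hwE c.2,
        hm.map_inv c.2, hce]
    rw [← h1, hi, SubgroupClass.coe_zpow, autFun_apply β hz0E, autFun_apply β (zpow_mem hz0E i),
      ← SubgroupClass.coe_zpow, ← map_zpow]
    rfl
  have haZ : zpowers a ⊓ gam S (n - 1) = ⊥ := by
    rw [eq_bot_iff]
    rintro q ⟨hq, hq'⟩
    obtain ⟨i, rfl⟩ := mem_zpowers_iff.1 hq
    by_contra hne
    have hdvd : ¬ (p : ℤ) ∣ i := fun ⟨t, ht⟩ => hne (by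
      rw [mem_bot, ht, zpow_mul, zpow_natCast, X.aVec.2.1, one_zpow])
    obtain ⟨r, s, hrs⟩ := (Nat.prime_iff_prime_int.1 hp).coprime_iff_not_dvd.2 hdvd
    refine X.aNot (gam_anti (show n - j ≤ n - 1 by have := X.two; omega) ?_)
    have h1 : a = (a ^ i) ^ s := by
      conv_lhs => rw [← zpow_one a, ← hrs, zpow_add, mul_comm r, zpow_mul, zpow_natCast, X.aVec.2.1, one_zpow,
        one_mul, mul_comm s, zpow_mul]
    rw [h1]
    exact (gam S (n - 1)).zpow_mem hq' s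
  have hw'deep : w' ∈ lev S (n - 1 - j) :=
    deep_of_pair hx hex h6 (by have := X.two; omega) X.le (zpowers a) haZ (H.inner_A' IH hw'E) fun e he => by
      obtain ⟨-, -, -, h1⟩ := key e (X.deep he)
      exact h1
  intro e he
  set e1 : S := ⟨autFun β (e : Ω), H.le (autFun_mem β (mem_subgroupOf.1 he))⟩ with he1
  obtain ⟨-, -, -, h1⟩ := key e1 (mem_subgroupOf.2 (autFun_mem β (mem_subgroupOf.1 he)))
  have h2 : ⁅w', e1⁆ ∈ gam S (n - j) := by
    rw [← commutatorElement_inv]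
    refine inv_mem ?_
    have := comm_top_lev hx (show 1 ≤ n - 1 - j by have := X.le; omega) (g := e1) hw'deep
    rwa [lev_eq (show 2 ≤ n - 1 - j + 1 by have := X.le; omega),
      show n - 1 - j + 1 = n - j by have := X.le; omega] at this
  obtain ⟨i, hi⟩ := mem_zpowers_iff.1 h1
  have h3 : ⁅w', e1⁆ = 1 := by
    by_contra hne
    have hdvd : ¬ (p : ℤ) ∣ i := fun ⟨t, ht⟩ => hne (by
      rw [← hi, ht, zpow_mul, zpow_natCast, X.aVec.2.1, one_zpow])
    obtain ⟨r, s, hrs⟩ := (Nat.prime_iff_prime_int.1 hp).coprime_iff_not_dvd.2 hdvd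
    refine X.aNot ?_
    have h4 : a = (a ^ i) ^ s := by
      conv_lhs => rw [← zpow_one a, ← hrs, zpow_add, mul_comm r, zpow_mul, zpow_natCast, X.aVec.2.1, one_zpow,
        one_mul, mul_comm s, zpow_mul]
    rw [h4, hi]
    exact zpow_mem h2 s
  have h4 := congrArg Subtype.val (commutatorElement_eq_one_iff_commute.1 h3).eq
  simp only [Subgroup.coe_mul] at h4
  refine Subtype.ext ?_
  simp only [Subgroup.coe_mul]
  refine hm.inj (mul_mem hwE (mem_subgroupOf.1 he)) (mul_mem (mem_subgroupOf.1 he) hwE) ?_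
  rw [hm.map_mul hwE (mem_subgroupOf.1 he), hm.map_mul (mem_subgroupOf.1 he) hwE]
  exact h4

end CfsgLib.MCFusion
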