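import Cfsg.Agent.Lib.MaxClassFusion.ExcBase
import Cfsg.Agent.Lib.MaxClassFusion.C2Struct

/-!
# The exceptional case with the second centre inside the subgroup

A conjugate of the transvection fixes a line of the second centre other than the centre, so the
subgroup is essential in the centralizer of that line, and modulo it too large.
-/

set_option autoImplicit false
set_option linter.style.haveILetI false
set_option linter.unusedSectionVars false

open Subgroup
open scoped commutatorElement Classical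

namespace CfsgLib.MCFusion

open Cfsg (FusionSystem autInducedBy)
open Cfsg.FusionSystem (normalizerIn centralizerIn preimageAlong)
open CfsgLib.Fusion
open CfsgLib.Fusion.MaxClassCubeSystem (sub mem_sub sub_le sub_centralizer card_sub sub_subgroupOf)
open CfsgLib.MaxClassShift (gam gam_normal gam_anti gam_one gam_comm)
open CfsgLib.MaxClassUniform (Uniform gam_le_twoStepAt exists_uniform)
open CfsgLib.PGroup.MaxClassRank (twoStepAt)
open CfsgLib.MaxClassEss

universe u

variable {Ω : Type u} [Group Ω] {S : Subgroup Ω} [Finite S] {p n : ℕ} [hpf : Fact p.Prime]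
  {F : FusionSystem S} {E : Subgroup Ω} {x : S}

/-- Elements commuting with `γ₂` lie in the second centre in the exceptional case. -/
theorem mem_of_commute_gam_two (hx : Uniform x p n) (hex : twoStepAt S (n - 2) ≠ twoStepAt S 2)
    (h6 : 6 ≤ n) {v : S} (hv : ∀ w ∈ gam S 2, Commute v w) : v ∈ gam S (n - 2) := by
  by_cases hA : v ∈ lev S 1
  · by_contra hne
    rw [← lev_eq (G := S) (show 2 ≤ n - 2 by omega)] at hne
    obtain ⟨L, hL, hLn, hvL, hvL'⟩ := exists_lev_level hA (show 1 ≤ n - 2 by omega) hne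
    obtain ⟨e, he, hne'⟩ := exists_pair hx (by omega) hex hL (by omega) hvL hvL'
    rw [lev_eq (show 2 ≤ n - 1 - L by omega)] at he
    exact hne' (commutatorElement_eq_one_iff_commute.2 (hv e (gam_anti (by omega) he)))
  · exfalso
    rw [lev_one] at hA
    obtain ⟨w, hw, hw'⟩ := exists_layer hx (k := 2) le_rfl (by omega)
    refine (step_level hx (by omega) hA (L := 2) (by omega) (by omega) (Or.inl (by omega))
      (by rw [lev_eq le_rfl]; exact hw) hw').2 ?_
    rw [commutatorElement_eq_one_iff_commute.2 (hv w hw)]; exact one_mem _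

/-- A line of the second centre other than the centre has the same centralizer. -/
theorem centralizer_line (hx : Uniform x p n) (h6 : 6 ≤ n) {r : S} (hr : r ∈ gam S (n - 2))
    (hr' : r ∉ gam S (n - 1)) :
    centralizer ((zpowers r : Subgroup S) : Set S) = twoStepAt S (n - 2) := by
  refine le_antisymm (fun g hg v hv => ?_) fun g hg => mem_centralizer_iff.2 fun v hv => ?_
  · have hle : gam S (n - 2) ≤ centralizer ({g} : Set S) :=
      gam_le_of_mem hx (L := n - 2) (by omega) (by omega) hr (by rwa [show n - 2 + 1 = n - 1 by omega])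
        (mem_centralizer_singleton_iff.2 (mem_centralizer_iff.1 hg r (mem_zpowers r)))
        fun z hz => mem_centralizer_singleton_iff.2 (by
          rw [show n - 2 + 1 = n - 1 by omega] at hz
          exact (comm_gam_central hx hz g).symm)
    rw [commutatorElement_eq_one_iff_mul_comm.2 (mem_centralizer_singleton_iff.1 (hle hv)).symm]
    exact one_mem _
  · obtain ⟨i, rfl⟩ := mem_zpowers_iff.1 hv
    exact (last_two_commute hx (zpow_mem hr i) hg).eq.symm

/-- A line of the second centre other than the centre is fully centralized for large order. -/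
theorem fullyCentralized_line (hx : Uniform x p n) (hex : twoStepAt S (n - 2) ≠ twoStepAt S 2)
    (h7 : 7 ≤ n) (hF : F.IsSaturated p) {r : S} (hr : r ∈ gam S (n - 2)) (hr' : r ∉ gam S (n - 1)) :
    F.IsFullyCentralized (sub (zpowers r)) := by
  have hp := hpf.out
  have h5 : 5 ≤ p := (five_le_of_exc hx (by omega) hex).1
  have hrp : r ^ p = 1 := pow_eq_one_of_deep hx (show 2 ≤ n - 2 by omega) (by omega) hr
  have hRc : Nat.card (sub (zpowers r)) = p := by
    rw [card_sub, Nat.card_zpowers, orderOf_eq_prime hrp fun e => hr' (e ▸ one_mem _)]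
  refine ⟨sub_le _, fun Q hQ => ?_⟩
  have hQS := (isConj_le hQ).2
  rw [← sub_subgroupOf hQS, ← sub_centralizer, ← sub_centralizer, card_sub, card_sub,
    centralizer_line hx (by omega) hr hr']
  have hc := (isConj_card hQ).trans hRc
  have hQc : Nat.card (Q.subgroupOf S) = p := (Nat.card_congr (subgroupOfEquivOfLe hQS).toEquiv).trans hc
  have hne : centralizer ((Q.subgroupOf S : Subgroup S) : Set S) ≠ ⊤ := by
    intro he
    have hQZ : Q.subgroupOf S = gam S (n - 1) := eq_of_le_of_card_ge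
      (fun q hq => last_of_central hx (by omega) fun s => mem_centralizer_iff.1 (he.ge (mem_top s)) q hq)
      (by rw [hQc, hx.card_gam (by omega) (by omega), show n - (n - 1) = 1 by omega, pow_one])
    obtain ⟨f, hf, himg⟩ := isConj_iff.1 hQ
    have hQn : (Q.subgroupOf S).Normal := by rw [hQZ]; exact gam_normal _
    have hfn : F.IsFullyNormalized Q := ⟨hQS, fun R _ => by
      rw [show normalizerIn S Q = S from inf_eq_left.2 ((normal_subgroupOf_iff_le_normalizer hQS).1 hQn)]
      exact card_le_of_le' le_rfl inf_le_left⟩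
    obtain ⟨k, hk, hkf⟩ := (isReceptive_iff.1 (IsSaturated.automized_receptive hx.isPGroup hF hfn).2).2 _ f hf himg
    set C := sub (twoStepAt S (n - 2)) with hC
    have hcomm : ∀ g ∈ C, ∀ y ∈ sub (zpowers r), g * y * g⁻¹ = y := by
      rintro _ ⟨g, hg, rfl⟩ _ ⟨y, hy, rfl⟩
      obtain ⟨i, rfl⟩ := mem_zpowers_iff.1 hy
      show ((g * r ^ i * g⁻¹ : S) : Ω) = ((r ^ i : S) : Ω)
      rw [(last_two_commute hx (zpow_mem hr i) hg).eq, mul_inv_cancel_right]
    have hCext : C ≤ extSub S (sub (zpowers r)) f := fun g hg => by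
      refine mem_extSub.2 ⟨⟨sub_le _ hg, mem_normalizer_iff.2 fun y => ⟨fun hy => ?_, fun hy => ?_⟩⟩, 1,
        one_mem S, fun y hy => by rw [hcomm g hg y hy, one_mul, inv_one, mul_one]⟩
      · rw [hcomm g hg y hy]; exact hy
      · have h1 := hcomm g⁻¹ (inv_mem hg) _ hy
        rw [show g⁻¹ * (g * y * g⁻¹) * g⁻¹⁻¹ = y by group] at h1
        rw [h1]; exact hy
    have hkC := hk.mono hCext
    -- the image has index `p`, so contains `γ₂`
    set D := (img C k).subgroupOf S with hD
    have hDc : Nat.card D = Nat.card (twoStepAt S (n - 2)) := by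
      rw [hD, Nat.card_congr (subgroupOfEquivOfLe hkC.img_le).toEquiv, hkC.card_img, hC, card_sub]
    have hDi : D.index = p := by
      have e1 := D.card_mul_index
      have e2 := (twoStepAt S (n - 2)).card_mul_index
      rw [hDc, ← e2, index_twoStepAt hx (by omega) (by omega)] at e1
      exact Nat.eq_of_mul_eq_mul_left Nat.card_pos e1
    have hD2 : gam S 2 ≤ D := by
      haveI : D.Normal := normal_of_index_eq_minFac_card (by
        rw [hDi, hx.card, Nat.Prime.pow_minFac hp (by omega)])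
      rw [show gam S 2 = ⁅(⊤ : Subgroup S), ⊤⁆ from rfl, commutator_le]
      intro g _ g' _
      haveI : IsCyclic (S ⧸ D) := isCyclic_of_prime_card (p := p) (by rw [← index_eq_card, hDi])
      rw [← QuotientGroup.eq_one_iff, ← QuotientGroup.mk'_apply, map_commutatorElement,
        commutatorElement_eq_one_iff_mul_comm]
      obtain ⟨c, hc⟩ := IsCyclic.exists_zpow_surjective (G := S ⧸ D)
      obtain ⟨i, hi⟩ := hc (QuotientGroup.mk' D g)
      obtain ⟨l, hl⟩ := hc (QuotientGroup.mk' D g')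
      rw [← hi, ← hl]
      exact (Commute.zpow_zpow_self c i l).eq
    have hZ2C : ∀ v ∈ gam S (n - 2), (v : Ω) ∈ C := fun v hv => mem_sub.2
      (gam_le_twoStepAt hx.isPGroup (by omega) (gam_anti (show 2 ≤ n - 2 by omega) hv))
    -- the image of the second centre is the second centre
    set W := (img (sub (gam S (n - 2))) k).subgroupOf S with hW
    have hZC : sub (gam S (n - 2)) ≤ C := by rintro _ ⟨v, hv, rfl⟩; exact hZ2C v hv
    have hkZ := hkC.mono hZC
    have hWle : W ≤ gam S (n - 2) := fun w hw => mem_of_commute_gam_two hx hex (by omega) fun g hg => by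
      obtain ⟨y, ⟨v, hv, hvy⟩, hyw⟩ := hkZ.mem_img.1 (mem_subgroupOf.1 hw)
      obtain ⟨c, hcC, hcg⟩ := hkC.mem_img.1 (mem_subgroupOf.1 (hD2 hg))
      obtain ⟨c', hc', rfl⟩ := hcC
      refine Subtype.ext ?_
      show (w : Ω) * (g : Ω) = (g : Ω) * (w : Ω)
      rw [← hyw, ← hcg, ← hvy]
      exact (hkC.map_commute (hZ2C v hv) (mem_map_of_mem S.subtype hc')
        (congrArg Subtype.val (last_two_commute hx hv hc').eq.symm)).eq
    have hWeq : W = gam S (n - 2) := eq_of_le_of_card_ge hWle (by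
      rw [hW, Nat.card_congr (subgroupOfEquivOfLe hkZ.img_le).toEquiv, hkZ.card_img, card_sub])
    have hDle : D ≤ twoStepAt S (n - 2) := fun g hg v hv => by
      obtain ⟨c, ⟨c', hc', rfl⟩, hcg⟩ := hkC.mem_img.1 (mem_subgroupOf.1 hg)
      obtain ⟨y, ⟨v', hv', rfl⟩, hyv⟩ := hkZ.mem_img.1 (mem_subgroupOf.1 (hWeq.ge hv))
      rw [commutatorElement_eq_one_iff_commute.2 (show Commute g v from Subtype.ext (by
        show (g : Ω) * (v : Ω) = (v : Ω) * (g : Ω)
        rw [← hcg, ← hyv]
        exact (hkC.map_commute (mem_map_of_mem S.subtype hc') (hZ2C v' hv')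
          (congrArg Subtype.val (last_two_commute hx hv' hc').eq)).eq))]
      exact one_mem _
    have hDeq : img C k = C := by
      rw [← sub_subgroupOf hkC.img_le, hC, ← hD, eq_of_le_of_card_ge hDle hDc.ge]
    -- the automorphism moves the line to the centre
    set e := (twoStepAt S (n - 2)).equivMapOfInjective S.subtype S.subtype_injective with he'
    set σ := e.trans ((autOf hkC hDeq).trans e.symm) with hσ
    have hrC : r ∈ twoStepAt S (n - 2) :=
      gam_le_twoStepAt hx.isPGroup (by omega) (gam_anti (show 2 ≤ n - 2 by omega) hr)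
    have hrR : (r : Ω) ∈ sub (zpowers r) := mem_sub.2 (mem_zpowers r)
    have hσr : (((σ ⟨r, hrC⟩ : twoStepAt S (n - 2)) : S) : Ω) = f (r : Ω) := by
      have hkr : autFun (autOf hkC hDeq) (r : Ω) = k (r : Ω) :=
        autFun_autOf hkC hDeq (mem_map_of_mem S.subtype hrC)
      rw [← hkf _ hrR, ← hkr]
      show ((e (σ ⟨r, hrC⟩) : sub (twoStepAt S (n - 2))) : Ω) = _
      rw [hσ, MulEquiv.trans_apply, MulEquiv.trans_apply, MulEquiv.apply_symm_apply]
      exact (autFun_coe _ _).symm
    have hσZ : ((σ ⟨r, hrC⟩ : twoStepAt S (n - 2)) : S) ∈ gam S (n - 1) := by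
      rw [← hQZ, mem_subgroupOf, hσr, ← himg]
      exact hf.mem_img.2 ⟨_, hrR, rfl⟩
    have h1 := aut_C2_gam hx hex h7 (show 2 ≤ n - 1 by omega) σ⁻¹ hσZ
    rw [MulAut.inv_apply_self] at h1
    exact hr' h1
  have h1 := CfsgLib.MaxClassCube.mul_card_le hx.isPGroup (lt_top_iff_ne_top.2 hne)
  rw [card_top, hx.card] at h1
  have e := (twoStepAt S (n - 2)).card_mul_index
  rw [index_twoStepAt hx (by omega) (by omega), hx.card] at e
  rw [← e, mul_comm] at h1
  exact Nat.le_of_mul_le_mul_right h1 hp.pos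

/-- The second centre does not lie in the subgroup. -/
theorem Exc.false_of_mem {j : ℕ} {u z0 a : S} {β : MulAut E} (X : Exc p n F E j u z0 a β)
    (H : Hyp p n F E) (IH : Conc.{u} p (n - 1)) (IH2 : Conc.{u} p (n - 2))
    (hex : twoStepAt S (n - 2) ≠ twoStepAt S 2) {r : S} (hr : r ∈ gam S (n - 2))
    (hr' : r ∉ gam S (n - 1)) (hrE : r ∈ E.subgroupOf S) : False := by
  obtain ⟨x, hx⟩ := H.exists_x
  have hp := hpf.out
  obtain ⟨hp5, h6⟩ := five_le_of_exc hx (by have := H.five; omega) hex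
  haveI := finite_of_le H.le
  haveI := finite_mulAut (P := E)
  have hEA := H.inner_A' IH
  have hZ2E : gam S (n - 2) ≤ E.subgroupOf S := gam_le_of_mem hx (by omega) (by omega) hr
    (by rwa [show n - 2 + 1 = n - 1 by omega]) hrE (by rw [show n - 2 + 1 = n - 1 by omega]; exact H.gam_last_le)
  have hZ2c : ∀ w ∈ gam S (n - 2), ∀ e ∈ E.subgroupOf S, Commute w e := fun w hw =>
    X.noZ H IH hex (hZ2E hw) fun e _ => by
      have := gam_comm (a := n - 2) (b := 1) (by omega) le_rfl hw (mem_top e)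
      rwa [show n - 2 + 1 = n - 1 by omega] at this
  have hE2 : E.subgroupOf S ≤ gam S 2 := fun e he => mem_gam_two_of_inner hx hex (by omega)
    (fun v hv => by
      rw [commutatorElement_eq_one_iff_commute.2 (hZ2c v hv e he).symm]; exact one_mem _)
    (lev_one (G := S) ▸ hEA he)
  have hfull : Nat.card E < Nat.card (gam S 2) := by
    refine lt_of_le_of_ne ((H.card_E).symm.trans_le (card_le_of_le hE2)) fun he => H.not_normal hp5 ?_
    rw [eq_of_le_of_card_ge hE2 (by rw [H.card_E, he])]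
    exact gam_normal 2
  rw [hx.card_gam le_rfl (by omega)] at hfull
  rcases (show n = 6 ∨ 8 ≤ n by
    obtain ⟨m, rfl⟩ := even_of_exc hx (by omega) hex; omega) with rfl | h8
  · exact absurd (H.card_ge_of_Z2 hp5 hZ2E hZ2c) (not_le.2 hfull)
  -- the conjugate of the transvection
  have hN : (u : Ω) ∈ normalizerIn S E := ⟨u.2, H.mem_normalizer_iff' X.norm⟩
  set t := conjAut (u : Ω) hN.2 with ht
  set g := β * t * β⁻¹ with hg
  have htA : t ∈ autInducedBy S E := conjAut_mem hN.1 hN.2
  have hgX : g ∈ F.autGroup E :=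
    mul_mem (mul_mem X.aut (autInducedBy_le_autGroup H.le htA)) (inv_mem X.aut)
  have hgM : g ∉ extGroup F E := fun hm => X.out (H.ext_embedded htA
    (H.conjAut_notInn hN.1 hN.2 fun h1 => X.notMem (mem_subgroupOf.2 h1)) X.aut hm)
  have hz0E : (z0 : Ω) ∈ E := mem_subgroupOf.1 (H.gam_last_le X.zMem)
  have haE : (a : Ω) ∈ E := mem_subgroupOf.1 X.aVec.1
  have hm := (mem_autGroup_iff H.le).1 X.aut
  have hgv : ∀ v ∈ vec p S E, ∃ i : ℤ, autFun g (v : Ω) = ((a ^ i * v : S) : Ω) := by
    intro v hv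
    have hvE := mem_subgroupOf.1 hv.1
    set v1 : S := ⟨autFun β⁻¹ (v : Ω), H.le (autFun_mem β⁻¹ hvE)⟩ with hv1
    have hv1V : v1 ∈ vec p S E := H.autFun_mem_vec (inv_mem X.aut) hv
    obtain ⟨i, hi⟩ := mem_zpowers_last hx (by omega) X.zMem X.zNe (X.comm v1 hv1V)
    refine ⟨i, ?_⟩
    have h2 : autFun t (v1 : Ω) = (z0 : Ω) ^ i * (v1 : Ω) := by
      rw [ht, autFun_conjAut _ (mem_subgroupOf.1 hv1V.1), ← SubgroupClass.coe_zpow, ← hi]
      show _ = ((⁅u, v1⁆ * v1 : S) : Ω)
      rw [commutatorElement_def, inv_mul_cancel_right]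
      simp only [Subgroup.coe_mul, Subgroup.coe_inv]
    rw [hg, autFun_mul _ _ hvE, autFun_mul _ _ (autFun_mem β⁻¹ hvE), show autFun β⁻¹ (v : Ω) = (v1 : Ω) from rfl,
      h2, hm.map_mul (zpow_mem hz0E i) (mem_subgroupOf.1 hv1V.1), Subgroup.coe_mul, SubgroupClass.coe_zpow,
      X.aEq]
    congr 1
    · rw [autFun_apply β hz0E, autFun_apply β (zpow_mem hz0E i),
        show (⟨(z0 : Ω) ^ i, zpow_mem hz0E i⟩ : E) = (⟨(z0 : Ω), hz0E⟩ : E) ^ i from Subtype.ext (by simp),
        map_zpow, SubgroupClass.coe_zpow]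
    · show autFun β (autFun β⁻¹ (v : Ω)) = v
      rw [← autFun_mul _ _ hvE, mul_inv_cancel, autFun_one hvE]
  have hZV : z0 ∈ vec p S E := H.gam_last_le_vec X.zMem
  have hrV : r ∈ vec p S E :=
    ⟨hrE, pow_eq_one_of_deep hx (show 2 ≤ n - 2 by omega) (by omega) hr, hZ2c r hr⟩
  obtain ⟨i0, hi0⟩ := hgv z0 hZV
  obtain ⟨k, hk⟩ := hgv r hrV
  have hpi : ¬ (p : ℤ) ∣ i0 := by
    rintro ⟨c, rfl⟩
    rw [zpow_mul, zpow_natCast, X.aVec.2.1, one_zpow, one_mul] at hi0
    refine hgM (H.ext_of_fix IH hgX fun z hz => ?_)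
    obtain ⟨l, rfl⟩ := mem_zpowers_last hx (by omega) X.zMem X.zNe hz
    rw [autFun_apply g hz0E] at hi0
    rw [SubgroupClass.coe_zpow, autFun_apply g (zpow_mem hz0E l),
      show (⟨(z0 : Ω) ^ l, zpow_mem hz0E l⟩ : E) = (⟨(z0 : Ω), hz0E⟩ : E) ^ l from Subtype.ext (by simp),
      map_zpow, SubgroupClass.coe_zpow, hi0]
  obtain ⟨q, s, hqs⟩ := (Nat.prime_iff_prime_int.1 hp).coprime_iff_not_dvd.2 hpi
  set m0 : ℤ := -(k * s) with hm0
  set r' := r * z0 ^ m0 with hr'def
  have hr'2 : r' ∈ gam S (n - 2) := mul_mem hr (zpow_mem (gam_anti (show n - 2 ≤ n - 1 by omega) X.zMem) m0)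
  have hr'1 : r' ∉ gam S (n - 1) := fun h1 => hr' ((Subgroup.mul_mem_cancel_right _ (zpow_mem X.zMem m0)).1 h1)
  have hr'E : (r' : Ω) ∈ E := mem_subgroupOf.1 (hZ2E hr'2)
  have hgr' : autFun g (r' : Ω) = r' := by
    have hgm := (mem_autGroup_iff H.le).1 hgX
    rw [hr'def, Subgroup.coe_mul, hgm.map_mul (mem_subgroupOf.1 hrE) (mem_subgroupOf.1 (zpow_mem (H.gam_last_le X.zMem) m0)), hk]
    have h1 : autFun g ((z0 ^ m0 : S) : Ω) = (((a ^ i0 * z0) ^ m0 : S) : Ω) := by
      rw [SubgroupClass.coe_zpow, autFun_apply g (zpow_mem hz0E m0),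
        show (⟨(z0 : Ω) ^ m0, zpow_mem hz0E m0⟩ : E) = (⟨(z0 : Ω), hz0E⟩ : E) ^ m0 from Subtype.ext (by simp),
        map_zpow, SubgroupClass.coe_zpow, ← autFun_apply g hz0E, hi0, SubgroupClass.coe_zpow]
    rw [h1, ← Subgroup.coe_mul, ← Subgroup.coe_mul]
    refine congrArg Subtype.val ?_
    have hc1 : Commute (a ^ i0) z0 := ((vec_commute X.aVec hZV).zpow_left i0)
    have hc2 : Commute r (a ^ (i0 * m0)) := (vec_commute hrV X.aVec).zpow_right _
    rw [hc1.mul_zpow, ← zpow_mul, mul_assoc, ← mul_assoc r, hc2.eq, mul_assoc, ← mul_assoc, ← zpow_add,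
      show k + i0 * m0 = (p : ℤ) * (k * q) by rw [hm0]; linear_combination (-k) * hqs]
    rw [zpow_mul, zpow_natCast, X.aVec.2.1, one_zpow, one_mul]
  -- the centralizer system
  set Q := sub (zpowers r') with hQdef
  have hQ := fullyCentralized_line hx hex (by omega) H.sat hr'2 hr'1
  have hr'p : r' ^ p = 1 := pow_eq_one_of_deep hx (show 2 ≤ n - 2 by omega) (by omega) hr'2
  have hR2 : zpowers r' ≤ gam S (n - 2) := zpowers_le.2 hr'2
  have hRc : Nat.card (zpowers r') = p := by
    rw [Nat.card_zpowers, orderOf_eq_prime hr'p fun e => hr'1 (e ▸ one_mem _)]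
  have hRZ : zpowers r' ⊓ gam S (n - 1) = ⊥ := by
    rw [eq_bot_iff]
    rintro y ⟨hy, hy'⟩
    by_contra hy1
    obtain ⟨l, hl⟩ := mem_zpowers_iff.1 (mem_zpowers_of_prime_card hRc (g := (⟨y, hy⟩ : zpowers r'))
      (fun e => hy1 (mem_bot.2 (congrArg Subtype.val e))) (g' := ⟨r', mem_zpowers r'⟩))
    refine hr'1 ?_
    rw [← show y ^ l = r' from congrArg Subtype.val hl]
    exact (gam S (n - 1)).zpow_mem hy' l
  have hQE : Q ≤ E := by
    rintro _ ⟨w, hw, rfl⟩
    exact mem_subgroupOf.1 (hZ2E (hR2 hw))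
  have hT : centralizerIn S Q = sub (twoStepAt S (n - 2)) := by
    rw [hQdef, ← sub_centralizer, centralizer_line hx (by omega) hr'2 hr'1]
  have hNC : normalizerIn S E ≤ centralizerIn S Q := by
    intro τ hτ
    rw [hT]
    refine ⟨⟨τ, hτ.1⟩, ?_, rfl⟩
    obtain ⟨i, hi⟩ := X.gen ⟨τ, hτ.1⟩ fun e he =>
      mem_subgroupOf.2 ((mem_normalizer_iff.1 hτ.2 (e : Ω)).1 (mem_subgroupOf.1 he))
    refine gam_le_twoStepAt hx.isPGroup (show 1 ≤ n - 2 by omega) ?_
    have h1 := mul_mem (zpow_mem (gam_anti X.two X.mem) i) (hE2 hi)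
    rwa [mul_inv_cancel_left] at h1
  obtain ⟨hsat, hess⟩ := cent_essential H.isP H.sat H.ess H.lt hQE hQ hNC hgX hgM (by
    rintro _ ⟨w, hw, rfl⟩
    obtain ⟨l, rfl⟩ := mem_zpowers_iff.1 hw
    show autFun g ((r' ^ l : S) : Ω) = ((r' ^ l : S) : Ω)
    rw [SubgroupClass.coe_zpow, autFun_apply g (zpow_mem hr'E l),
      show (⟨(r' : Ω) ^ l, zpow_mem hr'E l⟩ : E) = (⟨(r' : Ω), hr'E⟩ : E) ^ l from Subtype.ext (by simp),
      map_zpow, SubgroupClass.coe_zpow, ← autFun_apply g hr'E, hgr'])
  haveI : Finite (centralizerIn S Q) := finite_of_le inf_le_left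
  set T := centralizerIn S Q with hTdef
  have hTp : IsPGroup p T := H.isP.to_le inf_le_left
  have hET : E < T := lt_of_lt_of_le (lt_normalizerIn H.isP H.le H.lt.ne) hNC
  haveI : (Q.subgroupOf T).Normal := ⟨fun z hz t => by
    have h1 := mem_centralizer_iff.1 t.2.2 (z : Ω) (mem_subgroupOf.1 hz)
    rw [show t * z * t⁻¹ = z from Subtype.ext (by
      simp only [Subgroup.coe_mul, Subgroup.coe_inv]; rw [← h1, mul_inv_cancel_right])]
    exact hz⟩
  haveI : ((zpowers r').subgroupOf (twoStepAt S (n - 2))).Normal := ⟨fun z hz t => by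
    rw [show t * z * t⁻¹ = z from Subtype.ext (by
      simp only [Subgroup.coe_mul, Subgroup.coe_inv]
      rw [(last_two_commute hx (hR2 (mem_subgroupOf.1 hz)) t.2).eq, mul_inv_cancel_right])]
    exact hz⟩
  obtain ⟨hK, hsat', hess'⟩ := quot_essential (T := T) (R := Q) hTp hsat hess hET hQE
    fun P f hf => cSystem_fix (F := F) hQ.1 (hQE.trans hET.le) le_rfl hf
  set α := QuotientGroup.mk' (Q.subgroupOf T) with hα
  obtain ⟨δ, hδ, hδ1, hδE⟩ := exists_quot_hom (R := Q)
    (((twoStepAt S (n - 2)).equivMapOfInjective S.subtype S.subtype_injective).trans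
      (MulEquiv.subgroupCongr hT.symm))
  have hker : δ.ker = (zpowers r').subgroupOf (twoStepAt S (n - 2)) := by
    ext c
    rw [MonoidHom.mem_ker, hδ1, mem_subgroupOf]
    exact mem_sub
  haveI : Finite α.range := Finite.of_surjective δ hδ
  set φ := (QuotientGroup.quotientMulEquivOfEq hker).symm.trans
    (QuotientGroup.quotientKerEquivOfSurjective δ hδ) with hφ
  obtain ⟨yq, hyq⟩ := exists_uniform_quotient hx hex (by omega) hR2 hRZ hRc
  have hu := uniform_equiv hyq φ
  have hGp : IsPGroup p α.range := (H.isP.to_subgroup _).of_surjective δ hδ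
  set E'' := imgι α E with hE''
  have hno : ∀ c ∈ E''.subgroupOf α.range, ¬ Uniform c p (n - 2) := by
    intro c hc hu'
    rw [hδE E] at hc
    obtain ⟨d, hd, rfl⟩ := hc
    have hd2 : (d : S) ∈ gam S 2 := hE2 (mem_subgroupOf.2 (mem_subgroupOf.1 hd : ((d : S) : Ω) ∈ E))
    refine not_uniform_gam_two hx hex h8 hR2 hRc hd2 ?_
    have h1 := uniform_equiv hu' φ.symm
    rwa [show φ.symm (δ d) = ((d : twoStepAt S (n - 2)) : twoStepAt S (n - 2) ⧸
        (zpowers r').subgroupOf (twoStepAt S (n - 2))) from φ.injective (by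
          rw [MulEquiv.apply_symm_apply]; rfl)] at h1
  have hconc := IH2 (quotientSystem hK) E'' hGp hu.card (by omega) hu.class_eq hsat' hess'
    (inner_of_no_uniform hu (by omega) _ hno)
  have hidx : (E''.subgroupOf α.range).index = p := by
    rcases hconc with h1 | h1
    · rw [h1, lev_one, index_twoStepAt hu le_rfl (by omega)]
    · rw [h1, index_twoStepAt hu (show 2 ≤ n - 2 - 2 by omega) (by omega)]
  have hE''c : Nat.card E'' = p ^ (n - 3) := by
    have e := (E''.subgroupOf α.range).card_mul_index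
    rw [hidx, Nat.card_congr (subgroupOfEquivOfLe hess'.1.1).toEquiv, hu.card,
      show p ^ (n - 2) = p ^ (n - 3) * p by rw [← pow_succ]; congr 1; omega] at e
    exact Nat.eq_of_mul_eq_mul_right hp.pos e
  have h1 := card_imgι_mul hQE hET.le
  rw [← hα, ← hE'', hE''c, show Nat.card Q = p from (card_sub _).trans hRc, ← pow_succ] at h1
  rw [← h1, Nat.pow_lt_pow_iff_right hp.one_lt] at hfull
  omega

end CfsgLib.MCFusion
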