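import Cfsg.Agent.Lib.MaxClassFusion.ExcBase
import Cfsg.Agent.Lib.MaxClassFusion.Auto

/-!
# The exceptional case with the second centre outside the subgroup

The torus of the transvection acts on the first two step centralizer, and its power of order two is
trivial on a section with two layers but inverts the centre.
-/

set_option autoImplicit false
set_option linter.style.haveILetI false
set_option linter.unusedSectionVars false

open Subgroup
open scoped commutatorElement Classical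

namespace CfsgLib.MCFusion

open Cfsg (FusionSystem autInducedBy)
open Cfsg.FusionSystem (normalizerIn centralizerIn)
open CfsgLib.Fusion
open CfsgLib.Fusion.MaxClassCubeSystem (sub mem_sub sub_le card_sub)
open CfsgLib.MaxClassShift (gam gam_normal gam_anti gam_one gam_comm)
open CfsgLib.MaxClassUniform (Uniform gam_le_twoStepAt)
open CfsgLib.PGroup.MaxClassRank (twoStepAt)
open CfsgLib.MaxClassEss
open CfsgLib.RegUnip (M2 GLw subgroupOfFinite)

universe u

variable {Ω : Type u} [Group Ω] {S : Subgroup Ω} [Finite S] {p n : ℕ} [hpf : Fact p.Prime]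
  {F : FusionSystem S} {E : Subgroup Ω}

/-- The second centre does lie in the subgroup. -/
theorem Exc.false_of_notMem {u z0 a : S} {β : MulAut E} (X : Exc p n F E (n - 2) u z0 a β)
    (H : Hyp p n F E) (IH : Conc.{u} p (n - 1)) (hL : Larger p n F E)
    (hex : twoStepAt S (n - 2) ≠ twoStepAt S 2) : False := by
  obtain ⟨x, hx⟩ := H.exists_x
  have hp := hpf.out
  obtain ⟨hp5, h6⟩ := five_le_of_exc hx (by have := H.five; omega) hex
  have h4 : 4 ≤ n := by omega
  haveI := finite_of_le H.le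
  haveI := finite_mulAut (P := E)
  haveI := finite_aut (G := S)
  have hEA := H.inner_A' IH
  have haA : a ∈ lev S 1 := hEA X.aVec.1
  have ha2 : a ∉ gam S 2 := by
    have := X.aNot
    rwa [show n - (n - 2) = 2 by omega] at this
  have hu := X.mem
  have hu1 : u ∉ gam S (n - 1) := fun h1 => X.notMem (H.gam_last_le h1)
  have hu2 : u ∈ gam S 2 := gam_anti (show 2 ≤ n - 2 by omega) hu
  have hup : u ^ p = 1 := pow_eq_one_of_deep hx (show 2 ≤ n - 2 by omega) (by omega) hu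
  have hucomm : ∀ w ∈ gam S 2, Commute u w := fun w hw =>
    (last_two_commute hx hu (gam_le_twoStepAt hx.isPGroup (show 1 ≤ n - 2 by omega) hw)).symm
  have hZE : gam S (n - 1) ≤ E.subgroupOf S := H.gam_last_le
  have hcz : ∀ {z : S}, z ∈ gam S (n - 1) → ∀ g, Commute g z := fun hz g => comm_gam_central hx hz g
  -- the elements with central commutators
  let U : Subgroup S := subgroupOfFinite {w | w ∈ lev S 1 ∧ ∀ b ∈ lev S 1, ⁅w, b⁆ ∈ gam S (n - 1)}
    ⟨one_mem _, fun b _ => by rw [commutatorElement_one_left]; exact one_mem _⟩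
    fun {c d} hc hd => ⟨mul_mem hc.1 hd.1, fun b hb => by
      rw [commutatorElement_mul_left_eq_conj_mul, (hcz (hd.2 b hb) c).eq, mul_inv_cancel_right]
      exact mul_mem (hd.2 b hb) (hc.2 b hb)⟩
  have hUnorm : ∀ w ∈ U, ∀ e ∈ E.subgroupOf S, w * e * w⁻¹ ∈ E.subgroupOf S := fun w hw e he => by
    rw [show w * e * w⁻¹ = ⁅w, e⁆ * e by rw [commutatorElement_def]; group]
    exact (E.subgroupOf S).mul_mem (hZE (hw.2 e (hEA he))) he
  have h3U : gam S (n - 3) ≤ U := fun w hw => ⟨gam_two_le_lev_one hx (gam_anti (by omega) hw), fun b hb => by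
    have := comm_lev hx (by omega) (i := n - 3) (k := 1) (by omega) le_rfl (by omega)
      (by rw [lev_eq (by omega)]; exact hw) hb
    rwa [show n - 3 + 1 + 1 = n - 1 by omega] at this⟩
  have hU2 : U ≤ gam S 2 := by
    intro w0 hw0
    by_contra hw02
    have hinv : ∀ k ∈ U, x * k * x⁻¹ ∈ U := by
      intro k hk
      haveI := lev_normal hx 1
      refine ⟨(lev_normal hx 1).conj_mem k hk.1 x, fun b hb => ?_⟩
      have h1 := hk.2 (x⁻¹ * b * x) (by simpa using (lev_normal hx 1).conj_mem b hb x⁻¹)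
      have h2 := (gam_normal (G := S) (n - 1)).conj_mem _ h1 x
      rwa [show x * ⁅k, x⁻¹ * b * x⁆ * x⁻¹ = ⁅x * k * x⁻¹, b⁆ by simp only [commutatorElement_def]; group] at h2
    have h2U := gam_two_le_of_inv hx h4 le_rfl (show 2 + 2 ≤ n by omega) U hinv
      (fun w hw => lev_one (G := S) ▸ hw.1) fun h => hw02 (h hw0)
    have hAU : lev S 1 ≤ U := by
      rw [lev_one_gen hx h4 hw0.1 hw02]
      exact sup_le (zpowers_le.2 hw0) h2U
    have hle : gam S 2 ≤ gam S (n - 2) := by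
      intro w hw
      obtain ⟨i, hi⟩ := X.gen w (hUnorm w (h2U hw))
      set e := (u ^ i)⁻¹ * w with he
      have heu : Commute u e := ((Commute.refl u).zpow_right i).inv_right.mul_right (hucomm w hw)
      have hec := X.noZ H IH hex hi fun e' he' => (hAU (hEA hi)).2 e' (hEA he')
      have he1 : e ∈ gam S (n - 1) := center_lev_one hx h4 hex (hEA hi) fun b hb => by
        obtain ⟨l, hl⟩ := X.gen b (hUnorm b (hAU hb))
        rw [show b = u ^ l * ((u ^ l)⁻¹ * b) by group]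
        exact (heu.symm.zpow_right l).mul_right (hec _ hl)
      have h1 := mul_mem (zpow_mem hu i) (gam_anti (show n - 2 ≤ n - 1 by omega) he1)
      rwa [he, mul_inv_cancel_left] at h1
    have h1 := card_le_of_le hle
    rw [hx.card_gam le_rfl (by omega), hx.card_gam (by omega) (by omega),
      Nat.pow_le_pow_iff_right hp.one_lt] at h1
    omega
  -- the order
  have hEbig : p ^ 4 ≤ Nat.card E := by
    refine CfsgLib.Fusion.MaxClassCubeEssential.card_ge hp5 H.isP H.card H.five H.cl H.sat H.ess ?_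
    rintro (⟨hc2, -⟩ | ⟨-, hes, -⟩)
    · set N := normalizer ((E.subgroupOf S : Subgroup S) : Set S)
      have h3N : gam S (n - 3) ≤ N := fun w hw => mem_normalizer_fintype (hUnorm w (h3U hw))
      have haN : a ∈ N := le_normalizer X.aVec.1
      have hlt : gam S (n - 3) < gam S (n - 3) ⊔ zpowers a :=
        lt_of_le_of_ne le_sup_left fun e => ha2 (gam_anti (by omega) (e.ge (mem_sup_right (mem_zpowers a))))
      have h1 := (CfsgLib.MaxClassCube.mul_card_le hx.isPGroup hlt).trans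
        (card_le_of_le (sup_le h3N (zpowers_le.2 haN)))
      let f : Fin p × (E.subgroupOf S) → N := fun ie => ⟨u ^ (ie.1 : ℕ) * (ie.2 : S),
        mul_mem (pow_mem (mem_normalizer_fintype X.norm) _) (le_normalizer ie.2.2)⟩
      have hf : Function.Surjective f := fun τ => by
        obtain ⟨i, hi⟩ := X.gen τ fun e he => (mem_normalizer_iff.1 τ.2 e).1 he
        have hp0 : (p : ℤ) ≠ 0 := by exact_mod_cast hp.ne_zero
        refine ⟨(⟨(i % p).toNat, ?_⟩, ⟨_, hi⟩), Subtype.ext ?_⟩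
        · have := Int.emod_lt_of_pos i (show (0 : ℤ) < p by exact_mod_cast hp.pos)
          have := Int.emod_nonneg i hp0
          omega
        · show u ^ (i % p).toNat * ((u ^ i)⁻¹ * (τ : S)) = τ
          have e : u ^ i = u ^ (i % p).toNat := by
            rw [← zpow_natCast, Int.toNat_of_nonneg (Int.emod_nonneg i hp0)]
            conv_lhs => rw [← Int.emod_add_mul_ediv i p, zpow_add, zpow_mul, zpow_natCast, hup, one_zpow, mul_one]
          rw [← e, mul_inv_cancel_left]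
      have h2 := h1.trans (Nat.card_le_card_of_surjective f hf)
      rw [Nat.card_prod, Nat.card_fin, H.card_E, hc2, hx.card_gam (by omega) (by omega),
        show n - (n - 3) = 3 by omega, ← pow_succ', ← pow_succ', Nat.pow_le_pow_iff_right hp.one_lt] at h2
      omega
    · let f : vec p S E →* center E := MonoidHom.mk'
        (fun v => ⟨⟨((v : S) : Ω), mem_subgroupOf.1 v.2.1⟩, mem_center_iff.2 fun e =>
          Subtype.ext (congrArg (Subtype.val : S → Ω) (v.2.2.2 ⟨e, H.le e.2⟩ (mem_subgroupOf.2 e.2)).eq.symm)⟩)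
        fun v w => rfl
      have h3 := Nat.card_le_card_of_injective f fun v w hvw =>
        Subtype.ext (Subtype.ext (congrArg (fun z : center E => ((z : E) : Ω)) hvw))
      have hlt : gam S (n - 1) < vec p S E :=
        lt_of_le_of_ne H.gam_last_le_vec fun e => X.aNot (gam_anti (by omega) (e.ge X.aVec))
      have h5 := (CfsgLib.MaxClassCube.mul_card_le hx.isPGroup hlt).trans h3
      rw [hes.2, hx.card_gam (by omega) (by omega), show n - (n - 1) = 1 by omega, pow_one] at h5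
      exact absurd h5 (not_le.2 (lt_mul_of_one_lt_left hp.pos hp.one_lt))
  -- the elements of order `p` among them
  set K0 := max 2 (n + 1 - p) with hK0
  set U' := U ⊓ gam S K0 with hU'
  have hU'p : ∀ w ∈ U', w ^ p = 1 := fun w hw =>
    pow_eq_one_of_deep hx (le_max_left _ _) (by omega) hw.2
  have h3U' : gam S (n - 3) ≤ U' := le_inf h3U (gam_anti (by omega))
  have huU' : u ∈ U' := h3U' (gam_anti (by omega) hu)
  have heU' : ∀ e ∈ U', e ∈ E.subgroupOf S → e ∈ vec p S E ∧ Commute u e := fun e he heE =>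
    ⟨⟨heE, hU'p e he, X.noZ H IH hex heE fun e' he' => he.1.2 e' (hEA he')⟩, hucomm e (hU2 he.1)⟩
  -- the torus
  obtain ⟨d, e, Ψ, hbij, he1, hadd, happ, hEmb, -⟩ := H.exists_emb IH
  have hN : (u : Ω) ∈ normalizerIn S E := ⟨u.2, H.mem_normalizer_iff' X.norm⟩
  set uN : normalizerIn S E := ⟨(u : Ω), hN⟩ with huN
  have hUv : ∀ v : vec p S E, ((Ψ (H.conjX uN) : M2 p d) - 1).mulVec (e v)
      = e ⟨⁅u, (v : S)⁆, H.gam_last_le_vec (X.comm v v.2)⟩ := by
    intro v
    set c : vec p S E := ⟨⁅u, (v : S)⁆, H.gam_last_le_vec (X.comm v v.2)⟩ with hc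
    rw [Matrix.sub_mulVec, Matrix.one_mulVec, happ (H.conjX uN) v (c * v) ?_, hadd, add_sub_cancel_right]
    rw [H.autFun_conjX _ (mem_subgroupOf.1 v.2.1)]
    show ((⁅u, (v : S)⁆ * (v : S) : S) : Ω) = ((u * (v : S) * u⁻¹ : S) : Ω)
    rw [commutatorElement_def, inv_mul_cancel_right]
  have hUne : Ψ (H.conjX uN) ≠ 1 := fun h1 => X.notMem (mem_subgroupOf.2 (H.mem_of_conjX IH hbij happ uN h1))
  have hquad : ((Ψ (H.conjX uN) : M2 p d) - 1) * ((Ψ (H.conjX uN) : M2 p d) - 1) = 0 := by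
    refine Matrix.ext_of_mulVec_single fun i => ?_
    obtain ⟨v, hv⟩ := hbij.2 (Pi.single i 1)
    rw [← hv, ← Matrix.mulVec_mulVec, hUv, hUv, Matrix.zero_mulVec,
      show (⟨⁅u, ⁅u, (v : S)⁆⁆, _⟩ : vec p S E) = 1 from
        Subtype.ext (commutatorElement_eq_one_iff_commute.2 (hcz (X.comm v v.2) u)), he1]
  obtain ⟨t, ⟨y, rfl⟩, l, hl, -, htu, -, htl, htfix, -, -, -⟩ := exists_torus hp5 hEmb
    (mem_map_of_mem Ψ (mem_subgroupOf.2 (conjAut_mem hN.1 hN.2))) hUne hquad
  set k : ℕ := ((l : ZMod p) * l).val with hk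
  obtain ⟨α, hαy, f, hf, himg, hfE⟩ := H.exists_extension IH hbij happ (u := uN) (y := y) (k := k) htu
  set P := E ⊔ zpowers (u : Ω) with hP
  have huP : (u : Ω) ∈ P := mem_sup_right (mem_zpowers _)
  have hEP : E ≤ P := le_sup_left
  have hPA : P ≤ sub (lev S 1) := sup_le (fun c hc => mem_sub.2 (hEA (mem_subgroupOf.2 hc) : (⟨c, H.le hc⟩ : S) ∈ lev S 1))
    (zpowers_le.2 (mem_sub.2 (gam_two_le_lev_one hx hu2)))
  have hPcard : Nat.card E < Nat.card P := by
    haveI := finite_of_le hf.le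
    exact card_lt_of_lt hf.le (lt_of_le_of_ne hEP fun h1 => X.notMem (mem_subgroupOf.2 (h1.ge huP)))

  obtain ⟨Φ, hΦ, hΦf⟩ : ∃ Φ ∈ F.autGroup (sub (lev S 1)), ∀ c ∈ P, autFun Φ c = f c := by
    rcases Nat.lt_or_ge n 7 with h7 | h7
    · -- order `p ^ 6`: the extension already lives on the whole centralizer
      have hPA' : P = sub (lev S 1) := by
        refine eq_of_le_of_card_le (sub_le _) hPA ?_
        rw [card_sub]
        have e1 := (lev S 1).card_mul_index
        rw [lev_one, index_twoStepAt hx le_rfl (by omega), hx.card, show n = 5 + 1 by omega, pow_succ] at e1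
        rw [lev_one, Nat.eq_of_mul_eq_mul_right hp.pos e1]
        haveI := finite_of_le hf.le
        obtain ⟨b, hb⟩ := (H.isP.to_le hf.le).exists_card_eq
        rw [hb]
        refine Nat.pow_le_pow_right hp.pos ?_
        have h9 := hEbig.trans_lt hPcard
        rw [hb, Nat.pow_lt_pow_iff_right hp.one_lt] at h9
        omega
      rw [← hPA']
      exact ⟨autOf hf himg, autOf_mem hf himg, fun c hc => autFun_autOf hf himg hc⟩
    · exact H.lift hL (Or.inr h7) (le_trans (Nat.pow_le_pow_right hp.pos (by omega)) hEbig) hPcard hPA hf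
  obtain ⟨σ, hσ, hσΦ⟩ := exists_autTop hΦ
  obtain ⟨c, hc⟩ := exists_conjTop hx
  have D := top_data hx H.sat hc
  have hσf : ∀ b : lev S 1, ((b : S) : Ω) ∈ P → (((σ b : lev S 1) : S) : Ω) = f ((b : S) : Ω) := fun b hb =>
    (hσΦ b).trans (hΦf _ hb)
  have hσE : ∀ b : lev S 1, ((b : S) : Ω) ∈ E →
      (((σ b : lev S 1) : S) : Ω) = autFun (α : MulAut E) ((b : S) : Ω) := fun b hb =>
    (hσf b (hEP hb)).trans (hfE _ hb)
  -- invariance
  have hZinv : ∀ τ : MulAut (lev S 1), ∀ b : lev S 1, (b : S) ∈ gam S (n - 1) →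
      ((τ b : lev S 1) : S) ∈ gam S (n - 1) := by
    intro τ b hb
    refine center_lev_one hx h4 hex (τ b).2 fun w hw => ?_
    obtain ⟨w', hw'⟩ := τ.surjective ⟨w, hw⟩
    have h1 : Commute b w' := Subtype.ext (hcz hb w').eq.symm
    have h2 := congrArg Subtype.val (h1.map (τ : lev S 1 →* lev S 1)).eq
    simp only [MonoidHom.coe_coe, hw'] at h2
    exact h2
  have hU'inv : ∀ τ : MulAut (lev S 1), ∀ b : lev S 1, (b : S) ∈ U' → ((τ b : lev S 1) : S) ∈ U' := by
    intro τ b hb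
    have hbU : ((τ b : lev S 1) : S) ∈ U := ⟨(τ b).2, fun w hw => by
      obtain ⟨w', hw'⟩ := τ.surjective ⟨w, hw⟩
      have h1 := hZinv τ ⁅b, w'⁆ (hb.1.2 w' w'.2)
      rwa [map_commutatorElement, hw'] at h1⟩
    refine ⟨hbU, deep_of_pow_eq_one hx (hU2 hbU) ?_⟩
    rw [← SubgroupClass.coe_pow, ← map_pow, show b ^ p = 1 from Subtype.ext (hU'p _ hb), map_one, OneMemClass.coe_one]
  set L : ℕ := (l : ZMod p).val with hL'
  -- the centre
  set c0 := ⁅u, a⁆ with hc0
  have hc0Z : c0 ∈ gam S (n - 1) := X.comm a X.aVec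
  have hc0A : c0 ∈ lev S 1 := gam_two_le_lev_one hx (gam_anti (by omega) hc0Z)
  have hσc0 : σ ⟨c0, hc0A⟩ = (⟨c0, hc0A⟩ : lev S 1) ^ L := by
    have hc0E : (c0 : Ω) ∈ E := mem_subgroupOf.1 (hZE hc0Z)
    refine Subtype.ext (Subtype.ext ?_)
    rw [hσE _ hc0E]
    set cV : vec p S E := ⟨c0, H.gam_last_le_vec hc0Z⟩
    set cA : vec p S E := ⟨_, H.autFun_mem_vec α.2 cV.2⟩
    have h1 := happ α cV cA rfl
    rw [hαy] at h1
    have h2 := congrArg (fun Y : M2 p d => Y.mulVec (e ⟨a, X.aVec⟩)) htl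
    simp only [← Matrix.mulVec_mulVec, Matrix.zero_mulVec, hUv] at h2
    rw [Matrix.sub_mulVec, Matrix.smul_mulVec, Matrix.one_mulVec, sub_eq_zero, h1] at h2
    have h3 : cA = cV ^ L := hbij.1 (by
      rw [h2, ← zpow_natCast, e_zpow he1 hadd, natCast_zsmul, ← Nat.cast_smul_eq_nsmul (ZMod p), hL',
        ZMod.natCast_zmod_val])
    have h4' := congrArg (fun v : vec p S E => ((v : S) : Ω)) h3
    simpa using h4'
  -- the moves on `U'`
  have hfixE : ∀ b : lev S 1, (b : S) ∈ U' → (b : S) ∈ E.subgroupOf S →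
      ((σ b : lev S 1) : S) * (b : S)⁻¹ ∈ gam S (n - 1) := by
    intro b hb hbE
    obtain ⟨hbV, hbu⟩ := heU' b hb hbE
    set bV : vec p S E := ⟨b, hbV⟩
    have h0 : ((Ψ (H.conjX uN) : M2 p d) - 1).mulVec (e bV) = 0 := by
      rw [hUv, show (⟨⁅u, (b : S)⁆, _⟩ : vec p S E) = 1 from
        Subtype.ext (commutatorElement_eq_one_iff_commute.2 hbu), he1]
    obtain ⟨w, hw⟩ := htfix _ h0
    obtain ⟨v, rfl⟩ := hbij.2 w
    set bA : vec p S E := ⟨_, H.autFun_mem_vec α.2 hbV⟩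
    rw [← hαy, happ α bV bA rfl, hUv, sub_eq_iff_eq_add, ← hadd] at hw
    have h1 := congrArg (fun v : vec p S E => (v : S)) (hbij.1 hw)
    simp only [Subgroup.coe_mul] at h1
    have h2 : ((σ b : lev S 1) : S) = ⁅u, (v : S)⁆ * (b : S) := by
      rw [← h1]
      exact Subtype.ext (hσE b (mem_subgroupOf.1 hbE))
    rw [h2, mul_inv_cancel_right]
    exact X.comm v v.2
  have huA : u ∈ lev S 1 := gam_two_le_lev_one hx hu2
  set uA : lev S 1 := ⟨u, huA⟩ with huA'
  set e0 : S := (u ^ k)⁻¹ * ((σ uA : lev S 1) : S) with he0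
  have he0U : e0 ∈ U' := U'.mul_mem (U'.inv_mem (U'.pow_mem huU' k)) (hU'inv σ uA huU')
  have he0E : e0 ∈ E.subgroupOf S := by
    have hfu : (((σ uA : lev S 1) : S) : Ω) = f (u : Ω) := hσf uA huP
    have hfuP : f (u : Ω) ∈ P := himg.le (hf.mem_img.2 ⟨_, huP, rfl⟩)
    set fN : normalizerIn S E := ⟨f (u : Ω), (sup_le (le_inf H.le le_normalizer) (zpowers_le.2 hN)) hfuP⟩ with hfN
    have hrel : H.conjX fN * α = α * H.conjX uN := Subtype.ext (autFun_ext (P := E) fun b hb => by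
      have hb2 : (u : Ω) * b * (u : Ω)⁻¹ ∈ E := (mem_normalizer_iff.1 hN.2 b).1 hb
      rw [Subgroup.coe_mul, Subgroup.coe_mul, autFun_mul _ _ hb, autFun_mul _ _ hb,
        H.autFun_conjX _ (autFun_mem _ hb), H.autFun_conjX _ hb, ← hfE _ hb2, ← hfE _ hb]
      exact (hf.map_conj huP (hEP hb)).symm)
    have h1 : Ψ (H.conjX fN) = Ψ (H.conjX uN) ^ k := by
      rw [← htu, ← hαy, show H.conjX fN = α * H.conjX uN * α⁻¹ by rw [← hrel, mul_inv_cancel_right],
        map_mul, map_mul, map_inv]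
    have h2 := H.mem_of_conjX IH hbij happ ((uN ^ k)⁻¹ * fN)
      (by rw [map_mul, map_mul, map_inv, map_inv, map_pow, map_pow, h1, inv_mul_cancel])
    refine mem_subgroupOf.2 ?_
    rw [he0, Subgroup.coe_mul, Subgroup.coe_inv, SubgroupClass.coe_pow, hfu]
    rw [Subgroup.coe_mul, Subgroup.coe_inv, SubgroupClass.coe_pow] at h2
    exact h2
  -- the power of order two
  set m := (p - 1) / 2 with hm
  have hm2 : m + m = p - 1 := by
    obtain ⟨q, hq⟩ := hp.odd_of_ne_two (by omega)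
    omega
  have hstep : ∀ i : ℕ, ∃ e1 ∈ U' ⊓ E.subgroupOf S,
      ((σ ^ i) uA : S) * (u ^ (k ^ i) * e1)⁻¹ ∈ gam S (n - 1) := by
    intro i
    induction i with
    | zero => exact ⟨1, one_mem _, by simp [huA']⟩
    | succ i ih =>
      obtain ⟨e1, ⟨he1U, he1E⟩, hi⟩ := ih
      have he1A : e1 ∈ lev S 1 := hEA he1E
      have hzA := gam_two_le_lev_one hx (gam_anti (show 2 ≤ n - 1 by omega) hi)
      set zA : lev S 1 := ⟨_, hzA⟩
      refine ⟨e0 ^ (k ^ i) * e1, ⟨U'.mul_mem (U'.pow_mem he0U _) he1U,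
        (E.subgroupOf S).mul_mem ((E.subgroupOf S).pow_mem he0E _) he1E⟩, ?_⟩
      have e' : (σ ^ i) uA = zA * (uA ^ (k ^ i) * ⟨e1, he1A⟩) := Subtype.ext (by
        simp only [Subgroup.coe_mul, SubgroupClass.coe_pow]
        exact (inv_mul_cancel_right _ _).symm)
      have h1 := hfixE ⟨e1, he1A⟩ he1U he1E
      have h2 := hZinv σ zA hi
      rw [pow_succ', MulAut.mul_apply, e', map_mul, map_mul, map_pow]
      simp only [Subgroup.coe_mul, SubgroupClass.coe_pow]
      rw [show ((σ uA : lev S 1) : S) = u ^ k * e0 by rw [he0, mul_inv_cancel_left],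
        ((hucomm e0 (hU2 he0U.1)).pow_left k).mul_pow, ← pow_mul, ← pow_succ',
        show ((σ ⟨e1, he1A⟩ : lev S 1) : S) = ((σ ⟨e1, he1A⟩ : lev S 1) : S) * e1⁻¹ * e1 by group]
      generalize ((σ zA : lev S 1) : S) = w2 at h2
      generalize ((σ ⟨e1, he1A⟩ : lev S 1) : S) * e1⁻¹ = w1 at h1
      have e3 : w2 * (u ^ k ^ (i + 1) * e0 ^ k ^ i * (w1 * e1)) * (u ^ k ^ (i + 1) * (e0 ^ k ^ i * e1))⁻¹
          = w2 * w1 := by
        rw [show u ^ k ^ (i + 1) * e0 ^ k ^ i * (w1 * e1) = w1 * (u ^ k ^ (i + 1) * (e0 ^ k ^ i * e1)) by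
          rw [← mul_assoc _ w1, (hcz h1 _).eq, mul_assoc, mul_assoc]]
        group
      rw [e3]
      exact mul_mem h2 h1
  obtain ⟨e1, ⟨he1U, he1E⟩, hm1⟩ := hstep m
  have hkm : u ^ (k ^ m) = u := by
    have huo : orderOf u = p := orderOf_eq_prime hup fun e => hu1 (e ▸ one_mem _)
    conv_rhs => rw [← pow_one u]
    rw [pow_eq_pow_iff_modEq, huo, ← ZMod.natCast_eq_natCast_iff, Nat.cast_pow, hk, ZMod.natCast_zmod_val,
      mul_pow, ← pow_add, hm2, ZMod.pow_card_sub_one_eq_one (Units.ne_zero l), Nat.cast_one]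
  rw [hkm] at hm1
  set τ := σ ^ m with hτ
  have hτE : ∀ i : ℕ, ∀ b : lev S 1, (b : S) ∈ U' → (b : S) ∈ E.subgroupOf S →
      (((σ ^ i) b : lev S 1) : S) * (b : S)⁻¹ ∈ gam S (n - 1) := by
    intro i b hb hbE
    induction i with
    | zero => simp
    | succ i ih =>
      have hzA := gam_two_le_lev_one hx (gam_anti (show 2 ≤ n - 1 by omega) ih)
      have e' : (σ ^ i) b = ⟨_, hzA⟩ * b := Subtype.ext (inv_mul_cancel_right _ _).symm
      rw [pow_succ', MulAut.mul_apply, e', map_mul, Subgroup.coe_mul, mul_assoc]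
      exact mul_mem (hZinv σ _ ih) (hfixE b hb hbE)
  have he1A : e1 ∈ lev S 1 := hEA he1E
  have hτu : ∀ i : ℕ, (((τ ^ i) uA : lev S 1) : S) * (u * e1 ^ i)⁻¹ ∈ gam S (n - 1) := by
    intro i
    induction i with
    | zero => simp [huA']
    | succ i ih =>
      have hzA := gam_two_le_lev_one hx (gam_anti (show 2 ≤ n - 1 by omega) ih)
      have e' : (τ ^ i) uA = ⟨_, hzA⟩ * (uA * (⟨e1, he1A⟩ : lev S 1) ^ i) :=
        Subtype.ext (inv_mul_cancel_right _ _).symm
      have h1 := hτE m ((⟨e1, he1A⟩ : lev S 1) ^ i) (U'.pow_mem he1U i) ((E.subgroupOf S).pow_mem he1E i)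
      rw [SubgroupClass.coe_pow, ← hτ] at h1
      have h2 := hZinv τ ⟨_, hzA⟩ ih
      rw [pow_succ', MulAut.mul_apply, e', map_mul, map_mul, Subgroup.coe_mul, Subgroup.coe_mul, pow_succ' e1]
      generalize ((τ ⟨_, hzA⟩ : lev S 1) : S) = w3 at h2
      set w1 := ((τ ((⟨e1, he1A⟩ : lev S 1) ^ i) : lev S 1) : S) * (e1 ^ i)⁻¹ with hw1
      rw [show ((τ ((⟨e1, he1A⟩ : lev S 1) ^ i) : lev S 1) : S) = w1 * e1 ^ i by rw [hw1, inv_mul_cancel_right]]
      set w2 := ((τ uA : lev S 1) : S) * (u * e1)⁻¹ with hw2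
      rw [show ((τ uA : lev S 1) : S) = w2 * (u * e1) by rw [hw2, inv_mul_cancel_right]]
      have hw2Z : w2 ∈ gam S (n - 1) := hm1
      have e3 : w3 * (w2 * (u * e1) * (w1 * e1 ^ i)) * (u * (e1 * e1 ^ i))⁻¹ = w3 * (w2 * w1) := by
        rw [show u * e1 = u * e1 from rfl, show w2 * (u * e1) * (w1 * e1 ^ i) = w2 * w1 * (u * (e1 * e1 ^ i)) by
          rw [← mul_assoc _ w1, mul_assoc w2, (hcz h1 _).eq]; group]
        group
      rw [e3]
      exact mul_mem h2 (mul_mem hw2Z h1)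
  have hτp := hτu p
  rw [show e1 ^ p = 1 from hU'p e1 he1U, mul_one] at hτp
  set ρ := τ ^ p with hρ
  have hρX : ρ ∈ autTop F := pow_mem (pow_mem hσ m) p
  have hρE : ∀ b : lev S 1, (b : S) ∈ U' → (b : S) ∈ E.subgroupOf S →
      ((ρ b : lev S 1) : S) * (b : S)⁻¹ ∈ gam S (n - 1) := fun b hb hbE => by
    rw [hρ, hτ, ← pow_mul]; exact hτE (m * p) b hb hbE
  have htriv : ∀ b : lev S 1, (b : S) ∈ U' → ((ρ b : lev S 1) : S) * (b : S)⁻¹ ∈ gam S (n - 1) := by
    intro b hb
    obtain ⟨i, hi⟩ := X.gen b (hUnorm b hb.1)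
    set eb : lev S 1 := (uA ^ i)⁻¹ * b with heb
    have hebv : (eb : S) = (u ^ i)⁻¹ * b := by rw [heb]; simp [huA']
    have h1 := hρE eb (hebv ▸ U'.mul_mem (U'.inv_mem (U'.zpow_mem huU' i)) hb) (hebv ▸ hi)
    have hbe : b = uA ^ i * eb := by rw [heb, mul_inv_cancel_left]
    rw [hbe, map_mul, map_zpow]
    simp only [Subgroup.coe_mul, SubgroupClass.coe_zpow]
    rw [show ((ρ uA : lev S 1) : S) = ((ρ uA : lev S 1) : S) * u⁻¹ * u by group,
      show ((ρ eb : lev S 1) : S) = ((ρ eb : lev S 1) : S) * (eb : S)⁻¹ * (eb : S) by group]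
    generalize ((ρ uA : lev S 1) : S) * u⁻¹ = w1 at hτp
    generalize ((ρ eb : lev S 1) : S) * (eb : S)⁻¹ = w2 at h1
    rw [((hcz hτp u).symm).mul_zpow, show w1 ^ i * u ^ i * (w2 * (eb : S)) = w1 ^ i * (w2 * (u ^ i * (eb : S))) by
      rw [mul_assoc, ← mul_assoc (u ^ i) w2, (hcz h1 (u ^ i)).eq, mul_assoc]]
    rw [show w1 ^ i * (w2 * (u ^ i * (eb : S))) * (u ^ i * (eb : S))⁻¹ = w1 ^ i * w2 by group]
    exact mul_mem (zpow_mem hτp i) h1
  obtain ⟨s, hs⟩ := D.pow_eq_one hx h4 (by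
      obtain ⟨b, hb, hne⟩ := exists_pair hx h4 hex (i := 1) le_rfl (by omega) (v := a) haA ha2
      exact ⟨⟨a, haA⟩, ⟨b, lev_anti hx (by omega) hb⟩, fun h => hne (commutatorElement_eq_one_iff_mul_comm.2
        (congrArg Subtype.val h))⟩)
    (U := U') (W := gam S (n - 1)) (i := n - 3) (by omega) (by omega) (Or.inl (by omega)) h3U'
    (gam_anti (by omega)) (fun θ _ b hb => hU'inv θ b hb) (fun θ _ b hb => hZinv θ b hb) hρX htriv
  rw [hρ, hτ, ← pow_mul, ← pow_mul] at hs
  have hpowc : ∀ i : ℕ, (σ ^ i) ⟨c0, hc0A⟩ = (⟨c0, hc0A⟩ : lev S 1) ^ (L ^ i) := by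
    intro i
    induction i with
    | zero => simp
    | succ i ih => rw [pow_succ', MulAut.mul_apply, ih, map_pow, hσc0, ← pow_mul, pow_succ']
  have h1 := hpowc (m * (p * p ^ s))
  rw [hs, MulAut.one_apply] at h1
  have hco : orderOf (⟨c0, hc0A⟩ : lev S 1) = p := by
    rw [← orderOf_coe]
    exact orderOf_eq_prime (H.gam_last_le_vec hc0Z).2.1 X.aMove
  conv_lhs at h1 => rw [← pow_one (⟨c0, hc0A⟩ : lev S 1)]
  rw [pow_eq_pow_iff_modEq, hco, ← ZMod.natCast_eq_natCast_iff, Nat.cast_one, Nat.cast_pow, hL',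
    ZMod.natCast_zmod_val, ← pow_succ', pow_mul, ZMod.pow_card_pow] at h1
  exact hl m (by omega) (by omega) (Units.ext (by rw [Units.val_pow_eq_pow_val, Units.val_one, ← h1]))

end CfsgLib.MCFusion
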