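import Cfsg.Agent.Lib.MaxClassFusion.ExcIn
import Cfsg.Agent.Lib.MaxClassFusion.ExcOut

/-!
# There is no exceptional subgroup
-/

set_option autoImplicit false
set_option linter.style.haveILetI false
set_option linter.unusedSectionVars false

open Subgroup
open scoped commutatorElement Classical

namespace CfsgLib.MCFusion

open Cfsg (FusionSystem)
open CfsgLib.MaxClassShift (gam gam_normal gam_anti)
open CfsgLib.MaxClassUniform (Uniform)
open CfsgLib.PGroup.MaxClassRank (twoStepAt)
open CfsgLib.MaxClassEss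

universe u

variable {Ω : Type u} [Group Ω] {S : Subgroup Ω} [Finite S] {p n : ℕ} [hpf : Fact p.Prime]
  {F : FusionSystem S} {E : Subgroup Ω}

/-- The exceptional case does not occur. -/
theorem Hyp.false_exc (H : Hyp p n F E) (IH : Conc.{u} p (n - 1)) (IH2 : Conc.{u} p (n - 2))
    (hL : Larger p n F E) (hex : twoStepAt S (n - 2) ≠ twoStepAt S 2) : False := by
  obtain ⟨x, hx⟩ := H.exists_x
  have h5 := H.five
  obtain ⟨r, hr, hr'⟩ := exists_layer hx (k := n - 2) (by omega) (by omega)
  rw [show n - 2 + 1 = n - 1 by omega] at hr'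
  by_cases hrE : r ∈ E.subgroupOf S
  · obtain ⟨j, u, hj, hjn, hdeep, hu, huE, -⟩ := H.exists_j IH
    obtain ⟨z0, a, β, X⟩ := H.exists_exc IH hex hj hjn hdeep hu huE
    exact X.false_of_mem H IH IH2 hex hr hr' hrE
  · obtain ⟨z0, a, β, X⟩ := H.exists_exc IH hex (j := n - 2) (u := r) (by omega) (by omega)
      (by rw [show n - 2 + 1 = n - 1 by omega]; exact H.gam_last_le) hr hrE
    exact X.false_of_notMem H IH hL hex

end CfsgLib.MCFusion
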