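import Cfsg.Agent.Lib.Qd.Elementary
import Mathlib.LinearAlgebra.Matrix.GeneralLinearGroup.Defs

/-!
# Subgroups of `GL₂(p)` with two transvection groups
-/

set_option autoImplicit false
set_option linter.style.haveILetI false

open Matrix

namespace CfsgLib.MCFusion

open CfsgLib.Qd (up lo)

variable {p : ℕ} [Fact p.Prime]

/-- A group containing a lower transvection and a moved conjugate of it contains `SL₂`. -/
theorem sl2_mem_of_mover (Y : Subgroup (GL (Fin 2) (ZMod p))) {T s : GL (Fin 2) (ZMod p)} {c : ZMod p}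
    (hc : c ≠ 0) (hT : (T : Matrix (Fin 2) (Fin 2) (ZMod p)) = !![1, 0; c, 1]) (hTY : T ∈ Y)
    (hst : s * T * s⁻¹ ∈ Y) (hs : (s : Matrix (Fin 2) (Fin 2) (ZMod p)) 0 1 ≠ 0)
    (t : SpecialLinearGroup (Fin 2) (ZMod p)) : (SpecialLinearGroup.toGL t : GL (Fin 2) (ZMod p)) ∈ Y := by
  set H := Y.comap (SpecialLinearGroup.toGL (n := Fin 2) (R := ZMod p)) with hH
  have hlo : ∀ a, lo a ∈ H := fun a => by
    have hl : SpecialLinearGroup.toGL (lo c) = T := Units.ext (by rw [hT]; rfl)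
    have h1 : lo c ∈ H := by rw [hH, Subgroup.mem_comap, hl]; exact hTY
    have h := pow_mem h1 (a / c).val
    rwa [CfsgLib.Qd.lo_pow, ZMod.natCast_zmod_val, div_mul_cancel₀ a hc] at h
  -- the conjugate
  set M : GL (Fin 2) (ZMod p) := s * T * s⁻¹ with hM
  have hdet : (M : Matrix (Fin 2) (Fin 2) (ZMod p)).det = 1 := by
    have hTd : (T : Matrix (Fin 2) (Fin 2) (ZMod p)).det = 1 := by rw [hT, det_fin_two]; simp
    rw [hM, Units.val_mul, Units.val_mul, det_mul, det_mul, hTd, mul_one, ← det_mul, ← Units.val_mul,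
      mul_inv_cancel, Units.val_one, det_one]
  let m : SpecialLinearGroup (Fin 2) (ZMod p) := ⟨(M : Matrix (Fin 2) (Fin 2) (ZMod p)), hdet⟩
  have hm : m ∈ H := by
    rw [hH, Subgroup.mem_comap, show SpecialLinearGroup.toGL m = M from Units.ext rfl]; exact hst
  have hb : m.1 0 1 ≠ 0 := by
    intro hb
    have e : (M : Matrix (Fin 2) (Fin 2) (ZMod p)) * (s : Matrix (Fin 2) (Fin 2) (ZMod p)) =
        (s : Matrix (Fin 2) (Fin 2) (ZMod p)) * (T : Matrix (Fin 2) (Fin 2) (ZMod p)) := by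
      rw [← Units.val_mul, ← Units.val_mul, hM, inv_mul_cancel_right]
    have hb' : (M : Matrix (Fin 2) (Fin 2) (ZMod p)) 0 1 = 0 := hb
    have e0 := congrFun (congrFun e 0) 0
    have e1 := congrFun (congrFun e 0) 1
    simp [Matrix.mul_apply, Fin.sum_univ_two, hT, hb'] at e0 e1
    have hM00 : (M : Matrix (Fin 2) (Fin 2) (ZMod p)) 0 0 = 1 := by
      exact mul_right_cancel₀ hs (e1.trans (one_mul _).symm)
    rw [hM00, one_mul] at e0
    exact mul_ne_zero hs hc (left_eq_add.1 e0)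
  -- clear the diagonal
  set β := (1 - m.1 0 0) / m.1 0 1 with hβ
  set α := (1 - m.1 1 1) / m.1 0 1 with hα
  have h1 : lo α * m * lo β ∈ H := mul_mem (mul_mem (hlo α) hm) (hlo β)
  set n := lo α * m * lo β with hn
  have n00 : n.1 0 0 = 1 := by
    simp [hn, CfsgLib.Qd.mul00, CfsgLib.Qd.mul01, hβ]; field_simp; ring
  have n01 : n.1 0 1 = m.1 0 1 := by simp [hn, CfsgLib.Qd.mul00, CfsgLib.Qd.mul01]
  have n11 : n.1 1 1 = 1 := by
    simp [hn, CfsgLib.Qd.mul10, CfsgLib.Qd.mul11, hα]; field_simp; ring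
  have n10 : n.1 1 0 = 0 := by
    have h := CfsgLib.Qd.det2 n
    rw [n00, n11, n01, one_mul, sub_eq_self] at h
    exact (mul_eq_zero.1 h).resolve_left hb
  have hup : up (m.1 0 1) ∈ H := by
    rw [show up (m.1 0 1) = n from CfsgLib.Qd.ext2 (by simp [n00]) (by simp [n01]) (by simp [n10])
      (by simp [n11])]
    exact h1
  have htop : H = ⊤ := by
    refine eq_top_iff.2 ((CfsgLib.Qd.closure_up_lo (one_ne_zero (α := ZMod p))).ge.trans
      ((Subgroup.closure_le _).2 (Set.insert_subset ?_ (Set.singleton_subset_iff.2 (hlo 1)))))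
    have h := pow_mem hup ((m.1 0 1)⁻¹).val
    rwa [CfsgLib.Qd.up_pow, ZMod.natCast_zmod_val, inv_mul_cancel₀ hb] at h
  exact htop.ge (Subgroup.mem_top t)

end CfsgLib.MCFusion
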