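import Cfsg.Agent.Lib.MaxClassFusion.GLNil
import Cfsg.Agent.Lib.MaxClassFusion.SmallDim
import Cfsg.Agent.Lib.MaxClassFusion.Two
import Cfsg.Agent.Lib.RegUnip.Reg
import Cfsg.Agent.Lib.Fusion.Sylow

/-!
# A quadratic semisimple element and a regular unipotent element

In a group of matrices with a Sylow `p`-subgroup generated by a regular unipotent element of degree
between `3` and `p - 1`, an element with eigenvalues `1` and `l`, where `l` generates the multiplicative
group, normalises a Sylow `p`-subgroup.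
-/

set_option autoImplicit false
set_option linter.style.haveILetI false
set_option linter.unusedSectionVars false

open scoped commutatorElement Classical

namespace CfsgLib.MCFusion

open CfsgLib.RegUnip (M2 GLw ent dg St Low Uni Inv shiftN)
open scoped Matrix

attribute [-simp] ZMod.inv_coe_unit

variable {p d : ℕ} [hpf : Fact p.Prime]

/-- The diagonal block of size `m` starting at `a`. -/
noncomputable def blkM (a m : ℕ) (g : M2 p d) : Matrix (Fin m) (Fin m) (ZMod p) :=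
  Matrix.of fun i j => ent g (a + i) (a + j)

theorem blkM_one {a m : ℕ} (h : a + m ≤ d) : blkM a m (1 : M2 p d) = 1 := by
  ext i j
  rw [blkM, Matrix.of_apply, CfsgLib.RegUnip.ent_one (by omega), Matrix.one_apply]
  simp [Fin.ext_iff]

theorem blkM_mul {a m : ℕ} (hd : a + m ≤ d) {g h : M2 p d} (hg : Inv g (a + m)) (hh : Inv h a) :
    blkM a m (g * h) = blkM a m g * blkM a m h := by
  ext i j
  rw [blkM, Matrix.of_apply, CfsgLib.RegUnip.ent_mul (by omega), Matrix.mul_apply,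
    Fin.sum_univ_eq_sum_range (fun k => ent g (a + i) k * ent h k (a + j)),
    ← Finset.sum_subset (s₁ := Finset.Ico a (a + m)) (s₂ := Finset.range d)
      (fun k hk => Finset.mem_range.2 (by have := Finset.mem_Ico.1 hk; omega)),
    Finset.sum_Ico_eq_sum_range, Nat.add_sub_cancel_left,
    ← Fin.sum_univ_eq_sum_range (fun k => ent g (a + i) (a + k) * ent h (a + k) (a + j))]
  · rfl
  · intro k _ hk
    rw [Finset.mem_Ico] at hk
    rcases Nat.lt_or_ge k a with h1 | h1
    · rw [hh k _ h1 (by omega), mul_zero]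
    · rw [hg _ k (by omega) (by omega), zero_mul]

/-- The action on a diagonal block. -/
noncomputable def blkHom (D : Subgroup (GLw p d)) (a m : ℕ) (hd : a + m ≤ d) (ha : D ≤ St p d a) (hb : D ≤ St p d (a + m)) :
    D →* Matrix (Fin m) (Fin m) (ZMod p) where
  toFun y := blkM a m ((y : GLw p d) : M2 p d)
  map_one' := blkM_one hd
  map_mul' y z := blkM_mul hd (CfsgLib.RegUnip.mem_St.1 (hb y.2)) (CfsgLib.RegUnip.mem_St.1 (ha z.2))

theorem St_zero (g : GLw p d) : g ∈ St p d 0 := CfsgLib.RegUnip.mem_St.2 fun i j hi _ => by omega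

theorem St_top (g : GLw p d) {a : ℕ} (ha : d ≤ a) : g ∈ St p d a :=
  CfsgLib.RegUnip.mem_St.2 fun i j _ hj => CfsgLib.RegUnip.ent_of_le (Or.inr (by omega))

theorem pow_prime_shift (hdp : d ≤ p) {x : GLw p d} (hx : (x : M2 p d) = 1 + shiftN (ZMod p) d) :
    x ^ p = 1 := by
  refine Units.ext (sub_eq_zero.1 ?_)
  rcases Nat.eq_zero_or_pos d with rfl | hd
  · exact Matrix.ext fun i => i.elim0
  haveI : Nonempty (Fin d) := ⟨⟨0, hd⟩⟩
  rw [Units.val_pow_eq_pow_val, Units.val_one, ← one_pow (M := M2 p d) p,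
    ← sub_pow_char_of_commute p (Commute.one_right (x : M2 p d))]
  refine CfsgLib.RegUnip.eq_zero_of_deg
    (CfsgLib.RegUnip.Deg.pow (CfsgLib.RegUnip.mem_Uni.1 (CfsgLib.RegUnip.uni_shift hx)) p) ?_
  push_cast; omega

theorem ent_pow_shift {x : GLw p d} (hx : (x : M2 p d) = 1 + shiftN (ZMod p) d) (k : ℕ) {i : ℕ}
    (hi : i + 1 < d) : ent ((x ^ k : GLw p d) : M2 p d) (i + 1) i = (k : ZMod p) := by
  induction k with
  | zero => rw [pow_zero, Units.val_one, CfsgLib.RegUnip.ent_one hi, if_neg (by omega), Nat.cast_zero]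
  | succ k ih =>
    rw [pow_succ, CfsgLib.RegUnip.ent_mul_sub ((Uni p d).pow_mem (CfsgLib.RegUnip.uni_shift hx) k)
      (CfsgLib.RegUnip.uni_shift hx), ih, CfsgLib.RegUnip.ent_one_shift hx i hi, Nat.cast_succ]

/-- The hypotheses on the pair. -/
structure GPair (x g h : GLw p d) (l : ZMod p) (D : Subgroup (GLw p d)) : Prop where
  gen : D = Subgroup.closure {g, h}
  small : ∀ j, 0 < j → j < p - 1 → l ^ j ≠ 1
  nz : l ≠ 0
  qg : ((g : M2 p d) - 1) * ((g : M2 p d) - l • 1) = 0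
  qh : ((h : M2 p d) - 1) * ((h : M2 p d) - l • 1) = 0
  xD : x ∈ D
  shift : (x : M2 p d) = 1 + shiftN (ZMod p) d

variable {x g h : GLw p d} {l : ZMod p} {D : Subgroup (GLw p d)}

theorem pow_sub_one_of_quadratic (hp7 : 7 ≤ p) (hl : ∀ j, 0 < j → j < p - 1 → l ^ j ≠ 1) (hl0 : l ≠ 0)
    {M : GLw p d} (hq : ((M : M2 p d) - 1) * ((M : M2 p d) - l • 1) = 0) : M ^ (p - 1) = 1 := by
  refine Units.ext ?_
  have h1 : (∀ (A : M2 p d), (A - 1) * (A - l • 1) = 0 → ∀ k, A ^ k = 1 + (∑ i ∈ Finset.range k, l ^ i) • (A - 1)) := by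
    intro A hA k
    have h2 : (A - 1) * (A - 1) = (l - 1) • (A - 1) := by
      rw [show A - l • (1 : M2 p d) = (A - 1) - (l - 1) • 1 by rw [sub_smul, one_smul]; abel, mul_sub,
        mul_smul_comm, mul_one, sub_eq_zero] at hA
      exact hA
    induction k with
    | zero => simp
    | succ k ih =>
      rw [pow_succ, ih, Finset.sum_range_succ]
      set s := ∑ i ∈ Finset.range k, l ^ i with hs
      have hg : s * (l - 1) + 1 = l ^ k := by
        have := geom_sum_mul l k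
        rw [← hs] at this
        rw [this, sub_add_cancel]
      calc (1 + s • (A - 1)) * A = (1 + s • (A - 1)) * (1 + (A - 1)) := by rw [add_sub_cancel]
        _ = 1 + (A - 1) + (s • (A - 1) + (s * (l - 1)) • (A - 1)) := by
          rw [add_mul, one_mul, mul_add, mul_one, smul_mul_assoc, h2, smul_smul]
        _ = 1 + (s + l ^ k) • (A - 1) := by rw [← hg]; module
  rw [Units.val_pow_eq_pow_val, Units.val_one, h1 _ hq]
  have h3 : ∑ i ∈ Finset.range (p - 1), l ^ i = 0 := by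
    have h4 := geom_sum_mul l (p - 1)
    rw [ZMod.pow_card_sub_one_eq_one hl0, sub_self] at h4
    exact (mul_eq_zero.1 h4).resolve_right (sub_ne_zero.2 fun e => hl 1 one_pos (by omega) (by rw [e, one_pow]))
  rw [h3, zero_smul, add_zero]

/-- An invariant step at most two below another. -/
theorem GPair.exists_prev (hp7 : 7 ≤ p) (H : GPair x g h l D) {b : ℕ} (hb : 0 < b) (hbd : b ≤ d)
    (hD : D ≤ St p d b) : ∃ b', b' < b ∧ b ≤ b' + 2 ∧ D ≤ St p d b' := by
  rcases Nat.lt_or_ge b 3 with hb3 | hb3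
  · exact ⟨0, hb, by omega, fun y _ => St_zero y⟩
  let K := AlgebraicClosure (ZMod p)
  haveI : CharP K p := charP_of_injective_ringHom (algebraMap (ZMod p) K).injective p
  let f := algebraMap (ZMod p) K
  let π := blkHom D 0 b (by omega) (fun y _ => St_zero y) (by rwa [zero_add])
  let R : D →* Module.End K (Fin b → K) :=
    ((Matrix.toLinAlgEquiv' (R := K) (n := Fin b)) :
      Matrix (Fin b) (Fin b) K →* Module.End K (Fin b → K)).comp (f.mapMatrix.toMonoidHom.comp π)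
  have hRap : ∀ (y : D) (v : Fin b → K), R y v = (blkM 0 b ((y : GLw p d) : M2 p d)).map f *ᵥ v :=
    fun y v => rfl
  have hgD : g ∈ D := H.gen ▸ Subgroup.subset_closure (Or.inl rfl)
  have hhD : h ∈ D := H.gen ▸ Subgroup.subset_closure (Or.inr rfl)
  have hq : ∀ (y : D), (((y : GLw p d) : M2 p d) - 1) * (((y : GLw p d) : M2 p d) - l • 1) = 0 →
      (R y - 1) * (R y - f l • 1) = 0 := by
    intro y hy
    set A := ((y : GLw p d) : M2 p d) with hA
    have hAS := CfsgLib.RegUnip.mem_St.1 (hD y.2)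
    have hsub : ∀ c : ZMod p, Inv (A - c • 1) (0 + b) := fun c i j hi hj => by
      rw [zero_add] at hi hj
      rw [CfsgLib.RegUnip.ent_sub, CfsgLib.RegUnip.ent_smul, hAS i j hi hj,
        CfsgLib.RegUnip.ent_one (by omega), if_neg (by omega), mul_zero, sub_zero]
    have h1 : blkM 0 b (A - 1) * blkM 0 b (A - l • 1) = 0 := by
      rw [← blkM_mul (by omega) (by simpa using hsub 1) (fun i j hi _ => by omega), hy]
      ext i j; simp [blkM, CfsgLib.RegUnip.ent_zero]
    have h2 : ∀ c : ZMod p, blkM 0 b (A - c • 1) = π y - c • 1 := fun c => by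
      rw [show π y = blkM 0 b A from rfl, ← blkM_one (d := d) (p := p) (a := 0) (m := b) (by omega)]
      ext i j; simp [blkM, CfsgLib.RegUnip.ent_sub, CfsgLib.RegUnip.ent_smul]
    rw [show A - 1 = A - (1 : ZMod p) • 1 by rw [one_smul], h2, h2, one_smul] at h1
    have h3 := congrArg ((Matrix.toLinAlgEquiv' (R := K) (n := Fin b)).toAlgHom.toRingHom.comp f.mapMatrix) h1
    rw [map_mul, map_sub, map_sub, map_one, map_zero] at h3
    have hsc : ((Matrix.toLinAlgEquiv' (R := K) (n := Fin b)).toAlgHom.toRingHom.comp f.mapMatrix)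
        (l • (1 : Matrix (Fin b) (Fin b) (ZMod p))) = f l • 1 := by
      simp only [RingHom.comp_apply, RingHom.mapMatrix_apply]
      rw [Matrix.map_smul' f _ _ (map_mul f), Matrix.map_one f (map_zero f) (map_one f)]
      simp
    rw [hsc] at h3
    exact h3
  have hl5 : f l ≠ 1 := fun e => H.small 1 one_pos (by omega) (by
    rw [pow_one]; exact f.injective (e.trans (map_one f).symm))
  haveI : Nonempty (Fin b) := ⟨⟨0, hb⟩⟩
  have hgen : Subgroup.closure ({⟨g, hgD⟩, ⟨h, hhD⟩} : Set D) = ⊤ := by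
    refine (Subgroup.map_injective D.subtype_injective) ?_
    rw [MonoidHom.map_closure, ← MonoidHom.range_eq_map, Subgroup.range_subtype, Set.image_pair]
    exact H.gen.symm
  obtain ⟨W, hW0, hW2, hWi⟩ := exists_small_invariant hgen R hl5 (hq ⟨g, hgD⟩ H.qg) (hq ⟨h, hhD⟩ H.qh)
  -- the shift
  have hN : ∀ v ∈ W, (fun i : Fin b => if hi : (i : ℕ) = 0 then 0 else v ⟨(i : ℕ) - 1, by omega⟩) ∈ W := by
    intro v hv
    have h1 := W.sub_mem (hWi ⟨x, H.xD⟩ v hv) hv
    convert h1 using 1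
    funext i
    rw [Pi.sub_apply, hRap]
    simp only [Matrix.mulVec, dotProduct, Matrix.map_apply, blkM, Matrix.of_apply, H.shift,
      CfsgLib.RegUnip.ent_add, zero_add, map_add, add_mul, Finset.sum_add_distrib]
    rw [Finset.sum_eq_single i (fun k _ hk => by
        rw [CfsgLib.RegUnip.ent_one (by omega), if_neg (fun e => hk (Fin.ext e.symm)), map_zero, zero_mul])
      (fun h => absurd (Finset.mem_univ _) h), CfsgLib.RegUnip.ent_one (by omega), if_pos rfl, map_one, one_mul,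
      add_sub_cancel_left]
    by_cases hi : (i : ℕ) = 0
    · rw [dif_pos hi]
      refine (Finset.sum_eq_zero fun k _ => ?_).symm
      rw [CfsgLib.RegUnip.ent_shiftN, if_neg (by omega), map_zero, zero_mul]
    · rw [dif_neg hi, Finset.sum_eq_single (⟨(i : ℕ) - 1, by omega⟩ : Fin b)]
      · rw [CfsgLib.RegUnip.ent_shiftN, if_pos ⟨by simp only; omega, by omega⟩, map_one, one_mul]
      · intro k _ hk
        rw [CfsgLib.RegUnip.ent_shiftN, if_neg (fun e => hk (Fin.ext (by simp only; omega))), map_zero, zero_mul]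
      · exact fun h => absurd (Finset.mem_univ _) h
  -- the least support
  have hex : ∃ m, ∃ v ∈ W, ∃ hm : m < b, v ⟨m, hm⟩ ≠ 0 := by
    obtain ⟨v, hv, hv0⟩ := W.exists_mem_ne_zero_of_ne_bot hW0
    obtain ⟨i, hi⟩ := Function.ne_iff.1 hv0
    exact ⟨i, v, hv, i.2, hi⟩
  obtain ⟨v, hv, hm, hvm⟩ := Nat.find_spec hex
  set m := Nat.find hex with hmdef
  have hlow : ∀ w ∈ W, ∀ i : Fin b, (i : ℕ) < m → w i = 0 := fun w hw i hi => by
    by_contra hne
    exact Nat.find_min hex hi ⟨w, hw, i.2, hne⟩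
  set N : (Fin b → K) → (Fin b → K) := fun w i => if hi : (i : ℕ) = 0 then 0 else w ⟨(i : ℕ) - 1, by omega⟩
  have hNv : ∀ (w : Fin b → K) (i : ℕ) (hi : i + 1 < b), N w ⟨i + 1, hi⟩ = w ⟨i, by omega⟩ := fun w i hi => by
    simp only [N]
    rw [dif_neg (Nat.succ_ne_zero i)]
    rfl
  have hNlow : ∀ (w : Fin b → K) (k : ℕ), (∀ i : Fin b, (i : ℕ) < k → w i = 0) →
      ∀ i : Fin b, (i : ℕ) < k + 1 → N w i = 0 := fun w k hk i hi => by
    simp only [N]
    split_ifs with h0
    · rfl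
    · exact hk _ (by simp only; omega)
  have hm2 : b ≤ m + 2 := by
    by_contra hlt
    have hli : LinearIndependent K ![v, N v, N (N v)] := by
      rw [Fintype.linearIndependent_iff]
      intro c hc
      have e0 := congrFun hc ⟨m, hm⟩
      have e1 := congrFun hc ⟨m + 1, by omega⟩
      have e2 := congrFun hc ⟨m + 2, by omega⟩
      have z0 := hNlow v m (hlow v hv)
      have z1 := hNlow (N v) (m + 1) z0
      simp only [Fin.sum_univ_three, Matrix.cons_val_zero, Matrix.cons_val_one, Matrix.cons_val_two,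
        Matrix.tail_cons, Matrix.head_cons, Pi.add_apply, Pi.smul_apply, smul_eq_mul, Pi.zero_apply] at e0 e1 e2
      rw [z0 ⟨m, hm⟩ (by simp), z1 ⟨m, hm⟩ (by simp), mul_zero, mul_zero, add_zero, add_zero] at e0
      have c0 : c 0 = 0 := (mul_eq_zero.1 e0).resolve_right hvm
      rw [z1 ⟨m + 1, by omega⟩ (by simp), hNv v m (by omega), c0, zero_mul, zero_add, mul_zero, add_zero] at e1
      have c1 : c 1 = 0 := (mul_eq_zero.1 e1).resolve_right hvm
      rw [hNv (N v) (m + 1) (by omega), hNv v m (by omega), c0, c1, zero_mul, zero_mul, zero_add, zero_add] at e2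
      have c2 : c 2 = 0 := (mul_eq_zero.1 e2).resolve_right hvm
      intro i
      fin_cases i <;> assumption
    have hrange : Set.range ![v, N v, N (N v)] ⊆ (W : Set (Fin b → K)) := by
      rintro _ ⟨i, rfl⟩
      fin_cases i
      · exact hv
      · exact hN v hv
      · exact hN _ (hN v hv)
    have := (linearIndependent_iff_card_eq_finrank_span.1 hli).le.trans
      (Submodule.finrank_mono (Submodule.span_le.2 hrange))
    simp only [Fintype.card_fin] at this
    omega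
  have hbasis : ∀ j : Fin b, m ≤ (j : ℕ) → (Pi.single j 1 : Fin b → K) ∈ W := by
    have hlast : ∀ (w : Fin b → K), w ∈ W → (∀ i : Fin b, (i : ℕ) + 1 < b → w i = 0) →
        w ⟨b - 1, by omega⟩ ≠ 0 → (Pi.single (⟨b - 1, by omega⟩ : Fin b) 1 : Fin b → K) ∈ W := by
      intro w hw hz hne
      have e : w = w ⟨b - 1, by omega⟩ • (Pi.single (⟨b - 1, by omega⟩ : Fin b) 1 : Fin b → K) := by
        funext i
        by_cases hi : i = ⟨b - 1, by omega⟩
        · subst hi; simp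
        · rw [Pi.smul_apply, Pi.single_eq_of_ne hi, smul_zero]
          exact hz i (by have := Fin.val_ne_of_ne hi; simp only at this; omega)
      have h1 := W.smul_mem (w ⟨b - 1, by omega⟩)⁻¹ hw
      rw [e, smul_smul, Pi.smul_apply, Pi.single_eq_same, smul_eq_mul, mul_one, inv_mul_cancel₀ hne, one_smul] at h1
      exact h1
    intro j hj
    by_cases hmb : m + 1 = b
    · have hje : j = ⟨b - 1, by omega⟩ := Fin.ext (by simp only; omega)
      rw [hje]
      refine hlast v hv (fun i hi => hlow v hv i (by omega)) ?_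
      convert hvm using 3; omega
    · have hlast' : (Pi.single (⟨b - 1, by omega⟩ : Fin b) 1 : Fin b → K) ∈ W := by
        refine hlast (N v) (hN v hv) (fun i hi => hNlow v m (hlow v hv) i (by omega)) ?_
        have h1 := hNv v m (by omega)
        convert hvm using 1
        rw [← h1]; congr 2; omega
      by_cases hj' : (j : ℕ) + 1 = b
      · have hje : j = ⟨b - 1, by omega⟩ := Fin.ext (by simp only; omega)
        rw [hje]
        exact hlast'
      · have hje : j = ⟨m, hm⟩ := Fin.ext (by simp only; omega)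
        subst hje
        have h1 := W.smul_mem (v ⟨m, hm⟩)⁻¹
          (W.sub_mem hv (W.smul_mem (v ⟨b - 1, by omega⟩) hlast'))
        convert h1 using 1
        funext i
        rw [Pi.smul_apply, Pi.sub_apply, Pi.smul_apply, smul_eq_mul, smul_eq_mul]
        by_cases hi : i = ⟨m, hm⟩
        · subst hi
          rw [Pi.single_eq_same, Pi.single_eq_of_ne (fun e => hj' (by have := congrArg Fin.val e; simp only at this ⊢; omega)),
            mul_zero, sub_zero, inv_mul_cancel₀ hvm]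
        · rw [Pi.single_eq_of_ne hi]
          by_cases hi' : i = ⟨b - 1, by omega⟩
          · subst hi'; rw [Pi.single_eq_same, mul_one, sub_self, mul_zero]
          · rw [Pi.single_eq_of_ne hi', mul_zero, sub_zero, hlow v hv i (by
              have := Fin.val_ne_of_ne hi; have := Fin.val_ne_of_ne hi'; simp only at *; omega), mul_zero]
  refine ⟨m, hm, hm2, fun y hy => CfsgLib.RegUnip.mem_St.2 fun i j hi hj => ?_⟩
  rcases Nat.lt_or_ge j b with hjb | hjb
  · have h1 := hlow _ (hWi ⟨y, hy⟩ _ (hbasis ⟨j, hjb⟩ hj)) ⟨i, by omega⟩ hi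
    rw [hRap, Matrix.mulVec_single_one] at h1
    refine f.injective ((?_ : f _ = _).trans (map_zero f).symm)
    simpa [blkM] using h1
  · exact CfsgLib.RegUnip.mem_St.1 (hD hy) i j (by omega) hjb

theorem GPair.block_det (D : Subgroup (GLw p d)) {a m : ℕ} (hm : a + m ≤ d) (ha : D ≤ St p d a)
    (hb : D ≤ St p d (a + m)) {y : GLw p d} (hy : y ∈ ⁅D, D⁆) :
    (blkM a m (y : M2 p d)).det = 1 := by
  let χ : D →* (ZMod p)ˣ := (Matrix.detMonoidHom.comp (blkHom D a m hm ha hb)).toHomUnits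
  have hle : ⁅D, D⁆ ≤ χ.ker.map D.subtype := by
    rw [Subgroup.commutator_le]
    intro u hu v hv
    exact ⟨⁅(⟨u, hu⟩ : D), ⟨v, hv⟩⁆, by
      rw [SetLike.mem_coe, MonoidHom.mem_ker, map_commutatorElement]
      exact commutatorElement_eq_one_iff_mul_comm.2 (mul_comm _ _), rfl⟩
  obtain ⟨z, hz, rfl⟩ := hle hy
  exact congrArg Units.val hz

theorem pow_lower {T : GL (Fin 2) (ZMod p)} (hT : (T : Matrix (Fin 2) (Fin 2) (ZMod p)) = !![1, 0; 1, 1])
    (k : ℕ) : ((T ^ k : GL (Fin 2) (ZMod p)) : Matrix (Fin 2) (Fin 2) (ZMod p)) = !![1, 0; (k : ZMod p), 1] := by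
  induction k with
  | zero => rw [pow_zero, Units.val_one, Nat.cast_zero, Matrix.one_fin_two]
  | succ k ih =>
    rw [pow_succ, Units.val_mul, ih, hT, Matrix.mul_fin_two, Nat.cast_succ]
    simp

/-- A diagonal element normalises the lower transvections. -/
theorem diag_conj_lower {T t : GL (Fin 2) (ZMod p)} {ζ : (ZMod p)ˣ}
    (hT : (T : Matrix (Fin 2) (Fin 2) (ZMod p)) = !![1, 0; 1, 1])
    (ht : (t : Matrix (Fin 2) (Fin 2) (ZMod p)) = !![(ζ : ZMod p), 0; 0, ((ζ⁻¹ : (ZMod p)ˣ) : ZMod p)]) :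
    t * T * t⁻¹ ∈ Subgroup.zpowers T := by
  set c : ZMod p := ((ζ⁻¹ : (ZMod p)ˣ) : ZMod p) * ((ζ⁻¹ : (ZMod p)ˣ) : ZMod p) with hc
  have h1 : T ^ c.val * t = t * T := by
    refine Units.ext ?_
    rw [Units.val_mul, Units.val_mul, pow_lower hT, ZMod.natCast_zmod_val, hT, ht, Matrix.mul_fin_two,
      Matrix.mul_fin_two, hc, mul_assoc, Units.inv_mul]
    simp
  rw [← h1, mul_inv_cancel_right]
  exact Subgroup.npow_mem_zpowers T _

/-- The two eigenvalues of a diagonal lift. -/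
theorem diag_of_lift {T t k : GL (Fin 2) (ZMod p)} {ζ : (ZMod p)ˣ}
    (hT : (T : Matrix (Fin 2) (Fin 2) (ZMod p)) = !![1, 0; 1, 1])
    (ht : (t : Matrix (Fin 2) (Fin 2) (ZMod p)) = !![(ζ : ZMod p), 0; 0, ((ζ⁻¹ : (ZMod p)ˣ) : ZMod p)])
    (hk : k ∈ Subgroup.zpowers T) :
    ((k * t : GL (Fin 2) (ZMod p)) : Matrix (Fin 2) (Fin 2) (ZMod p)) 0 0 = (ζ : ZMod p) ∧
      ((k * t : GL (Fin 2) (ZMod p)) : Matrix (Fin 2) (Fin 2) (ZMod p)) 1 1 = ((ζ⁻¹ : (ZMod p)ˣ) : ZMod p) := by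
  obtain ⟨i, hi⟩ := (Submonoid.mem_powers_iff _ _).1 (mem_powers_iff_mem_zpowers.2 hk)
  rw [← hi, Units.val_mul, pow_lower hT, ht, Matrix.mul_fin_two]
  simp

/-- A lift of the torus normalising the `p`-element. -/
theorem exists_torus_normalising {G : Type*} [Group G] [Finite G] {D D' X : Subgroup G}
    (π' : D →* GL (Fin 2) (ZMod p)) (hn : ∀ y ∈ D, ∀ z ∈ D', y * z * y⁻¹ ∈ D') (hDX : D ≤ X)
    {x s : G} (hPp : IsPGroup p (Subgroup.zpowers x)) (hsyl : ¬ p ∣ (Subgroup.zpowers x).relIndex X)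
    (hxp : x ^ p = 1) (hx : x ∈ D) (hxD' : x ∈ D') (hs : s ∈ D)
    (hT : (π' ⟨x, hx⟩ : Matrix (Fin 2) (Fin 2) (ZMod p)) = !![1, 0; 1, 1])
    (hs01 : (π' ⟨s, hs⟩ : Matrix (Fin 2) (Fin 2) (ZMod p)) 0 1 ≠ 0) (ζ : (ZMod p)ˣ) :
    ∃ t, ∃ ht : t ∈ D, t ∈ D' ∧ t * x * t⁻¹ ∈ Subgroup.zpowers x ∧
      (π' ⟨t, ht⟩ : Matrix (Fin 2) (Fin 2) (ZMod p)) 0 0 = (ζ : ZMod p) ∧
      (π' ⟨t, ht⟩ : Matrix (Fin 2) (Fin 2) (ZMod p)) 1 1 = ((ζ⁻¹ : (ZMod p)ˣ) : ZMod p) := by
  let δ : Matrix.SpecialLinearGroup (Fin 2) (ZMod p) :=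
    ⟨!![(ζ : ZMod p), 0; 0, ((ζ⁻¹ : (ZMod p)ˣ) : ZMod p)], by simp [Matrix.det_fin_two]⟩
  have hsx : (⟨s, hs⟩ * ⟨x, hx⟩ * ⟨s, hs⟩⁻¹ : D) ∈ D'.subgroupOf D := Subgroup.mem_subgroupOf.2 (hn s hs x hxD')
  have h1 := Subgroup.mem_map_of_mem π' hsx
  rw [map_mul, map_mul, map_inv] at h1
  obtain ⟨⟨t, htD⟩, htD', htπ⟩ := sl2_mem_of_mover ((D'.subgroupOf D).map π') (T := π' ⟨x, hx⟩)
    (s := π' ⟨s, hs⟩) one_ne_zero hT (Subgroup.mem_map_of_mem π' (Subgroup.mem_subgroupOf.2 hxD')) h1 hs01 δ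
  have htv : (π' ⟨t, htD⟩ : Matrix (Fin 2) (Fin 2) (ZMod p)) =
      !![(ζ : ZMod p), 0; 0, ((ζ⁻¹ : (ZMod p)ˣ) : ZMod p)] := by rw [htπ]; rfl
  set Kx : Subgroup G := ((D'.subgroupOf D) ⊓ (Subgroup.zpowers (π' ⟨x, hx⟩)).comap π').map D.subtype
  have hxK : x ∈ Kx := ⟨⟨x, hx⟩, ⟨hxD', Subgroup.mem_zpowers _⟩, rfl⟩
  have hKxX : Kx ≤ X := (Subgroup.map_subtype_le _).trans hDX
  have hsylK : ¬ p ∣ (Subgroup.zpowers x).relIndex Kx := fun hd => hsyl (hd.trans
    (Dvd.intro _ (Subgroup.relIndex_mul_relIndex _ _ _ (Subgroup.zpowers_le.2 hxK) hKxX)))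
  have htx : t * x * t⁻¹ ∈ Kx := by
    refine ⟨⟨t, htD⟩ * ⟨x, hx⟩ * ⟨t, htD⟩⁻¹, ⟨hn t htD x hxD', ?_⟩, rfl⟩
    show π' (⟨t, htD⟩ * ⟨x, hx⟩ * ⟨t, htD⟩⁻¹) ∈ Subgroup.zpowers (π' ⟨x, hx⟩)
    rw [map_mul, map_mul, map_inv]
    exact diag_conj_lower hT htv
  have htxp : IsPGroup p (Subgroup.zpowers (t * x * t⁻¹)) := fun y => ⟨1, by
    obtain ⟨i, hi⟩ := Subgroup.mem_zpowers_iff.1 y.2
    refine Subtype.ext ?_
    rw [pow_one, SubgroupClass.coe_pow, ← hi, ← zpow_natCast, ← zpow_mul, mul_comm, zpow_mul, zpow_natCast,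
      conj_pow, hxp, mul_one, mul_inv_cancel, one_zpow]
    rfl⟩
  obtain ⟨k, hk, hle⟩ := CfsgLib.Fusion.exists_conj_le_of_not_dvd_relIndex hPp (Subgroup.zpowers_le.2 hxK) hsylK
    htxp (Subgroup.zpowers_le.2 htx)
  obtain ⟨⟨k', hk'D⟩, ⟨hkD', hkπ⟩, rfl⟩ := hk
  have h2 : k' * (t * x * t⁻¹) * k'⁻¹ ∈ Subgroup.zpowers x :=
    CfsgLib.Fusion.conjBy_le_iff.1 hle _ (Subgroup.mem_zpowers (t * x * t⁻¹))
  refine ⟨k' * t, D.mul_mem hk'D htD, D'.mul_mem hkD' htD', ?_, ?_⟩
  · rwa [mul_inv_rev, show k' * t * x * (t⁻¹ * k'⁻¹) = k' * (t * x * t⁻¹) * k'⁻¹ by group]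
  · rw [show (⟨k' * t, D.mul_mem hk'D htD⟩ : D) = ⟨k', hk'D⟩ * ⟨t, htD⟩ from rfl, map_mul]
    exact diag_of_lift hT htv (Subgroup.mem_comap.1 hkπ)

/-- Both generators normalise the shift. -/
theorem GPair.normalises (hp7 : 7 ≤ p) (hd3 : 3 ≤ d) (hdp : d < p) (H : GPair x g h l D)
    {X : Subgroup (GLw p d)} (hDX : D ≤ X) (hsyl : ¬ p ∣ (Subgroup.zpowers x).relIndex X) :
    g * x * g⁻¹ ∈ Subgroup.zpowers x := by
  have hp := hpf.out
  have hxp := pow_prime_shift hdp.le H.shift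
  have hxU := CfsgLib.RegUnip.uni_shift H.shift
  have hPp : IsPGroup p (Subgroup.zpowers x) := fun y => ⟨1, by
    obtain ⟨i, hi⟩ := Subgroup.mem_zpowers_iff.1 y.2
    refine Subtype.ext ?_
    rw [pow_one, SubgroupClass.coe_pow, ← hi, ← zpow_natCast, ← zpow_mul, mul_comm, zpow_mul, zpow_natCast,
      hxp, one_zpow]
    rfl⟩
  have hgD : g ∈ D := H.gen ▸ Subgroup.subset_closure (Or.inl rfl)
  by_cases hall : ∀ a, D ≤ St p d a
  · have hlow : g ∈ Low p d := CfsgLib.RegUnip.mem_Low.2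
      (CfsgLib.RegUnip.deg_zero_iff.2 fun a => CfsgLib.RegUnip.mem_St.1 (hall a hgD))
    have h1 : g * x * g⁻¹ ∈ X ⊓ Uni p d :=
      ⟨X.mul_mem (X.mul_mem (hDX hgD) (hDX H.xD)) (X.inv_mem (hDX hgD)), CfsgLib.RegUnip.conj_mem_Uni hlow hxU⟩
    obtain ⟨k, hk, hle⟩ := CfsgLib.Fusion.exists_conj_le_of_not_dvd_relIndex hPp (Subgroup.zpowers_le.2 (hDX H.xD))
      hsyl (CfsgLib.RegUnip.isPGroup_uni.to_le inf_le_right) (inf_le_left (a := X) (b := Uni p d))
    have h2 : X ⊓ Uni p d = Subgroup.zpowers x := by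
      refine (Subgroup.eq_of_le_of_card_ge (Subgroup.zpowers_le.2 (Subgroup.mem_inf.2 ⟨hDX H.xD, hxU⟩)) ?_).symm
      rw [← CfsgLib.Fusion.card_conjBy k (X ⊓ Uni p d)]
      exact Subgroup.card_le_of_le hle
    exact h2 ▸ h1
  exfalso
  push Not at hall
  obtain ⟨a, ha⟩ := hall
  have had : a < d := by
    by_contra hlt
    exact ha fun y _ => St_top y (by omega)
  have hex : ∃ c, a < c ∧ D ≤ St p d c := ⟨d, had, fun y _ => St_top y le_rfl⟩
  obtain ⟨hac, hcD⟩ := Nat.find_spec hex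
  have hcd : Nat.find hex ≤ d := Nat.find_min' hex ⟨had, fun y _ => St_top y le_rfl⟩
  obtain ⟨a0, ha0c, hca0, ha0D⟩ := H.exists_prev hp7 (show 0 < Nat.find hex by omega) hcd hcD
  have ha0a : a0 < a := by
    rcases Nat.lt_trichotomy a0 a with h1 | h1 | h1
    · exact h1
    · exact absurd (h1 ▸ ha0D) ha
    · exact absurd ⟨h1, ha0D⟩ (Nat.find_min hex ha0c)
  have hc : Nat.find hex = a0 + 2 := by omega
  obtain rfl : a = a0 + 1 := by omega
  rw [hc] at hcD hcd
  -- the block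
  let π := blkHom D a0 2 hcd ha0D hcD
  let π' : D →* GL (Fin 2) (ZMod p) := π.toHomUnits
  obtain ⟨s, hsD, hs⟩ := SetLike.not_le_iff_exists.1 ha
  have hs01 : (π' ⟨s, hsD⟩ : Matrix (Fin 2) (Fin 2) (ZMod p)) 0 1 ≠ 0 := by
    intro e
    refine hs (CfsgLib.RegUnip.mem_St.2 fun i j hi hj => ?_)
    rcases Nat.lt_or_ge i a0 with h1 | h1
    · exact CfsgLib.RegUnip.mem_St.1 (ha0D hsD) i j h1 (by omega)
    rcases Nat.lt_or_ge j (a0 + 2) with h2 | h2
    · obtain rfl : i = a0 := by omega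
      obtain rfl : j = i + 1 := by omega
      simpa [π', π, blkHom, blkM] using e
    · exact CfsgLib.RegUnip.mem_St.1 (hcD hsD) i j (by omega) h2
  have hTx : (π' ⟨x, H.xD⟩ : Matrix (Fin 2) (Fin 2) (ZMod p)) = !![1, 0; 1, 1] := by
    have e : ∀ i j : ℕ, i < d → ent (x : M2 p d) i j = (if i = j then 1 else 0) + (if i = j + 1 then 1 else 0) := by
      intro i j hi
      rw [H.shift, CfsgLib.RegUnip.ent_add, CfsgLib.RegUnip.ent_one hi, CfsgLib.RegUnip.ent_shiftN]
      simp [hi]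
    show blkM a0 2 (x : M2 p d) = _
    ext i j
    fin_cases i <;> fin_cases j <;> simp [blkM, e _ _ (show a0 < d by omega), e _ _ (show a0 + 1 < d by omega)]
    all_goals omega
  -- `x` is a product of commutators
  set D' := ⁅D, D⁆ with hD'
  have hD'D : D' ≤ D := by
    rw [hD', Subgroup.commutator_le]
    intro a ha b hb
    exact D.mul_mem (D.mul_mem (D.mul_mem ha hb) (D.inv_mem ha)) (D.inv_mem hb)
  have hxD' : x ∈ D' := by
    let q : D →* Abelianization D := Abelianization.of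
    have h1 : ∀ y : D, q y ^ (p - 1) = 1 := by
      have hle : (⊤ : Subgroup D) ≤ ((powMonoidHom (p - 1) : Abelianization D →* Abelianization D).comp q).ker := by
        rw [← Subgroup.map_le_map_iff_of_injective (f := D.subtype) D.subtype_injective, ← MonoidHom.range_eq_map,
          Subgroup.range_subtype]
        conv_lhs => rw [H.gen]
        rw [Subgroup.closure_le]
        intro z hz
        rcases hz with hz | hz
        · rw [hz]
          refine ⟨⟨g, hgD⟩, ?_, rfl⟩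
          show q ⟨g, hgD⟩ ^ (p - 1) = 1
          rw [← map_pow, show (⟨g, hgD⟩ : D) ^ (p - 1) = 1 from
            Subtype.ext (pow_sub_one_of_quadratic hp7 H.small H.nz H.qg), map_one]
        · rw [Set.mem_singleton_iff.1 hz]
          have hhD : h ∈ D := H.gen ▸ Subgroup.subset_closure (Or.inr rfl)
          refine ⟨⟨h, hhD⟩, ?_, rfl⟩
          show q ⟨h, hhD⟩ ^ (p - 1) = 1
          rw [← map_pow, show (⟨h, hhD⟩ : D) ^ (p - 1) = 1 from
            Subtype.ext (pow_sub_one_of_quadratic hp7 H.small H.nz H.qh), map_one]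
      exact fun y => hle (Subgroup.mem_top y)
    have h2 : q ⟨x, H.xD⟩ = 1 := by
      have h3 : q ⟨x, H.xD⟩ ^ p = 1 := by
        rw [← map_pow, show (⟨x, H.xD⟩ : D) ^ p = 1 from Subtype.ext hxp, map_one]
      have h4 := pow_succ (q ⟨x, H.xD⟩) (p - 1)
      rw [Nat.sub_add_cancel hp.one_le, h1, one_mul] at h4
      rw [← h4]; exact h3
    have h4 : (⟨x, H.xD⟩ : D) ∈ commutator D := by
      rwa [← Abelianization.ker_of, MonoidHom.mem_ker]
    have h5 := Subgroup.mem_map_of_mem D.subtype h4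
    rwa [commutator_def, Subgroup.map_commutator, ← MonoidHom.range_eq_map, Subgroup.range_subtype] at h5
  have hD'conj : ∀ y ∈ D, ∀ z ∈ D', y * z * y⁻¹ ∈ D' := by
    intro y hy z hz
    have h1 : (D'.map (MulAut.conj y).toMonoidHom) ≤ D' := by
      rw [hD', Subgroup.map_commutator]
      refine Subgroup.commutator_mono ?_ ?_ <;>
      · rintro _ ⟨w, hw, rfl⟩
        exact D.mul_mem (D.mul_mem hy hw) (D.inv_mem hy)
    exact h1 ⟨z, hz, rfl⟩
  -- lift of the torus
  obtain ⟨ζ, hζ⟩ := IsCyclic.exists_generator (α := (ZMod p)ˣ)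
  have hζo : orderOf ζ = p - 1 := by
    rw [orderOf_eq_card_of_forall_mem_zpowers hζ, Nat.card_eq_fintype_card, ZMod.card_units]
  obtain ⟨t', ht'mem, ht'D', ht'x, ht'π⟩ := exists_torus_normalising (D := D) (D' := D') π' hD'conj hDX hPp hsyl
    hxp H.xD hxD' hsD hTx hs01 ζ
  obtain ⟨j, hj⟩ := Submonoid.mem_powers_iff _ _ |>.1 (mem_powers_iff_mem_zpowers.2 ht'x)
  have ht'U : t' * x * t'⁻¹ ∈ Uni p d := hj ▸ (Uni p d).pow_mem hxU j
  have ht'L : t' ∈ Low p d := CfsgLib.RegUnip.low_of_conj H.shift ht'U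
  set e := fun i => ent (t' : M2 p d) i i with he
  have hstep : ∀ i, i + 1 < d → e (i + 1) = (j : ZMod p) * e i := by
    intro i hi
    have h1 : t' * x = x ^ j * t' := by rw [hj, inv_mul_cancel_right]
    have h2 := congrArg (fun M : GLw p d => ent (M : M2 p d) (i + 1) i) h1
    simp only [Units.val_mul, H.shift, mul_add, mul_one, CfsgLib.RegUnip.ent_add] at h2
    have htdeg := CfsgLib.RegUnip.mem_Low.1 ht'L
    have h3 : ent ((t' : M2 p d) * shiftN (ZMod p) d) (i + 1) i = e (i + 1) := by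
      have := CfsgLib.RegUnip.ent_mul_top (i := i) (e := 0) (f := 1) (by exact_mod_cast htdeg)
        (CfsgLib.RegUnip.deg_shiftN (R := ZMod p) (w := d))
      rw [Nat.add_zero, CfsgLib.RegUnip.ent_shiftN, if_pos ⟨rfl, hi⟩, mul_one] at this
      exact this
    have hxj := (Uni p d).pow_mem hxU j
    have h4 : ent (((x ^ j : GLw p d) : M2 p d) * (t' : M2 p d)) (i + 1) i =
        ent (t' : M2 p d) (i + 1) i + (j : ZMod p) * e i := by
      rw [show ((x ^ j : GLw p d) : M2 p d) = (((x ^ j : GLw p d) : M2 p d) - 1) + 1 by abel, add_mul, one_mul,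
        CfsgLib.RegUnip.ent_add, add_comm]
      congr 1
      have := CfsgLib.RegUnip.ent_mul_top (i := i) (e := 1) (f := 0)
        (CfsgLib.RegUnip.deg_unit_sub_one hxj) (B := (t' : M2 p d)) (by exact_mod_cast htdeg)
      simp only [Nat.add_zero] at this
      rw [this, CfsgLib.RegUnip.ent_sub, CfsgLib.RegUnip.ent_one hi, if_neg (by omega), sub_zero,
        ent_pow_shift H.shift j hi]
    rw [h3, h4] at h2
    exact add_left_cancel h2
  have e0 : e a0 = (ζ : ZMod p) := by simpa [π', π, blkHom, blkM, he] using ht'π.1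
  have e1 : e (a0 + 1) = ((ζ⁻¹ : (ZMod p)ˣ) : ZMod p) := by simpa [π', π, blkHom, blkM, he] using ht'π.2
  -- determinants of the blocks
  have det1 : ∀ b, b + 1 ≤ d → D ≤ St p d b → D ≤ St p d (b + 1) → e b = 1 := fun b hb h1 h2 => by
    simpa [blkM, he, Matrix.det_fin_one] using GPair.block_det D hb h1 h2 ht'D'
  have det2 : ∀ b, b + 2 ≤ d → D ≤ St p d b → D ≤ St p d (b + 2) → e b * e (b + 1) = 1 := fun b hb h1 h2 => by
    have h3 := GPair.block_det D hb h1 h2 ht'D'
    have h4 : ent (t' : M2 p d) b (b + 1) = 0 :=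
      CfsgLib.RegUnip.Deg.ent_eq (CfsgLib.RegUnip.mem_Low.1 ht'L) (by omega)
    rw [Matrix.det_fin_two] at h3
    simpa [blkM, he, h4] using h3
  have hs1 := hstep a0 (by omega)
  rw [e0, e1] at hs1
  set c : ZMod p := (j : ZMod p) with hcj
  have hne : ∀ k, 0 < k → k < p - 1 → (ζ : ZMod p) ^ k ≠ 1 := fun k h0 h1 e => by
    have : ζ ^ k = 1 := Units.ext (by simpa using e)
    have := Nat.le_of_dvd h0 (hζo ▸ orderOf_dvd_of_pow_eq_one this)
    omega
  have h8 : (ζ : ZMod p) ^ 8 ≠ 1 := fun e => by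
    have h1 : ζ ^ 8 = 1 := Units.ext (by simpa using e)
    have h2 := hζo ▸ orderOf_dvd_of_pow_eq_one h1
    have h3 := Nat.le_of_dvd (by omega) h2
    have : p ≤ 9 := by omega
    interval_cases p <;> first | omega | norm_num at hp
  have hz : (ζ : ZMod p) ≠ 0 := ζ.ne_zero
  have hci : c * (ζ : ZMod p) ^ 2 = 1 := by
    rw [pow_two, ← mul_assoc, ← hs1, Units.inv_mul]
  rcases Nat.lt_or_ge (a0 + 2) d with hup | hup
  · have hex2 : ∃ c, a0 + 2 < c ∧ D ≤ St p d c := ⟨d, hup, fun y _ => St_top y le_rfl⟩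
    obtain ⟨hc2, hc2D⟩ := Nat.find_spec hex2
    have hc2d : Nat.find hex2 ≤ d := Nat.find_min' hex2 ⟨hup, fun y _ => St_top y le_rfl⟩
    obtain ⟨b, hb1, hb2, hbD⟩ := H.exists_prev hp7 (show 0 < Nat.find hex2 by omega) hc2d hc2D
    have hble : b ≤ a0 + 2 := by
      by_contra hlt
      exact Nat.find_min hex2 hb1 ⟨by omega, hbD⟩
    have hs2 := hstep (a0 + 1) (by omega)
    rw [e1] at hs2
    have h3 : e (a0 + 2) * (ζ : ZMod p) ^ 3 = 1 := by
      rw [show e (a0 + 2) = c * ((ζ⁻¹ : (ZMod p)ˣ) : ZMod p) from hs2, show c * ((ζ⁻¹ : (ZMod p)ˣ) : ZMod p) *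
        (ζ : ZMod p) ^ 3 = c * (ζ : ZMod p) ^ 2 * (((ζ⁻¹ : (ZMod p)ˣ) : ZMod p) * (ζ : ZMod p)) by ring,
        hci, Units.inv_mul, one_mul]
    rcases (show Nat.find hex2 = a0 + 2 + 1 ∨ Nat.find hex2 = a0 + 2 + 2 by omega) with hq | hq <;> rw [hq] at hc2D hc2d
    · rw [det1 (a0 + 2) hc2d hcD hc2D, one_mul] at h3
      exact hne 3 (by omega) (by omega) h3
    · have h4 := det2 (a0 + 2) hc2d hcD hc2D
      rw [hstep (a0 + 2) (by omega)] at h4
      refine h8 ?_
      calc (ζ : ZMod p) ^ 8 = e (a0 + 2) * (c * e (a0 + 2)) * (ζ : ZMod p) ^ 8 := by rw [h4, one_mul]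
        _ = (c * (ζ : ZMod p) ^ 2) * (e (a0 + 2) * (ζ : ZMod p) ^ 3) * (e (a0 + 2) * (ζ : ZMod p) ^ 3) := by ring
        _ = 1 := by rw [hci, h3, one_mul, one_mul]
  · obtain ⟨b, hb1, hb2, hbD⟩ := H.exists_prev hp7 (show 0 < a0 by omega) (by omega) ha0D
    obtain ⟨a1, rfl⟩ : ∃ a1, a0 = a1 + 1 := ⟨a0 - 1, by omega⟩
    have h3 : e a1 = (ζ : ZMod p) ^ 3 := by
      have hs2 := hstep a1 (by omega)
      rw [e0] at hs2
      calc e a1 = e a1 * (c * (ζ : ZMod p) ^ 2) := by rw [hci, mul_one]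
        _ = (ζ : ZMod p) * (ζ : ZMod p) ^ 2 := by rw [hs2]; ring
        _ = _ := by ring
    rcases (show b = a1 ∨ b + 1 = a1 by omega) with hq | hq
    · subst hq
      exact hne 3 (by omega) (by omega) (h3 ▸ det1 b (by omega) hbD ha0D)
    · subst hq
      have h4 := det2 b (by omega) hbD ha0D
      have hs2 := hstep b (by omega)
      refine h8 ?_
      calc (ζ : ZMod p) ^ 8 = (ζ : ZMod p) ^ 2 * (e (b + 1) * e (b + 1)) := by rw [h3]; ring
        _ = (ζ : ZMod p) ^ 2 * c * (e b * e (b + 1)) := by rw [hs2]; ring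
        _ = 1 := by rw [h4, mul_one, mul_comm, hci]

/-- A quadratic semisimple element normalises a Sylow subgroup. -/
theorem exists_normalises (hp7 : 7 ≤ p) (hd3 : 3 ≤ d) (hdp : d < p) {X : Subgroup (GLw p d)} {x : GLw p d}
    (hxX : x ∈ X) (hx : (x : M2 p d) = 1 + shiftN (ZMod p) d)
    (hsyl : ¬ p ∣ (Subgroup.zpowers x).relIndex X) {g : GLw p d} (hgX : g ∈ X) {l : ZMod p} (hl0 : l ≠ 0)
    (hl : ∀ j, 0 < j → j < p - 1 → l ^ j ≠ 1) (hq : ((g : M2 p d) - 1) * ((g : M2 p d) - l • 1) = 0) :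
    ∃ φ ∈ X, φ * g * φ⁻¹ * x * (φ * g * φ⁻¹)⁻¹ ∈ Subgroup.zpowers x := by
  have hp := hpf.out
  have hxp := pow_prime_shift hdp.le hx
  have hqc : ∀ y : GLw p d, (((y * g * y⁻¹ : GLw p d) : M2 p d) - 1) *
      (((y * g * y⁻¹ : GLw p d) : M2 p d) - l • 1) = 0 := by
    intro y
    have e : ∀ c : ZMod p, ((y * g * y⁻¹ : GLw p d) : M2 p d) - c • 1 =
        (y : M2 p d) * ((g : M2 p d) - c • 1) * ((y⁻¹ : GLw p d) : M2 p d) := fun c => by
      rw [mul_sub, sub_mul, mul_smul_comm, mul_one, smul_mul_assoc, Units.mul_inv, Units.val_mul, Units.val_mul]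
    have e1 := e 1
    rw [one_smul] at e1
    rw [e1, e l]
    calc _ = (y : M2 p d) * ((g : M2 p d) - 1) * (((y⁻¹ : GLw p d) : M2 p d) * (y : M2 p d)) *
          ((g : M2 p d) - l • 1) * ((y⁻¹ : GLw p d) : M2 p d) := by simp only [mul_assoc]
      _ = 0 := by rw [Units.inv_mul, mul_one, mul_assoc (y : M2 p d), hq, mul_zero, zero_mul]
  by_cases hall : ∀ i : ℕ, g * (x ^ i * g * (x ^ i)⁻¹) = x ^ i * g * (x ^ i)⁻¹ * g
  · -- the conjugates commute
    refine ⟨1, one_mem X, ?_⟩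
    set A := Subgroup.closure (Set.range fun i : ℕ => x ^ i * g * (x ^ i)⁻¹) with hA
    have hpair : ∀ i j : ℕ, (x ^ i * g * (x ^ i)⁻¹) * (x ^ j * g * (x ^ j)⁻¹) =
        (x ^ j * g * (x ^ j)⁻¹) * (x ^ i * g * (x ^ i)⁻¹) := by
      have key : ∀ i k : ℕ, (x ^ i * g * (x ^ i)⁻¹) * (x ^ (i + k) * g * (x ^ (i + k))⁻¹) =
          (x ^ (i + k) * g * (x ^ (i + k))⁻¹) * (x ^ i * g * (x ^ i)⁻¹) := fun i k => by
        calc _ = x ^ i * (g * (x ^ k * g * (x ^ k)⁻¹)) * (x ^ i)⁻¹ := by rw [pow_add]; group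
          _ = x ^ i * ((x ^ k * g * (x ^ k)⁻¹) * g) * (x ^ i)⁻¹ := by rw [hall k]
          _ = _ := by rw [pow_add]; group
      intro i j
      rcases Nat.le_total i j with h1 | h1
      · obtain ⟨k, rfl⟩ := Nat.exists_eq_add_of_le h1; exact key i k
      · obtain ⟨k, rfl⟩ := Nat.exists_eq_add_of_le h1; exact (key j k).symm
    have hcomm : ∀ a ∈ A, ∀ b ∈ A, a * b = b * a := by
      have h1 : A ≤ Subgroup.centralizer (Set.range fun i : ℕ => x ^ i * g * (x ^ i)⁻¹) :=
        (Subgroup.closure_le _).2 (by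
          rintro _ ⟨i, rfl⟩
          exact Subgroup.mem_centralizer_iff.2 (by rintro _ ⟨j, rfl⟩; exact hpair j i))
      intro a ha b hb
      have h2 : A ≤ Subgroup.centralizer ({a} : Set (GLw p d)) := (Subgroup.closure_le _).2 (by
        rintro _ ⟨i, rfl⟩
        exact Subgroup.mem_centralizer_singleton_iff.2 (Subgroup.mem_centralizer_iff.1 (h1 ha) _ ⟨i, rfl⟩))
      exact (Subgroup.mem_centralizer_singleton_iff.1 (h2 hb)).symm
    have hexp : ∀ a ∈ A, a ^ (p - 1) = 1 := by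
      intro a ha
      induction ha using Subgroup.closure_induction with
      | mem y hy =>
        obtain ⟨i, rfl⟩ := hy
        exact pow_sub_one_of_quadratic hp7 hl hl0 (hqc _)
      | one => exact one_pow _
      | mul a b ha hb e1 e2 => rw [Commute.mul_pow (hcomm a ha b hb), e1, e2, one_mul]
      | inv a _ e1 => rw [inv_pow, e1, inv_one]
    have hAp : ¬ p ∣ Nat.card A := fun hd => by
      obtain ⟨a, ha⟩ := exists_prime_orderOf_dvd_card' (G := A) p hd
      have h1 : a ^ (p - 1) = 1 := Subtype.ext (hexp a a.2)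
      have := Nat.le_of_dvd (by omega) (ha ▸ orderOf_dvd_of_pow_eq_one h1)
      omega
    have hn : ∀ a ∈ A, x * a * x⁻¹ ∈ A := by
      intro a ha
      induction ha using Subgroup.closure_induction with
      | mem y hy =>
        obtain ⟨i, rfl⟩ := hy
        exact Subgroup.subset_closure ⟨i + 1, by simp only [pow_succ']; group⟩
      | one => simp
      | mul a b _ _ e1 e2 =>
        rw [show x * (a * b) * x⁻¹ = (x * a * x⁻¹) * (x * b * x⁻¹) by group]; exact mul_mem e1 e2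
      | inv a _ e1 => rw [show x * a⁻¹ * x⁻¹ = (x * a * x⁻¹)⁻¹ by group]; exact inv_mem e1
    have hxg := commute_of_normalised_abelian hdp hcomm hAp (x := x) (k := 1) (by rw [pow_one]; exact hxp) hn g
      (Subgroup.subset_closure ⟨0, by simp⟩)
    rw [one_mul, inv_one, mul_one, ← hxg, mul_inv_cancel_right]
    exact Subgroup.mem_zpowers x
  · push Not at hall
    obtain ⟨i, hi⟩ := hall
    set h := x ^ i * g * (x ^ i)⁻¹ with hh
    set D := Subgroup.closure ({g, h} : Set (GLw p d)) with hD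
    have hgD : g ∈ D := Subgroup.subset_closure (Or.inl rfl)
    have hhD : h ∈ D := Subgroup.subset_closure (Or.inr rfl)
    have hDX : D ≤ X := (Subgroup.closure_le _).2 (Set.insert_subset hgX (Set.singleton_subset_iff.2
      (mul_mem (mul_mem (pow_mem hxX i) hgX) (inv_mem (pow_mem hxX i)))))
    by_cases hpD : p ∣ Nat.card D
    · obtain ⟨q, hq'⟩ := exists_prime_orderOf_dvd_card' (G := D) p hpD
      have hqo : orderOf (q : GLw p d) = p := by rw [Subgroup.orderOf_coe, hq']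
      have hPp : IsPGroup p (Subgroup.zpowers x) := fun y => ⟨1, by
        obtain ⟨i, hi⟩ := Subgroup.mem_zpowers_iff.1 y.2
        refine Subtype.ext ?_
        rw [pow_one, SubgroupClass.coe_pow, ← hi, ← zpow_natCast, ← zpow_mul, mul_comm, zpow_mul, zpow_natCast,
          hxp, one_zpow]
        rfl⟩
      have hqP : IsPGroup p (Subgroup.zpowers (q : GLw p d)) :=
        IsPGroup.of_card (n := 1) (by rw [Nat.card_zpowers, hqo, pow_one])
      obtain ⟨φ, hφ, hle⟩ := CfsgLib.Fusion.exists_conj_le_of_not_dvd_relIndex hPp (Subgroup.zpowers_le.2 hxX) hsyl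
        hqP (Subgroup.zpowers_le.2 (hDX q.2))
      refine ⟨φ, hφ, ?_⟩
      set D' := Subgroup.closure ({φ * g * φ⁻¹, φ * h * φ⁻¹} : Set (GLw p d)) with hD'
      have hmap : D.map (MulAut.conj φ).toMonoidHom = D' := by
        rw [hD, MonoidHom.map_closure, Set.image_pair, hD']; rfl
      have hxD' : x ∈ D' := by
        have h1 := CfsgLib.Fusion.conjBy_le_iff.1 hle _ (Subgroup.mem_zpowers (q : GLw p d))
        have h2 : Subgroup.zpowers (φ * q * φ⁻¹) = Subgroup.zpowers x := by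
          refine Subgroup.eq_of_le_of_card_ge (Subgroup.zpowers_le.2 h1) ?_
          rw [Nat.card_zpowers, Nat.card_zpowers, show φ * q * φ⁻¹ = MulAut.conj φ q from rfl, MulEquiv.orderOf_eq, hqo]
          exact Nat.le_of_dvd hp.pos (orderOf_dvd_of_pow_eq_one hxp)
        rw [← hmap]
        exact (Subgroup.zpowers_le.2 (⟨_, q.2, rfl⟩ : φ * q * φ⁻¹ ∈ D.map (MulAut.conj φ).toMonoidHom))
          (h2 ▸ Subgroup.mem_zpowers x)
      have hDX' : D' ≤ X := by
        rw [← hmap]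
        rintro _ ⟨y, hy, rfl⟩
        exact mul_mem (mul_mem hφ (hDX hy)) (inv_mem hφ)
      refine GPair.normalises hp7 hd3 hdp (g := φ * g * φ⁻¹) (h := φ * h * φ⁻¹) (l := l)
        ⟨rfl, hl, hl0, hqc φ, ?_, hxD', hx⟩ hDX' hsyl
      rw [show φ * h * φ⁻¹ = φ * x ^ i * g * (φ * x ^ i)⁻¹ by rw [hh]; group]
      exact hqc _
    · exfalso
      let K := AlgebraicClosure (ZMod p)
      haveI : CharP K p := charP_of_injective_ringHom (algebraMap (ZMod p) K).injective p
      let f := algebraMap (ZMod p) K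
      let e := Matrix.toLinAlgEquiv' (R := K) (n := Fin d)
      let R : D →* Module.End K (Fin d → K) :=
        ((e.toAlgHom.toRingHom.comp f.mapMatrix).toMonoidHom.comp (Units.coeHom (M2 p d))).comp D.subtype
      have hR : ∀ y : D, R y = (e.toAlgHom.toRingHom.comp f.mapMatrix) ((y : GLw p d) : M2 p d) := fun y => rfl
      have hsc : ∀ c : ZMod p, (e.toAlgHom.toRingHom.comp f.mapMatrix) (c • (1 : M2 p d)) = f c • 1 := fun c => by
        simp only [RingHom.comp_apply, RingHom.mapMatrix_apply]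
        rw [Matrix.map_smul' f _ _ (map_mul f), Matrix.map_one f (map_zero f) (map_one f)]
        simp
      have hqR : ∀ y : D, (((y : GLw p d) : M2 p d) - 1) * (((y : GLw p d) : M2 p d) - l • 1) = 0 →
          (R y - 1) * (R y - f l • 1) = 0 := fun y hy => by
        rw [hR, ← map_one (e.toAlgHom.toRingHom.comp f.mapMatrix), map_one, ← hsc,
          ← map_one (e.toAlgHom.toRingHom.comp f.mapMatrix), ← map_sub, ← map_sub, ← map_mul, hy, map_zero]
      have hl5 : ∀ j, 0 < j → j ≤ 5 → f l ^ j ≠ 1 := fun j h0 h5 e' => hl j h0 (by omega)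
        (f.injective (by rw [map_pow, map_one, e']))
      have hgen : Subgroup.closure ({⟨g, hgD⟩, ⟨h, hhD⟩} : Set D) = ⊤ := by
        refine (Subgroup.map_injective D.subtype_injective) ?_
        rw [MonoidHom.map_closure, ← MonoidHom.range_eq_map, Subgroup.range_subtype, Set.image_pair]
        rfl
      obtain ⟨k, hk⟩ := isNilpotent_comm hp7 hpD hgen hl5 _ (Fin d → K) le_rfl R (hqR _ hq)
        (hqR ⟨h, hhD⟩ (hqc (x ^ i)))
      set c : D := ⁅(⟨g, hgD⟩ : D), ⟨h, hhD⟩⁆ with hc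
      haveI : Nonempty (Fin d) := ⟨⟨0, by omega⟩⟩
      have h1 : R c ^ p ^ k = 1 := by
        refine sub_eq_zero.1 ?_
        haveI : CharP (Module.End K (Fin d → K)) p :=
          charP_of_injective_ringHom (f := algebraMap K (Module.End K (Fin d → K))) (RingHom.injective _) p
        rw [← one_pow (M := Module.End K (Fin d → K)) (p ^ k), ← sub_pow_char_pow_of_commute _ _ (Commute.one_right _)]
        exact pow_eq_zero_of_le (Nat.lt_pow_self hp.one_lt).le hk
      have hinj : ∀ y : D, R y = 1 → y = 1 := fun y hy => by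
        refine Subtype.ext (Units.ext ?_)
        rw [hR, ← map_one (e.toAlgHom.toRingHom.comp f.mapMatrix)] at hy
        exact (e.injective.comp (Matrix.map_injective f.injective)) hy
      have h2 : c ^ p ^ k = 1 := hinj _ (by rw [map_pow, h1])
      have h3 : c = 1 := by
        have h4 := pow_gcd_eq_one.2 ⟨h2, pow_card_eq_one' (x := c)⟩
        rwa [Nat.coprime_iff_gcd_eq_one.1 ((hp.coprime_iff_not_dvd.2 hpD).pow_left k), pow_one] at h4
      rw [hc, commutatorElement_eq_one_iff_mul_comm] at h3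
      exact hi (congrArg Subtype.val h3)

end CfsgLib.MCFusion
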