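import Cfsg.Agent.Lib.MaxClassFusion.GLPair
import Mathlib.LinearAlgebra.Matrix.ToLin
import Mathlib.RingTheory.Nilpotent.Basic

/-!
# The commutator of two quadratic elements acts unipotently
-/

set_option autoImplicit false
set_option linter.style.haveILetI false
set_option linter.unusedSectionVars false

open scoped commutatorElement Classical

namespace CfsgLib.MCFusion

open Module

universe u v

variable {K : Type u} [Field K] [IsAlgClosed K]

/-- Two idempotents leave a subspace of dimension one or two invariant. -/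
theorem exists_pair_invariant {V : Type v} [AddCommGroup V] [Module K V] [FiniteDimensional K V]
    [Nontrivial V] (E F : End K V) (hE : E * E = E) (hF : F * F = F) :
    ∃ W : Submodule K V, W ≠ ⊥ ∧ finrank K W ≤ 2 ∧ (∀ v ∈ W, E v ∈ W) ∧ ∀ v ∈ W, F v ∈ W := by
  by_cases hE0 : E = 0
  · obtain ⟨μ, hμ⟩ := Module.End.exists_eigenvalue F
    obtain ⟨v, hv⟩ := hμ.exists_hasEigenvector
    refine ⟨Submodule.span K {v}, by simpa using hv.2, (finrank_span_singleton hv.2).le.trans (by omega), ?_, ?_⟩
    · intro w hw; rw [hE0]; simp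
    · intro w hw
      obtain ⟨c, rfl⟩ := Submodule.mem_span_singleton.1 hw
      rw [map_smul, hv.apply_eq_smul]
      exact Submodule.smul_mem _ _ (Submodule.smul_mem _ _ (Submodule.mem_span_singleton_self v))
  · haveI : Nontrivial (LinearMap.range E) := (Submodule.nontrivial_iff_ne_bot).2 fun e => hE0 (LinearMap.range_eq_bot.1 e)
    let T : End K (LinearMap.range E) :=
      LinearMap.restrict (E * F) (p := LinearMap.range E) (q := LinearMap.range E) fun x _ => ⟨F x, rfl⟩
    obtain ⟨μ, hμ⟩ := Module.End.exists_eigenvalue T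
    obtain ⟨⟨v, w, hw⟩, hv⟩ := hμ.exists_hasEigenvector
    have hv0 : v ≠ 0 := fun e => hv.2 (Subtype.ext e)
    have hEv : E v = v := by
      rw [← hw]; exact DFunLike.congr_fun hE w
    have hEF : E (F v) = μ • v := congrArg Subtype.val hv.apply_eq_smul
    have hFF : F (F v) = F v := DFunLike.congr_fun hF v
    refine ⟨Submodule.span K {v, F v}, fun e => hv0 ?_, ?_, ?_, ?_⟩
    · have h1 : v ∈ Submodule.span K ({v, F v} : Set V) := Submodule.subset_span (Or.inl rfl)
      rwa [e, Submodule.mem_bot] at h1
    · refine (finrank_span_le_card ({v, F v} : Set V)).trans ?_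
      simp only [Set.toFinset_insert, Set.toFinset_singleton]
      exact Finset.card_le_two
    · intro y hy
      induction hy using Submodule.span_induction with
      | mem y hy =>
        rcases hy with rfl | hy
        · rw [hEv]; exact Submodule.subset_span (Or.inl rfl)
        · rw [Set.mem_singleton_iff.1 hy, hEF]
          exact Submodule.smul_mem _ _ (Submodule.subset_span (Or.inl rfl))
      | zero => rw [map_zero]; exact zero_mem _
      | add a b _ _ ha hb => rw [map_add]; exact add_mem ha hb
      | smul c a _ ha => rw [map_smul]; exact Submodule.smul_mem _ c ha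
    · intro y hy
      induction hy using Submodule.span_induction with
      | mem y hy =>
        rcases hy with rfl | hy
        · exact Submodule.subset_span (Or.inr rfl)
        · rw [Set.mem_singleton_iff.1 hy, hFF]
          exact Submodule.subset_span (Or.inr rfl)
      | zero => rw [map_zero]; exact zero_mem _
      | add a b _ _ ha hb => rw [map_add]; exact add_mem ha hb
      | smul c a _ ha => rw [map_smul]; exact Submodule.smul_mem _ c ha

/-- The idempotent of a quadratic element. -/
theorem idem_of_quadratic {A : Type*} [Ring A] [Algebra K A] {M : A} {l : K} (hl : l ≠ 1)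
    (h : (M - 1) * (M - l • (1 : A)) = 0) :
    ((l - 1)⁻¹ • (M - 1)) * ((l - 1)⁻¹ • (M - 1)) = (l - 1)⁻¹ • (M - 1) := by
  have h2 : (M - 1) * (M - 1) = (l - 1) • (M - 1) := by
    rw [show M - l • (1 : A) = (M - 1) - (l - 1) • (1 : A) by rw [sub_smul, one_smul]; abel, mul_sub,
      mul_smul_comm, mul_one, sub_eq_zero] at h
    exact h
  rw [smul_mul_smul_comm, h2, smul_smul]
  congr 1
  field_simp [sub_ne_zero.2 hl]

/-- A common invariant subspace of dimension one or two of a group generated by two quadratic elements. -/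
theorem exists_small_invariant {D : Type*} [Group D] [Finite D] {g h : D}
    (hgen : Subgroup.closure ({g, h} : Set D) = ⊤) {V : Type v} [AddCommGroup V] [Module K V]
    [FiniteDimensional K V] [Nontrivial V] (R : D →* End K V) {l : K} (hl : l ≠ 1)
    (hg : (R g - 1) * (R g - l • 1) = 0) (hh : (R h - 1) * (R h - l • 1) = 0) :
    ∃ W : Submodule K V, W ≠ ⊥ ∧ finrank K W ≤ 2 ∧ ∀ y, ∀ v ∈ W, R y v ∈ W := by
  obtain ⟨W, hW0, hW2, hWE, hWF⟩ := exists_pair_invariant _ _ (idem_of_quadratic hl hg) (idem_of_quadratic hl hh)
  refine ⟨W, hW0, hW2, ?_⟩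
  have key : ∀ M : End K V, (∀ v ∈ W, ((l - 1)⁻¹ • (M - 1)) v ∈ W) → ∀ v ∈ W, M v ∈ W := fun M hM v hv => by
    have h1 := W.add_mem (W.smul_mem (l - 1) (hM v hv)) hv
    rwa [LinearMap.smul_apply, smul_smul, mul_inv_cancel₀ (sub_ne_zero.2 hl), one_smul, LinearMap.sub_apply,
      Module.End.one_apply, sub_add_cancel] at h1
  intro y
  have hy : y ∈ Submonoid.closure ({g, h} : Set D) := by
    rw [← Subgroup.closure_toSubmonoid_of_finite, hgen]
    exact trivial
  induction hy using Submonoid.closure_induction with
  | mem z hz =>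
    rcases hz with rfl | hz
    · exact key _ hWE
    · rw [Set.mem_singleton_iff.1 hz]; exact key _ hWF
  | one => intro v hv; rwa [map_one]
  | mul a b _ _ ha hb => intro v hv; rw [map_mul]; exact ha _ (hb v hv)

variable {p : ℕ} [hpf : Fact p.Prime] [CharP K p]

/-- The commutator of two quadratic elements of a group of order prime to `p` acts unipotently. -/
theorem isNilpotent_comm {D : Type*} [Group D] [Finite D] (hp7 : 7 ≤ p) (hD : ¬ p ∣ Nat.card D) {g h : D}
    (hgen : Subgroup.closure ({g, h} : Set D) = ⊤) {l : K} (hl : ∀ j, 0 < j → j ≤ 5 → l ^ j ≠ 1) :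
    ∀ (m : ℕ) (V : Type v) [AddCommGroup V] [Module K V] [FiniteDimensional K V], finrank K V ≤ m →
      ∀ R : D →* End K V, (R g - 1) * (R g - l • 1) = 0 → (R h - 1) * (R h - l • 1) = 0 →
        IsNilpotent (R ⁅g, h⁆ - 1) := by
  have hl1 : l ≠ 1 := fun e => hl 1 (by omega) (by omega) (by rw [pow_one, e])
  intro m
  induction m with
  | zero =>
    intro V _ _ _ hV R _ _
    haveI : Subsingleton V := finrank_zero_iff.1 (Nat.le_zero.1 hV)
    exact ⟨1, Subsingleton.elim _ _⟩
  | succ m ih =>
    intro V _ _ _ hV R hg hh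
    rcases subsingleton_or_nontrivial V with hs | hs
    · exact ⟨1, Subsingleton.elim _ _⟩
    obtain ⟨W, hW0, hW2, hWi⟩ := exists_small_invariant hgen R hl1 hg hh
    -- the restriction
    let RW : D →* End K W :=
      { toFun := fun y => LinearMap.restrict (R y) (hWi y)
        map_one' := LinearMap.ext fun v => Subtype.ext (by simp)
        map_mul' := fun a b => LinearMap.ext fun v => Subtype.ext (by simp) }
    have hRW : ∀ y (v : W), ((RW y v : W) : V) = R y v := fun y v => rfl
    have qW : ∀ y, (R y - 1) * (R y - l • 1) = 0 → (RW y - 1) * (RW y - l • 1) = 0 := fun y hy =>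
      LinearMap.ext fun v => Subtype.ext (by
        have h1 := DFunLike.congr_fun hy (v : V)
        simpa [hRW] using h1)
    have hWc : RW ⁅g, h⁆ = 1 := by
      have hcom : RW g * RW h = RW h * RW g := by
        rcases Nat.lt_or_ge (finrank K W) 2 with h1 | h1
        · have hW1 : finrank K W = 1 := by
            have : finrank K W ≠ 0 := fun e => hW0 (Submodule.finrank_eq_zero.1 e)
            omega
          obtain ⟨v, hv0, hv⟩ := finrank_eq_one_iff'.1 hW1
          refine LinearMap.ext fun y => ?_
          obtain ⟨c, rfl⟩ := hv y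
          obtain ⟨a, ha⟩ := hv (RW g v)
          obtain ⟨b, hb⟩ := hv (RW h v)
          rw [Module.End.mul_apply, Module.End.mul_apply, map_smul, map_smul, map_smul, map_smul, ← ha, ← hb,
            map_smul, map_smul, ← ha, ← hb, smul_comm a b v]
        · let B := Module.finBasisOfFinrankEq K W (show finrank K W = 2 by omega)
          let e := LinearMap.toMatrixAlgEquiv B
          let R2 : D →* GL (Fin 2) K := ((e : End K W →* Matrix (Fin 2) (Fin 2) K).comp RW).toHomUnits
          have hR2 : ∀ y, (R2 y : Matrix (Fin 2) (Fin 2) K) = e (RW y) := fun y => rfl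
          have q2 : ∀ y, (R y - 1) * (R y - l • 1) = 0 →
              ((R2 y : Matrix (Fin 2) (Fin 2) K) - 1) * ((R2 y : Matrix (Fin 2) (Fin 2) K) - l • 1) = 0 :=
            fun y hy => by rw [hR2, ← map_one e, ← map_smul, ← map_sub, ← map_sub, ← map_mul, qW y hy, map_zero]
          refine e.injective ?_
          rw [map_mul, map_mul, ← hR2, ← hR2, ← Units.val_mul, ← Units.val_mul,
            commute_two hp7 hD R2 hl (q2 g hg) (q2 h hh)]
      rw [commutatorElement_def, map_mul, map_mul, map_mul, hcom, mul_assoc (RW h), ← map_mul RW g,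
        mul_inv_cancel, map_one, mul_one, ← map_mul, mul_inv_cancel, map_one]
    -- the quotient
    let RQ : D →* End K (V ⧸ W) :=
      { toFun := fun y => W.mapQ W (R y) (hWi y)
        map_one' := Submodule.linearMap_qext _ (LinearMap.ext fun v => by simp)
        map_mul' := fun a b => Submodule.linearMap_qext _ (LinearMap.ext fun v => by simp) }
    have qQ : ∀ y, (R y - 1) * (R y - l • 1) = 0 → (RQ y - 1) * (RQ y - l • 1) = 0 := fun y hy =>
      Submodule.linearMap_qext _ (LinearMap.ext fun v => by
        have h1 := congrArg (Submodule.Quotient.mk (p := W)) (DFunLike.congr_fun hy v)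
        simpa [RQ] using h1)
    have hlt : finrank K (V ⧸ W) ≤ m := by
      have h1 := Submodule.finrank_quotient_add_finrank W
      have : finrank K W ≠ 0 := fun e => hW0 (Submodule.finrank_eq_zero.1 e)
      omega
    obtain ⟨k, hk⟩ := ih (V ⧸ W) hlt RQ (qQ g hg) (qQ h hh)
    refine ⟨k + 1, LinearMap.ext fun v => ?_⟩
    have h1 : ∀ (j : ℕ) v, ((RQ ⁅g, h⁆ - 1) ^ j) (Submodule.Quotient.mk v) =
        Submodule.Quotient.mk (p := W) (((R ⁅g, h⁆ - 1) ^ j) v) := by
      intro j
      induction j with
      | zero => intro v; rfl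
      | succ j ih' =>
        intro v
        rw [pow_succ', Module.End.mul_apply, ih', pow_succ', Module.End.mul_apply]
        simp [RQ]
    have h2 : ((R ⁅g, h⁆ - 1) ^ k) v ∈ W := by
      rw [← Submodule.Quotient.mk_eq_zero W, ← h1, hk]; rfl
    rw [pow_succ', Module.End.mul_apply, LinearMap.zero_apply, LinearMap.sub_apply, Module.End.one_apply,
      ← hRW ⁅g, h⁆ ⟨_, h2⟩, hWc]
    exact sub_self _

end CfsgLib.MCFusion
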