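import Cfsg.Agent.Lib.Perm.Dickson.Classify
import Cfsg.Agent.Lib.Perm.Dickson.Semisimple
import Cfsg.Agent.Lib.Perm.Dickson.Icosa
import Mathlib.LinearAlgebra.Eigenspace.Triangularizable

/-!
# Two quadratic semisimple elements generating a group of order prime to `p`

If two linear maps with the same two eigenvalues `1` and `l`, the order of `l` being at least `6`,
generate a finite group of order prime to `p`, they commute.
-/

set_option autoImplicit false
set_option linter.style.haveILetI false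
set_option linter.unusedSectionVars false

open Matrix
open scoped commutatorElement Classical

namespace CfsgLib.MCFusion

open CfsgLib.Perm.Dickson

variable {p : ℕ} [hpf : Fact p.Prime]
  {K : Type*} [Field K] [IsAlgClosed K] [CharP K p]

theorem alternating_five_small : ∀ σ : alternatingGroup (Fin 5), σ ^ 2 = 1 ∨ σ ^ 3 = 1 ∨ σ ^ 5 = 1 := by
  decide +kernel

theorem alternating_four_small : ∀ σ : alternatingGroup (Fin 4), σ ^ 2 = 1 ∨ σ ^ 3 = 1 := by
  decide +kernel

theorem perm_four_small : ∀ σ : Equiv.Perm (Fin 4), σ ^ 3 = 1 ∨ σ ^ 4 = 1 := by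
  decide +kernel

/-- A two by two matrix of determinant one fixing a vector is unipotent. -/
theorem sq_eq_zero_of_fix (M : Matrix (Fin 2) (Fin 2) K) (hd : M.det = 1) {v : Fin 2 → K} (hv : v ≠ 0)
    (h : M *ᵥ v = v) : (M - 1) * (M - 1) = 0 := by
  have h1 : (M - 1).det = 0 := Matrix.exists_mulVec_eq_zero_iff.1
    ⟨v, hv, by rw [Matrix.sub_mulVec, Matrix.one_mulVec, h, sub_self]⟩
  rw [det_fin_two] at h1 hd
  simp only [Matrix.sub_apply, Matrix.one_apply_eq, Matrix.one_apply_ne (show (0 : Fin 2) ≠ 1 by decide),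
    Matrix.one_apply_ne (show (1 : Fin 2) ≠ 0 by decide), sub_zero] at h1
  have ht : M 0 0 + M 1 1 = 2 := by linear_combination hd - h1
  have h2 := mat_sq M
  rw [ht, det_fin_two, hd, one_smul, two_smul] at h2
  rw [mul_sub, sub_mul, sub_mul, h2, mul_one, one_mul, one_mul]
  abel

/-- Powers of a quadratic element. -/
theorem pow_eq_of_quadratic {A : Type*} [Ring A] [Algebra K A] {M : A} {l : K}
    (h : (M - 1) * (M - l • (1 : A)) = 0) (k : ℕ) :
    M ^ k = 1 + (∑ i ∈ Finset.range k, l ^ i) • (M - 1) := by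
  have h2 : (M - 1) * (M - 1) = (l - 1) • (M - 1) := by
    rw [show M - l • (1 : A) = (M - 1) - (l - 1) • (1 : A) by rw [sub_smul, one_smul]; abel, mul_sub,
      mul_smul_comm, mul_one, sub_eq_zero] at h
    exact h
  induction k with
  | zero => simp
  | succ k ih =>
    rw [pow_succ, ih, Finset.sum_range_succ]
    set s := ∑ i ∈ Finset.range k, l ^ i with hs
    have hg : s * (l - 1) + 1 = l ^ k := by
      have := geom_sum_mul l k
      rw [← hs] at this
      rw [this, sub_add_cancel]
    calc (1 + s • (M - 1)) * M = (1 + s • (M - 1)) * (1 + (M - 1)) := by rw [add_sub_cancel]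
      _ = 1 + (M - 1) + (s • (M - 1) + (s * (l - 1)) • (M - 1)) := by
        rw [add_mul, one_mul, mul_add, mul_one, smul_mul_assoc, h2, smul_smul]
      _ = 1 + (s + l ^ k) • (M - 1) := by rw [← hg]; module

/-- A quadratic element which is not scalar has no small power which is scalar. -/
theorem mk_pow_ne_one {A : GL (Fin 2) K} {l : K} (hl : ∀ j, 0 < j → j ≤ 5 → l ^ j ≠ 1)
    (hq : ((A : Matrix (Fin 2) (Fin 2) K) - 1) * ((A : Matrix (Fin 2) (Fin 2) K) - l • 1) = 0)
    (hns : ∀ c : K, (A : Matrix (Fin 2) (Fin 2) K) ≠ c • 1) {j : ℕ} (hj : 0 < j) (hj5 : j ≤ 5) :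
    ProjGenLinGroup.mk A ^ j ≠ 1 := by
  intro h
  rw [← map_pow, ProjGenLinGroup.mk_eq_one, GeneralLinearGroup.center_eq_range_scalar] at h
  obtain ⟨r, hr⟩ := h
  have h1 : ((A ^ j : GL (Fin 2) K) : Matrix (Fin 2) (Fin 2) K) = (r : K) • 1 := by
    rw [← hr]
    ext a b
    by_cases hab : a = b
    · subst hab; simp
    · simp [hab]
  rw [Units.val_pow_eq_pow_val, pow_eq_of_quadratic hq] at h1
  set s := ∑ i ∈ Finset.range j, l ^ i with hs
  have hs0 : s ≠ 0 := fun e => hl j hj hj5 (by
    have := geom_sum_mul l j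
    rw [← hs, e, zero_mul] at this
    exact (sub_eq_zero.1 this.symm))
  refine hns (((r : K) - 1) / s + 1) ?_
  have h2 : s • ((A : Matrix (Fin 2) (Fin 2) K) - 1) = ((r : K) - 1) • 1 := by
    rw [sub_smul (r : K) 1, one_smul, ← h1]
    abel
  rw [add_smul, one_smul, ← sub_eq_iff_eq_add, div_eq_inv_mul, ← smul_smul, ← h2, smul_smul,
    inv_mul_cancel₀ hs0, one_smul]

/-- The commutator of two elements with a common fixed point in a group of order prime to `p`. -/
theorem comm_of_fix {a b : GL (Fin 2) K} {N : ℕ} (hN : ¬ p ∣ N) (hc : ⁅a, b⁆ ^ N = 1) {x : P2 K}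
    (ha : ProjGenLinGroup.mk a • x = x) (hb : ProjGenLinGroup.mk b • x = x) : a * b = b * a := by
  induction x using Projectivization.ind with
  | _ v hv =>
    rw [mk_smul, Projectivization.mk_eq_mk_iff'] at ha hb
    obtain ⟨α, hα⟩ := ha
    obtain ⟨β, hβ⟩ := hb
    have key : ∀ (y : GL (Fin 2) K) (c : K), c • v = (y : Matrix (Fin 2) (Fin 2) K) *ᵥ v →
        c ≠ 0 ∧ ((y⁻¹ : GL (Fin 2) K) : Matrix (Fin 2) (Fin 2) K) *ᵥ v = c⁻¹ • v := by
      intro y c hy
      have h1 := congrArg (((y⁻¹ : GL (Fin 2) K) : Matrix (Fin 2) (Fin 2) K) *ᵥ ·) hy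
      simp only [Matrix.mulVec_smul, Matrix.mulVec_mulVec, ← Units.val_mul, inv_mul_cancel, Units.val_one,
        Matrix.one_mulVec] at h1
      have hc0 : c ≠ 0 := fun e => hv (by rw [e, zero_smul] at h1; exact h1.symm)
      refine ⟨hc0, ?_⟩
      conv_rhs => rw [← h1]
      rw [smul_smul, inv_mul_cancel₀ hc0, one_smul]
    obtain ⟨hα0, hαi⟩ := key a α hα
    obtain ⟨hβ0, hβi⟩ := key b β hβ
    set M : Matrix (Fin 2) (Fin 2) K := ((⁅a, b⁆ : GL (Fin 2) K) : Matrix (Fin 2) (Fin 2) K) with hM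
    have hfix : M *ᵥ v = v := by
      rw [hM, commutatorElement_def, Units.val_mul, Units.val_mul, Units.val_mul, ← Matrix.mulVec_mulVec,
        hβi, Matrix.mulVec_smul, ← Matrix.mulVec_mulVec, hαi, Matrix.mulVec_smul, ← Matrix.mulVec_mulVec,
        ← hβ, Matrix.mulVec_smul, ← hα, smul_smul, smul_smul, smul_smul]
      rw [show β⁻¹ * α⁻¹ * β * α = 1 by field_simp, one_smul]
    have hdet : M.det = 1 := by
      have : GeneralLinearGroup.det ⁅a, b⁆ = 1 := by
        rw [map_commutatorElement]; exact commutatorElement_eq_one_iff_mul_comm.2 (mul_comm _ _)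
      rw [hM, ← GeneralLinearGroup.val_det_apply, this, Units.val_one]
    have h2 := sq_eq_zero_of_fix M hdet hv hfix
    have hpow : ⁅a, b⁆ ^ p = 1 := by
      refine Units.ext (sub_eq_zero.1 ?_)
      rw [Units.val_pow_eq_pow_val, Units.val_one, ← hM, ← one_pow (M := Matrix (Fin 2) (Fin 2) K) p,
        ← sub_pow_char_of_commute p (Commute.one_right M)]
      obtain ⟨k, hk⟩ := Nat.exists_eq_add_of_le hpf.out.two_le
      rw [hk, pow_add, pow_two, h2, zero_mul]
    have h3 := pow_gcd_eq_one.2 ⟨hpow, hc⟩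
    rw [(Nat.coprime_iff_gcd_eq_one.1 (hpf.out.coprime_iff_not_dvd.2 hN)), pow_one,
      commutatorElement_eq_one_iff_mul_comm] at h3
    exact h3

variable {D : Type*} [Group D] [Finite D]

/-- The two dimensional case. -/
theorem commute_two (hp7 : 7 ≤ p) (hD : ¬ p ∣ Nat.card D) (R : D →* GL (Fin 2) K) {g h : D} {l : K}
    (hl : ∀ j, 0 < j → j ≤ 5 → l ^ j ≠ 1)
    (hg : ((R g : Matrix (Fin 2) (Fin 2) K) - 1) * ((R g : Matrix (Fin 2) (Fin 2) K) - l • 1) = 0)
    (hh : ((R h : Matrix (Fin 2) (Fin 2) K) - 1) * ((R h : Matrix (Fin 2) (Fin 2) K) - l • 1) = 0) :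
    R g * R h = R h * R g := by
  by_cases hgs : ∃ c : K, (R g : Matrix (Fin 2) (Fin 2) K) = c • 1
  · obtain ⟨c, hc⟩ := hgs
    exact Units.ext (by rw [Units.val_mul, Units.val_mul, hc, smul_mul_assoc, one_mul, mul_smul_comm, mul_one])
  by_cases hhs : ∃ c : K, (R h : Matrix (Fin 2) (Fin 2) K) = c • 1
  · obtain ⟨c, hc⟩ := hhs
    exact Units.ext (by rw [Units.val_mul, Units.val_mul, hc, smul_mul_assoc, one_mul, mul_smul_comm, mul_one])
  push Not at hgs hhs
  set φ := (ProjGenLinGroup.mk).comp R with hφ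
  haveI : Finite φ.range := Finite.of_surjective φ.rangeRestrict φ.rangeRestrict_surjective
  set γ : φ.range := φ.rangeRestrict g with hγ
  set η : φ.range := φ.rangeRestrict h with hη
  have hsmall : ∀ {j}, 0 < j → j ≤ 5 → γ ^ j ≠ 1 ∧ η ^ j ≠ 1 := fun {j} h1 h2 =>
    ⟨fun e => mk_pow_ne_one hl hg hgs h1 h2 (congrArg Subtype.val e),
      fun e => mk_pow_ne_one hl hh hhs h1 h2 (congrArg Subtype.val e)⟩
  have hfix : ∀ x : P2 K, (γ : G2 K) • x = x → (η : G2 K) • x = x → R g * R h = R h * R g := fun x h1 h2 =>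
    comm_of_fix (N := Nat.card D) hD (by rw [← map_commutatorElement, ← map_pow, pow_card_eq_one', map_one])
      h1 h2
  cases classify (p := p) (G := φ.range) (fun y _ => exists_fixed_of_isAlgClosed (y : G2 K)) with
  | fix x hx => exact hfix x (hx γ) (hx η)
  | dihedral C hC h2 hp a b hab ha hb hinv =>
    have hγC : γ ∈ C := by
      by_contra hc
      exact (hsmall (j := 2) (by omega) (by omega)).1 (by rw [pow_two]; exact hinv γ hc)
    have hηC : η ∈ C := by
      by_contra hc
      exact (hsmall (j := 2) (by omega) (by omega)).2 (by rw [pow_two]; exact hinv η hc)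
    exact hfix a (ha γ hγC) (ha η hηC)
  | a4 hN h2 h3 he =>
    obtain ⟨e⟩ := he
    rcases alternating_four_small (e γ) with h1 | h1 <;>
      exact absurd (e.injective (by rw [map_pow, h1, map_one])) ((hsmall (by omega) (by omega)).1)
  | s4 hN h2 h3 he =>
    obtain ⟨e⟩ := he
    rcases perm_four_small (e γ) with h1 | h1 <;>
      exact absurd (e.injective (by rw [map_pow, h1, map_one])) ((hsmall (by omega) (by omega)).1)
  | a5 hN h2 h5 he =>
    obtain ⟨e⟩ := he
    rcases alternating_five_small (e γ) with h1 | h1 | h1 <;>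
      exact absurd (e.injective (by rw [map_pow, h1, map_one])) ((hsmall (by omega) (by omega)).1)
  | subfield hs =>
    exfalso
    obtain ⟨σ, F0, hF, -, h0⟩ := hs
    have hmem : mapG F0.subtype (tr (1 : F0)) ∈ conjG σ φ.range := by
      rcases h0 with h0 | ⟨-, h0⟩
      · rw [h0]; exact ⟨_, rfl⟩
      · rw [h0]; exact ⟨_, tr_mem_psl _, rfl⟩
    haveI : CharP F0 p := (RingHom.charP_iff_charP F0.subtype p).2 inferInstance
    haveI : Finite F0 := hF
    have hne : tr (1 : F0) ≠ 1 := by
      intro e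
      have := congrArg (fun y : G2 F0 => y • fp (0 : F0)) e
      simp only [tr_fp, one_smul, zero_add] at this
      exact one_ne_zero (fp_inj this)
    have hp : (tr (1 : F0)) ^ p = 1 := by rw [tr_pow, CharP.cast_eq_zero, zero_mul, tr_zero]
    have hord : orderOf (mapG F0.subtype (tr (1 : F0))) = p := by
      rw [orderOf_injective (mapG F0.subtype) (mapG_injective _)]
      exact orderOf_eq_prime hp hne
    refine hD (dvd_trans ?_ (Subgroup.card_range_dvd φ))
    rw [← Subgroup.card_map_of_injective (f := (MulAut.conj σ).toMonoidHom) (MulAut.conj σ).injective (K := φ.range),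
      ← conjG]
    rw [← hord]
    exact Subgroup.orderOf_dvd_natCard (s := conjG σ φ.range) hmem

end CfsgLib.MCFusion
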