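import Cfsg.Agent.Lib.MaxClassFusion.Weights
import Cfsg.Agent.Lib.PGroup.MaxClassAgemo.Main
import Cfsg.Agent.Lib.Fusion.System.RankThree.JRelations

/-!
# Commutators with elements outside the first two step centralizer
-/

set_option autoImplicit false
set_option linter.style.haveILetI false
set_option linter.unusedSectionVars false

open Subgroup
open scoped commutatorElement Classical

namespace CfsgLib.MCFusion

open CfsgLib.MaxClassShift (gam gam_normal gam_anti gam_one gam_comm)
open CfsgLib.MaxClassUniform (Uniform gam_le_twoStepAt)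
open CfsgLib.PGroup.MaxClassRank (twoStepAt layer_gen pow_mem_two)
open CfsgLib.MaxClassEss

universe u v

theorem twoStepAt_equiv {G : Type u} {H : Type v} [Group G] [Group H] (e : G ≃* H) {i : ℕ} {g : G} :
    e g ∈ twoStepAt H i ↔ g ∈ twoStepAt G i := by
  have hg : ∀ (j : ℕ) (w : G), e w ∈ gam H j ↔ w ∈ gam G j := by
    intro j w
    rw [show gam H j = (gam G j).map (e : G →* H) by
      rw [Subgroup.map_lowerCentralSeries, Subgroup.map_top_of_surjective (e : G →* H) e.surjective]]
    exact mem_map_iff_mem e.injective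
  constructor
  · intro h w hw
    rw [← hg, map_commutatorElement]
    exact h _ ((hg i w).2 hw)
  · intro h w hw
    obtain ⟨w, rfl⟩ := e.surjective w
    rw [← map_commutatorElement, hg]
    exact h _ ((hg i w).1 hw)

variable {G : Type u} [Group G] [Finite G] {p n : ℕ} [hpf : Fact p.Prime] {x : G}

section
variable (h : Uniform x p n)
include h

theorem commute_of_deep {a b : ℕ} (ha : 1 ≤ a) (hb : 1 ≤ b) (hab : n ≤ a + b) {v w : G}
    (hv : v ∈ gam G a) (hw : w ∈ gam G b) : Commute v w := by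
  rw [← commutatorElement_eq_one_iff_commute, ← mem_bot, ← h.gam_eq_bot hab]
  exact gam_comm ha hb hv hw

theorem lev_le_gam {i : ℕ} (hi : 1 ≤ i) : lev G i ≤ gam G i := by
  rcases hi.eq_or_lt with rfl | h2
  · rw [gam_one]; exact le_top
  · rw [lev_eq h2]

/-- An element at the bottom of a term and the next term generate it. -/
theorem gam_le_of_mem {L : ℕ} (h2 : 2 ≤ L) (hL : L < n) {P : Subgroup G} {w : G} (hw : w ∈ gam G L)
    (hw' : w ∉ gam G (L + 1)) (hwP : w ∈ P) (hP : gam G (L + 1) ≤ P) : gam G L ≤ P := by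
  intro v hv
  obtain ⟨z, hz⟩ := layer_gen h.isPGroup h.card h.three h.class_eq h2 hL hw hw' hv
  rw [show v = w ^ z * ((w ^ z)⁻¹ * v) by group]
  exact mul_mem (zpow_mem hwP z) (hP hz)

/-- Two elements spanning the group modulo `γ₂` have a commutator outside `γ₃`. -/
theorem comm_notMem_three (h4 : 4 ≤ n) {T : Subgroup G} (hT : gam G 2 ≤ T) (hTi : T.index = p) {a b : G}
    (hb : b ∈ T) (hb' : b ∉ gam G 2) (ha : a ∉ T) : ⁅a, b⁆ ∉ gam G 3 := by
  have hp := hpf.out
  intro hab
  haveI := gam_normal (G := G) 2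
  haveI := gam_normal (G := G) 3
  have hlt : gam G 2 < zpowers b ⊔ gam G 2 :=
    lt_of_le_of_ne le_sup_right fun e => hb' (e.ge (mem_sup_left (mem_zpowers b)))
  have hTb : zpowers b ⊔ gam G 2 = T := by
    refine eq_of_le_of_card_ge (sup_le (zpowers_le.2 hb) hT) ?_
    have h1 := CfsgLib.MaxClassCube.mul_card_le h.isPGroup hlt
    rw [h.card_gam le_rfl (by omega)] at h1
    refine le_trans (le_of_eq ?_) h1
    have e := T.card_mul_index
    rw [hTi, h.card] at e
    refine Nat.eq_of_mul_eq_mul_right hp.pos (e.trans ?_)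
    rw [mul_right_comm, ← pow_two, ← pow_add]
    congr 1; omega
  set K := Subgroup.closure ({a, b} : Set G) ⊔ gam G 2 with hK
  have hTK : T ≤ K := hTb ▸ sup_le_sup_right (zpowers_le.2 (Subgroup.subset_closure (Set.mem_insert_of_mem a (Set.mem_singleton b)))) _
  have hK1 : K = ⊤ := by
    have h1 := relIndex_mul_index hTK
    rw [hTi] at h1
    rcases (Nat.dvd_prime hp).1 (Dvd.intro_left _ h1) with h2 | h2
    · exact index_eq_one.1 h2
    · rw [h2, Nat.mul_eq_right hp.ne_zero, relIndex_eq_one] at h1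
      exact absurd (h1 (mem_sup_left (Subgroup.subset_closure (Set.mem_insert a _)))) ha
  set q := QuotientGroup.mk' (gam G 3) with hq
  have hc : ∀ c ∈ gam G 2, ∀ g : G, Commute (q c) (q g) := fun c hc g => by
    rw [← commutatorElement_eq_one_iff_commute, ← map_commutatorElement]
    exact (QuotientGroup.eq_one_iff _).2 (gam_comm (a := 2) (b := 1) (by omega) le_rfl hc (mem_top g))
  have hqab : Commute (q a) (q b) := by
    rw [← commutatorElement_eq_one_iff_commute, ← map_commutatorElement]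
    exact (QuotientGroup.eq_one_iff _).2 hab
  have hC : ∀ s ∈ ({a, b} : Set G), ∀ g : G, Commute (q s) (q g) := by
    intro s hs g
    have h1 : K ≤ (centralizer ({q s} : Set (G ⧸ gam G 3))).comap q := by
      refine sup_le ((Subgroup.closure_le _).2 fun t ht => mem_comap.2 ?_) fun c hc' => mem_comap.2
        (mem_centralizer_singleton_iff.2 (hc c hc' s).eq)
      refine mem_centralizer_singleton_iff.2 ?_
      rcases hs with rfl | rfl <;> rcases ht with rfl | rfl
      · rfl
      · exact hqab.eq.symm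
      · exact hqab.eq
      · rfl
    exact (mem_centralizer_singleton_iff.1 (mem_comap.1 (h1 (hK1.ge (mem_top g))))).symm
  have hall : ∀ g g' : G, Commute (q g) (q g') := by
    intro g g'
    have h1 : K ≤ (centralizer ({q g'} : Set (G ⧸ gam G 3))).comap q := by
      refine sup_le ((Subgroup.closure_le _).2 fun t ht => ?_) fun c hc' => mem_comap.2
        (mem_centralizer_singleton_iff.2 (hc c hc' g').eq)
      exact mem_comap.2 (mem_centralizer_singleton_iff.2 (hC t ht g').eq)
    exact mem_centralizer_singleton_iff.1 (mem_comap.1 (h1 (hK1.ge (mem_top g))))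
  obtain ⟨v, hv, hv'⟩ := exists_layer h (k := 2) le_rfl (by omega)
  refine hv' ((show gam G 2 ≤ gam G 3 from ?_) hv)
  rw [show gam G 2 = ⁅(⊤ : Subgroup G), ⊤⁆ from rfl, commutator_le]
  intro g _ g' _
  rw [← QuotientGroup.eq_one_iff, ← QuotientGroup.mk'_apply, map_commutatorElement]
  exact commutatorElement_eq_one_iff_commute.2 (hall g g')

/-- An element outside the first two step centralizer lowers levels by exactly one. -/
theorem step_level (h4 : 4 ≤ n) {g : G} (hg : g ∉ twoStepAt G 2) {L : ℕ} (hL : 1 ≤ L) (hLn : L + 2 ≤ n)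
    (hside : L + 3 ≤ n ∨ g ∉ twoStepAt G (n - 2)) {v : G} (hv : v ∈ lev G L) (hv' : v ∉ gam G (L + 1)) :
    ⁅g, v⁆ ∈ gam G (L + 1) ∧ ⁅g, v⁆ ∉ gam G (L + 2) := by
  refine ⟨?_, fun hm => ?_⟩
  · have := comm_top_lev h hL (g := g) hv
    rwa [lev_eq (show 2 ≤ L + 1 by omega)] at this
  rcases hL.eq_or_lt with rfl | h2
  · rw [lev_one] at hv
    exact comm_notMem_three h h4 (gam_le_twoStepAt h.isPGroup (by omega))
      (index_twoStepAt h le_rfl (by omega)) hv hv' hg hm
  · rw [lev_eq h2] at hv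
    have h1 := mem_twoStepAt_of_gen h h2 (by omega) hv hv' hm
    rcases Nat.lt_or_ge (L + 2) n with h3 | h3
    · exact hg (twoStepAt_common h (by omega) h2 h3 ▸ h1)
    · rw [show L = n - 2 by omega] at h1
      exact hside.resolve_left (by omega) h1

/-- An invariant subgroup contains all deeper terms. -/
theorem shift_le (h4 : 4 ≤ n) {g : G} (hg : g ∉ twoStepAt G 2) (P : Subgroup G)
    (hP : ∀ k ∈ P, g * k * g⁻¹ ∈ P) (hside : g ∉ twoStepAt G (n - 2) ∨ gam G (n - 2) ≤ P) {L : ℕ}
    (hL : 1 ≤ L) (hLn : L < n) {w : G} (hwP : w ∈ P) (hw : w ∈ lev G L) (hw' : w ∉ gam G (L + 1)) :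
    gam G (L + 1) ≤ P := by
  suffices H : ∀ t L, 1 ≤ L → L + 1 + t = n → ∀ w ∈ P, w ∈ lev G L → w ∉ gam G (L + 1) →
      gam G (L + 1) ≤ P from H (n - (L + 1)) L hL (by omega) w hwP hw hw'
  intro t
  induction t with
  | zero => intro L _ hLt w _ _ _; rw [h.gam_eq_bot (by omega)]; exact bot_le
  | succ t ih =>
    intro L hL hLt w hwP hw hw'
    by_cases hdeep : n - 2 ≤ L + 1 ∧ gam G (n - 2) ≤ P
    · exact (gam_anti hdeep.1).trans hdeep.2
    have hs : L + 3 ≤ n ∨ g ∉ twoStepAt G (n - 2) := by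
      rcases hside with h1 | h1
      · exact Or.inr h1
      · have : ¬ n - 2 ≤ L + 1 := fun h' => hdeep ⟨h', h1⟩
        omega
    obtain ⟨h1, h2⟩ := step_level h h4 hg hL (by omega) hs hw hw'
    have hcP : ⁅g, w⁆ ∈ P := by rw [commutatorElement_def]; exact mul_mem (hP w hwP) (inv_mem hwP)
    have h3 := ih (L + 1) (by omega) (by omega) _ hcP (by rw [lev_eq (by omega)]; exact h1) h2
    exact gam_le_of_mem h (by omega) (by omega) h1 h2 hcP h3

/-- The centralizer of an element outside the first two step centralizer. -/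
theorem cent_outer (h4 : 4 ≤ n) {g c : G} (hg : g ∉ twoStepAt G 2) (hc : Commute g c) :
    ∃ i : ℤ, (g ^ i)⁻¹ * c ∈ gam G (n - 2) := by
  have hp := hpf.out
  obtain ⟨i, hi⟩ : ∃ i : ℤ, (g ^ i)⁻¹ * c ∈ twoStepAt G 2 := by
    haveI := twoStepAt_normal h (show 1 ≤ 2 by omega)
    set T := twoStepAt G 2 with hT
    have hcard : Nat.card (G ⧸ T) = p := by rw [← index_eq_card, index_twoStepAt h le_rfl (by omega)]
    have hg1 : QuotientGroup.mk' T g ≠ 1 := fun e => hg ((QuotientGroup.eq_one_iff _).1 e)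
    obtain ⟨i, hi⟩ := mem_zpowers_iff.1 (mem_zpowers_of_prime_card hcard hg1 (g' := QuotientGroup.mk' T c))
    refine ⟨i, ?_⟩
    rw [← QuotientGroup.eq_one_iff, QuotientGroup.mk_mul, QuotientGroup.mk_inv, QuotientGroup.mk_zpow,
      ← QuotientGroup.mk'_apply, ← QuotientGroup.mk'_apply, hi, inv_mul_cancel]
  refine ⟨i, ?_⟩
  set a := (g ^ i)⁻¹ * c with ha
  have hga : Commute g a := (((Commute.refl g).zpow_right i).inv_right).mul_right hc
  by_contra hn2
  have key : ∀ L, 1 ≤ L → L + 3 ≤ n → a ∈ lev G L → a ∈ gam G (L + 1) := by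
    intro L hL hLn haL
    by_contra hne
    refine (step_level h h4 hg hL (by omega) (Or.inl hLn) haL hne).2 ?_
    rw [commutatorElement_eq_one_iff_commute.2 hga]
    exact one_mem _
  have h2 : a ∈ gam G 2 := key 1 le_rfl (by omega) (lev_one (G := G) ▸ hi)
  obtain ⟨L, hL, hLn, haL, haL'⟩ := exists_level (show 2 ≤ n - 2 by omega) h2 hn2
  exact haL' (key L (by omega) (by omega) (by rw [lev_eq hL]; exact haL))

/-! ### Elements of order `p` -/

theorem pow_eq_one_of_deep {k : ℕ} (h2 : 2 ≤ k) (hk : n + 1 ≤ k + p) {v : G} (hv : v ∈ gam G k) :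
    v ^ p = 1 := by
  have h1 := (h.pow_shift n k h2 (by omega) v hv).1
  rwa [h.gam_eq_bot (by omega), mem_bot] at h1

theorem deep_of_pow_eq_one {v : G} (hv : v ∈ gam G 2) (hvp : v ^ p = 1) :
    v ∈ gam G (max 2 (n + 1 - p)) := by
  by_contra hne
  obtain ⟨L, hL, hLn, hvL, hvL'⟩ := exists_level (le_max_left 2 (n + 1 - p)) hv hne
  refine (h.pow_shift n L hL (by omega) v hvL).2 hvL' (by omega) ?_
  rw [hvp]; exact one_mem _

theorem comm_lev_one (h4 : 4 ≤ n) {a b : G} (ha : a ∈ lev G 1) (hb : b ∈ lev G 1) : ⁅a, b⁆ ∈ gam G 3 :=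
  comm_lev_aux h h4 (M := 2) (fun m h2 hm => by rw [show m = 2 by omega]) 1 le_rfl 1 le_rfl (by omega)
    a ha b hb

/-- For large order the elements of order `p` of the first two step centralizer lie in `γ₂`. -/
theorem gam_two_of_pow_eq_one (hn : p + 2 ≤ n) {v : G} (hv : v ∈ lev G 1) (hvp : v ^ p = 1) :
    v ∈ gam G 2 := by
  have hp := hpf.out
  have := hp.two_le
  have h4 : 4 ≤ n := by omega
  by_contra hv2
  haveI := gam_normal (G := G) (p + 1)
  set q : lev G 1 →* G ⧸ gam G (p + 1) := (QuotientGroup.mk' (gam G (p + 1))).comp (lev G 1).subtype with hq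
  have hQp : IsPGroup p q.range := (h.isPGroup.to_quotient _).to_subgroup _
  haveI : Finite (G ⧸ gam G (p + 1)) := inferInstance
  have hlcs : ∀ c, 1 ≤ c → ((⊤ : Subgroup (lev G 1)).lowerCentralSeries c).map (lev G 1).subtype ≤ gam G (c + 2) := by
    intro c hc
    induction c, hc using Nat.le_induction with
    | base =>
      rw [Subgroup.top_lowerCentralSeries_one, commutator_def, map_commutator, commutator_le]
      rintro _ ⟨a, -, rfl⟩ _ ⟨b, -, rfl⟩
      exact comm_lev_one h h4 a.2 b.2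
    | succ c hc ih =>
      rw [Subgroup.lowerCentralSeries_succ, map_commutator, commutator_le]
      intro a ha b _
      exact gam_comm (a := c + 2) (b := 1) (by omega) le_rfl (ih ha) (mem_top b)
  have hcl : (⊤ : Subgroup q.range).lowerCentralSeries (p - 1) = ⊥ := by
    rw [← Subgroup.map_top_of_surjective q.rangeRestrict q.rangeRestrict_surjective,
      ← Subgroup.map_lowerCentralSeries, Subgroup.map_eq_bot_iff]
    intro a ha
    rw [q.ker_rangeRestrict, MonoidHom.mem_ker]
    refine (QuotientGroup.eq_one_iff _).2 ?_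
    have h1 := hlcs (p - 1) (by omega) (mem_map_of_mem _ ha)
    rwa [show p - 1 + 2 = p + 1 by omega] at h1
  have hexp : ∀ u ∈ commutator q.range, u ^ p = 1 := by
    intro u hu
    rw [← Subgroup.top_lowerCentralSeries_one, ← Subgroup.map_top_of_surjective q.rangeRestrict
      q.rangeRestrict_surjective, ← Subgroup.map_lowerCentralSeries] at hu
    obtain ⟨a, ha, rfl⟩ := hu
    have h1 := hlcs 1 le_rfl (mem_map_of_mem _ ha)
    refine Subtype.ext ?_
    rw [SubgroupClass.coe_pow]
    show q a ^ p = 1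
    rw [← map_pow]
    refine (QuotientGroup.eq_one_iff _).2 ?_
    exact gam_anti (show p + 1 ≤ 3 + p - 1 by omega) (h.pow_shift n 3 (by omega) (by omega) _ h1).1
  obtain ⟨b, hb, hbp⟩ := CfsgLib.MaxClassAgemo.exists_pow_notMem_twoStep h hn
  rw [← lev_one] at hb
  haveI : (gam G 2).Normal := gam_normal 2
  rw [lev_one_gen h h4 hv hv2, mem_sup_of_normal_right] at hb
  obtain ⟨y, hy, c, hc, rfl⟩ := hb
  obtain ⟨i, rfl⟩ := mem_zpowers_iff.1 hy
  refine hbp ?_
  rw [← QuotientGroup.eq_one_iff]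
  have key := congrArg Subtype.val (CfsgLib.Fusion.RankThree.mul_pow_class_lt hQp hcl hexp
    (q.rangeRestrict (⟨v, hv⟩ ^ i)) (q.rangeRestrict ⟨c, gam_two_le_lev_one h hc⟩))
  simp only [Subgroup.coe_mul, SubgroupClass.coe_pow, MonoidHom.coe_rangeRestrict] at key
  rw [← map_mul, ← map_pow, ← map_pow, ← map_pow, ← map_mul] at key
  refine (show ((((v ^ i * c) ^ p : G)) : G ⧸ gam G (p + 1)) = q ((⟨v, hv⟩ ^ i *
    ⟨c, gam_two_le_lev_one h hc⟩ : lev G 1) ^ p) from rfl).trans (key.trans ?_)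
  show (((v ^ i) ^ p * c ^ p : G) : G ⧸ gam G (p + 1)) = 1
  refine (QuotientGroup.eq_one_iff _).2 ?_
  rw [← zpow_natCast, ← zpow_mul, mul_comm, zpow_mul, zpow_natCast, hvp, one_zpow, one_mul]
  exact gam_anti (show p + 1 ≤ 2 + p - 1 by omega) (h.pow_shift n 2 le_rfl (by omega) c hc).1

/-- For large order they lie in the last `p - 1` layers. -/
theorem omega_deep (hn : p + 2 ≤ n) {v : G} (hv : v ∈ lev G 1) (hvp : v ^ p = 1) :
    v ∈ gam G (n + 1 - p) := by
  have := hpf.out.two_le
  have h1 := deep_of_pow_eq_one h (gam_two_of_pow_eq_one h hn hv hvp) hvp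
  rwa [max_eq_right (by omega)] at h1

/-! ### The exceptional case -/

theorem inf_extremes (h4 : 4 ≤ n) (hex : twoStepAt G (n - 2) ≠ twoStepAt G 2) :
    twoStepAt G 2 ⊓ twoStepAt G (n - 2) = gam G 2 := by
  refine le_antisymm (fun v hv => ?_) (le_inf (gam_le_twoStepAt h.isPGroup (by omega))
    (gam_le_twoStepAt h.isPGroup (by omega)))
  by_contra hne
  refine hex ?_
  have h1 : twoStepAt G 2 ≤ twoStepAt G (n - 2) := by
    rw [← lev_one, lev_one_gen h h4 (lev_one (G := G) ▸ hv.1) hne]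
    exact sup_le (zpowers_le.2 hv.2) (gam_le_twoStepAt h.isPGroup (by omega))
  exact (twoStepAt_eq_of_le h le_rfl (by omega) (by omega) (by omega) h1).symm

/-- Elements of two paired layers do not commute. -/
theorem not_commute_pair (h4 : 4 ≤ n) (hex : twoStepAt G (n - 2) ≠ twoStepAt G 2) {L : ℕ} (hL : 1 ≤ L)
    (hLn : L + 2 ≤ n) {v w : G} (hv : v ∈ lev G L) (hv' : v ∉ gam G (L + 1))
    (hw : w ∈ lev G (n - 1 - L)) (hw' : w ∉ gam G (n - L)) : ¬ Commute v w := by
  intro hc
  obtain ⟨e, he, hne⟩ := exists_pair h h4 hex hL hLn hv hv'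
  obtain ⟨i, hi⟩ := exists_zpow_lev h h4 (show 1 ≤ n - 1 - L by omega) (by omega) hw
    (by rwa [show n - 1 - L + 1 = n - L by omega]) he
  refine hne (commutatorElement_eq_one_iff_commute.2 ?_)
  rw [show e = w ^ i * ((w ^ i)⁻¹ * e) by group]
  exact (hc.zpow_right i).mul_right (commute_of_deep h hL (by omega) (by omega) (lev_le_gam h hL hv) hi)

/-- The centre of the first two step centralizer is the centre in the exceptional case. -/
theorem center_lev_one (h4 : 4 ≤ n) (hex : twoStepAt G (n - 2) ≠ twoStepAt G 2) {v : G} (hv : v ∈ lev G 1)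
    (hc : ∀ a ∈ lev G 1, Commute v a) : v ∈ gam G (n - 1) := by
  by_contra hne
  have key : ∀ L, 1 ≤ L → L + 2 ≤ n → v ∈ lev G L → v ∈ gam G (L + 1) := by
    intro L hL hLn hvL
    by_contra hvL'
    obtain ⟨e, he, hne'⟩ := exists_pair h h4 hex hL hLn hvL hvL'
    exact hne' (commutatorElement_eq_one_iff_commute.2 (hc e (lev_anti h (by omega) he)))
  have h2 : v ∈ gam G 2 := key 1 le_rfl (by omega) hv
  obtain ⟨L, hL, hLn, hvL, hvL'⟩ := exists_level (show 2 ≤ n - 1 by omega) h2 hne
  exact hvL' (key L (by omega) (by omega) (by rw [lev_eq hL]; exact hvL))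

theorem lev_one_commute_deep (h4 : 4 ≤ n) (hne : twoStepAt G (n - 2) = twoStepAt G 2) {v a : G}
    (hv : v ∈ gam G (n - 2)) (ha : a ∈ lev G 1) : Commute v a := by
  rw [← commutatorElement_eq_one_iff_commute, ← mem_bot, ← h.gam_eq_bot le_rfl,
    show n = n - 2 + 1 + 1 by omega]
  exact comm_lev_ne h h4 hne (by omega) le_rfl (by rw [lev_eq (by omega)]; exact hv) ha

theorem last_two_commute {v g : G} (hv : v ∈ gam G (n - 2)) (hg : g ∈ twoStepAt G (n - 2)) :
    Commute g v := by
  have h3 := h.three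
  have h1 := hg v hv
  rwa [h.gam_eq_bot (by omega), mem_bot, commutatorElement_eq_one_iff_commute] at h1

end

end CfsgLib.MCFusion
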