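import Cfsg.Agent.Lib.MaxClassFusion.Setup
import Cfsg.Agent.Lib.MaxClassFusion.CentQuot
import Cfsg.Agent.Lib.Fusion.System.EssentialPlane

/-!
# The inductive statement and its use in quotient systems
-/

set_option autoImplicit false
set_option linter.style.haveILetI false
set_option linter.unusedSectionVars false

open Subgroup
open scoped commutatorElement Classical

namespace CfsgLib.MCFusion

open Cfsg (FusionSystem autInducedBy)
open Cfsg.FusionSystem (normalizerIn centralizerIn preimageAlong)
open CfsgLib.Fusion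
open CfsgLib.MaxClassShift (gam gam_normal gam_anti gam_one gam_comm)
open CfsgLib.MaxClassUniform (Uniform gam_le_twoStepAt)
open CfsgLib.PGroup.MaxClassRank (twoStepAt)
open CfsgLib.MaxClassEss

universe u v

/-- The statement proved by induction on the order. -/
def Conc (p n : ℕ) : Prop :=
  ∀ {Ω : Type u} [Group Ω] {S : Subgroup Ω} [Finite S] (F : FusionSystem S) (E : Subgroup Ω),
    IsPGroup p S → Nat.card S = p ^ n → 4 ≤ n → Group.nilpotencyClass S = n - 1 →
    F.IsSaturated p → F.IsEssential p E →
    (E.subgroupOf S ≤ lev S 1 ∨ E.subgroupOf S ≤ twoStepAt S (n - 2)) →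
    E.subgroupOf S = lev S 1 ∨ E.subgroupOf S = twoStepAt S (n - 2)

variable {p n : ℕ} [hpf : Fact p.Prime]

theorem uniform_equiv {G : Type u} {K : Type v} [Group G] [Group K] {x : G} (h : Uniform x p n) (e : G ≃* K) :
    Uniform (e x) p n := by
  refine ⟨by rw [← Nat.card_congr e.toEquiv, h.card], ?_, h.three⟩
  rw [← h.cent]
  have : (centralizer ({x} : Set G)).map (e : G →* K) = centralizer ({e x} : Set K) := by
    ext k
    obtain ⟨g, rfl⟩ := e.surjective k
    rw [show e g = (e : G →* K) g from rfl, mem_map_iff_mem e.injective, mem_centralizer_singleton_iff,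
      mem_centralizer_singleton_iff]
    show _ ↔ e g * e x = e x * e g
    rw [← map_mul, ← map_mul, e.injective.eq_iff]
  rw [← this, card_map_of_injective (show Function.Injective (e : G →* K) from e.injective)]

theorem gam_map_surj {G : Type u} {K : Type v} [Group G] [Group K] {β : G →* K}
    (hβ : Function.Surjective β) (j : ℕ) : gam K j = (gam G j).map β := by
  rw [Subgroup.map_lowerCentralSeries, Subgroup.map_top_of_surjective β hβ]

theorem twoStepAt_map {G : Type u} {K : Type v} [Group G] [Group K] {β : G →* K}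
    (hβ : Function.Surjective β) {i : ℕ} (hker : β.ker ≤ gam G (i + 2)) {g : G} :
    β g ∈ twoStepAt K i ↔ g ∈ twoStepAt G i := by
  have hback : ∀ w : G, β w ∈ gam K (i + 2) ↔ w ∈ gam G (i + 2) := fun w => by
    rw [gam_map_surj hβ, ← mem_comap, comap_map_eq_self hker]
  constructor
  · intro h w hw
    rw [← hback, map_commutatorElement]
    exact h _ (by rw [gam_map_surj hβ]; exact mem_map_of_mem β hw)
  · intro h w hw
    rw [gam_map_surj hβ] at hw
    obtain ⟨w, hw, rfl⟩ := hw
    rw [← map_commutatorElement, hback]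
    exact h w hw

section

variable {Ω : Type u} [Group Ω] {S : Subgroup Ω} [Finite S] {F : FusionSystem S} {E : Subgroup Ω}

/-- An essential subgroup with a uniform element has order `p²` or is nonabelian of order `p³`. -/
theorem pearl_of_uniform (hS : IsPGroup p S) (hn : Nat.card S = p ^ n) (h3 : 3 ≤ n)
    (hE : F.IsEssential p E) {g : S} (hg : g ∈ E.subgroupOf S) (hu : Uniform g p n) :
    (Nat.card E = p ^ 2 ∧ Cfsg.IsElementaryAbelian p E) ∨
      (Nat.card E = p ^ 3 ∧ ∃ a b : E, a * b ≠ b * a) := by
  have hp := hpf.out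
  have hES := hE.1.1
  haveI := finite_of_le hES
  have hC : centralizer ({g} : Set S) ≤ E.subgroupOf S := by
    have hZ : gam S (n - 1) ≤ E.subgroupOf S := fun z hz =>
      mem_subgroupOf.2 (MaxClassEss.centralizer_le hE z.2 fun e he =>
        congrArg Subtype.val (comm_gam_central hu hz (⟨e, hES he⟩ : S)))
    have hlt : gam S (n - 1) < zpowers g ⊔ gam S (n - 1) := lt_of_le_of_ne le_sup_right fun e =>
      hu.notMem_gam (gam_anti (show 2 ≤ n - 1 by omega) (e.ge (mem_sup_left (mem_zpowers g))))
    have hle : zpowers g ⊔ gam S (n - 1) ≤ centralizer ({g} : Set S) :=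
      sup_le (zpowers_le.2 (mem_centralizer_singleton_iff.2 rfl)) fun z hz =>
        mem_centralizer_singleton_iff.2 (comm_gam_central hu hz g).symm
    have heq : zpowers g ⊔ gam S (n - 1) = centralizer ({g} : Set S) := by
      refine eq_of_le_of_card_ge hle ?_
      rw [hu.cent]
      refine le_trans (le_of_eq ?_) (CfsgLib.MaxClassCube.mul_card_le hS hlt)
      rw [hu.card_gam (by omega) (by omega), ← pow_succ']
      congr 1; omega
    rw [← heq]
    exact sup_le (zpowers_le.2 hg) hZ
  have hcardE : Nat.card (E.subgroupOf S) = Nat.card E := Nat.card_congr (subgroupOfEquivOfLe hES).toEquiv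
  obtain ⟨k, hk⟩ := (hS.to_le hES).exists_card_eq
  have hk2 : 2 ≤ k := by
    have h1 := card_le_of_le hC
    rw [hu.cent, hcardE, hk] at h1
    exact (Nat.pow_le_pow_iff_right hp.one_lt).1 h1
  rcases (show k = 2 ∨ 3 ≤ k by omega) with rfl | hk3
  · exact Or.inl ⟨hk, (EssentialPlane.essential_card_sq hS hE hk).1⟩
  set g' : E := ⟨g, mem_subgroupOf.1 hg⟩ with hg'
  have hgE : Uniform g' p k := by
    refine ⟨hk, ?_, hk3⟩
    rw [← hu.cent]
    refine Nat.card_congr
      { toFun := fun c => ⟨⟨((c : E) : Ω), hES (c : E).2⟩, mem_centralizer_singleton_iff.2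
          (Subtype.ext (show ((c : E) : Ω) * (g : Ω) = (g : Ω) * ((c : E) : Ω) from
            congrArg (fun z : E => (z : Ω)) (mem_centralizer_singleton_iff.1 c.2)))⟩
        invFun := fun c => ⟨⟨((c : S) : Ω), mem_subgroupOf.1 (hC c.2)⟩, mem_centralizer_singleton_iff.2
          (Subtype.ext (show ((c : S) : Ω) * (g : Ω) = (g : Ω) * ((c : S) : Ω) from
            congrArg (fun z : S => (z : Ω)) (mem_centralizer_singleton_iff.1 c.2)))⟩
        left_inv := fun c => rfl
        right_inv := fun c => rfl }
  obtain ⟨hcore, hdvd⟩ := EssentialCube.autGroup_data hS hE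
  rcases (show k = 3 ∨ 4 ≤ k by omega) with rfl | hk4
  · refine Or.inr ⟨hk, ?_⟩
    by_contra hcon
    push Not at hcon
    have h1 : centralizer ({g'} : Set E) = ⊤ := eq_top_iff.2 fun a _ =>
      mem_centralizer_singleton_iff.2 (hcon a g')
    have h2 := hgE.cent
    rw [h1, card_top, hk] at h2
    exact absurd (Nat.pow_right_injective hp.two_le h2) (by omega)
  · exact (no_maximal_class hgE hk4 _ hcore hdvd).elim

theorem small_of_uniform (hS : IsPGroup p S) (hn : Nat.card S = p ^ n) (h3 : 3 ≤ n)
    (hE : F.IsEssential p E) {g : S} (hg : g ∈ E.subgroupOf S) (hu : Uniform g p n) :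
    Nat.card E ≤ p ^ 3 := by
  rcases pearl_of_uniform hS hn h3 hE hg hu with ⟨h, -⟩ | ⟨h, -⟩
  · rw [h]; exact Nat.pow_le_pow_right hpf.out.pos (by omega)
  · rw [h]

/-- The quotient map onto the underlying group of a factor system. -/
theorem exists_quot_hom {T R : Subgroup Ω} [(R.subgroupOf T).Normal] {D : Type v} [Group D] (e : D ≃* T) :
    ∃ β : D →* (QuotientGroup.mk' (R.subgroupOf T)).range, Function.Surjective β ∧
      (∀ d, β d = 1 ↔ (e d : Ω) ∈ R) ∧
      ∀ P : Subgroup Ω, (imgι (QuotientGroup.mk' (R.subgroupOf T)) P).subgroupOf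
        (QuotientGroup.mk' (R.subgroupOf T)).range = ((P.subgroupOf T).comap e.toMonoidHom).map β := by
  refine ⟨(QuotientGroup.mk' (R.subgroupOf T)).rangeRestrict.comp e.toMonoidHom,
    (MonoidHom.rangeRestrict_surjective _).comp e.surjective, fun d => ?_, fun P => ?_⟩
  · rw [Subtype.ext_iff]
    show QuotientGroup.mk' (R.subgroupOf T) (e d) = 1 ↔ _
    rw [QuotientGroup.mk'_apply, QuotientGroup.eq_one_iff, mem_subgroupOf]
  · ext q
    constructor
    · rintro ⟨t, ht, htq⟩
      obtain ⟨d, rfl⟩ := e.surjective t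
      exact ⟨d, ht, Subtype.ext htq⟩
    · rintro ⟨d, hd, rfl⟩
      exact ⟨e d, hd, rfl⟩

/-- The order of an image modulo `R`. -/
theorem card_imgι_mul {T R P : Subgroup Ω} [(R.subgroupOf T).Normal] (hRP : R ≤ P) (hP : P ≤ T) :
    Nat.card (imgι (QuotientGroup.mk' (R.subgroupOf T)) P) * Nat.card R = Nat.card P := by
  show Nat.card ((P.subgroupOf T).map _) * _ = _
  rw [← relIndex_ker, QuotientGroup.ker_mk', relIndex_subgroupOf hP, mul_comm, ← relIndex_bot_left,
    ← relIndex_bot_left, relIndex_mul_relIndex ⊥ R P bot_le hRP]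

end

end CfsgLib.MCFusion
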