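import Cfsg.Agent.Lib.MaxClassFusion.OmegaCentre
import Cfsg.Agent.Lib.RegUnip.Chain

/-!
# Centralizers on an abelian term in the presence of a nonquadratic action

An element of a layer whose action on an abelian term of exponent `p` is not quadratic has degree
less than half of the length of the term; the leading coefficients of the higher layers are then
polynomials of small degree, so their centralizers on the term are small.
-/

set_option autoImplicit false
set_option linter.style.haveILetI false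
set_option linter.unusedSectionVars false

open Subgroup
open scoped commutatorElement Classical

namespace CfsgLib.MCFusion

open CfsgLib.MaxClassShift (gam gam_normal gam_anti gam_one gam_comm)
open CfsgLib.MaxClassUniform (Uniform gam_le_twoStepAt)
open CfsgLib.PGroup.MaxClassRank (twoStepAt)
open CfsgLib.MaxClassEss
open CfsgLib.RegUnip (M2 GLw Dg mem_Dg mem_Dg_one exists_top comm_shift_top shiftN ent dg Deg deg_iff
  ent_of_le ent_sub ent_one ent_mul eq_one_of_Dg choose_sum_eq_zero choose_sum_sub ent_fin)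

universe u

variable {S : Type u} [Group S] [Finite S] {p n c m : ℕ} [hpf : Fact p.Prime] {x : S}

/-- The matrices of the conjugations on an abelian term. -/
structure ConjRep (x : S) (p c m : ℕ) [Fact p.Prime] (φ : S → Fin m → ZMod p) (ρ : S →* GLw p m) :
    Prop where
  add : ∀ a ∈ gam S c, ∀ b ∈ gam S c, φ (a * b) = φ a + φ b
  zero : ∀ a ∈ gam S c, φ a = 0 ↔ a = 1
  law : ∀ g, ∀ b ∈ gam S c, φ (g * b * g⁻¹) = (ρ g : M2 p m).mulVec (φ b)
  shift : (ρ x : M2 p m) = 1 + shiftN (ZMod p) m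
  deg : ∀ i, 1 ≤ i → ∀ a ∈ lev S i, ρ a ∈ Dg p m (i + 1)
  triv : ∀ a, (∀ b ∈ gam S c, Commute a b) → ρ a = 1

theorem exists_conjRep (hx : Uniform x p n) (h4 : 4 ≤ n)
    (hne : twoStepAt S (n - 2) = twoStepAt S 2) (hc : 2 ≤ c) (hcm : c + m = n) (hm : 1 ≤ m)
    (hcp : n + 1 ≤ c + p) (hab : ∀ a ∈ gam S c, ∀ b ∈ gam S c, Commute a b) :
    ∃ (φ : S → Fin m → ZMod p) (ρ : S →* GLw p m), ConjRep x p c m φ ρ := by
  obtain ⟨b0, St⟩ : ∃ b, Sect x p n c m (gam S c).subtype b := by
    obtain ⟨b, hb, hb'⟩ := exists_layer hx hc (show c < n by omega)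
    refine ⟨b, hx, hc, hcm.le, hb, hb', Subtype.val_injective, range_subtype _, fun a a' => ?_, fun a => ?_⟩
    · rw [map_commutatorElement, show ⁅(gam S c).subtype a, (gam S c).subtype a'⁆ = 1 from
        commutatorElement_eq_one_iff_commute.2 (hab _ a.2 _ a'.2)]
      exact one_mem _
    · rw [map_pow, show ((gam S c).subtype a) ^ p = 1 from pow_eq_one_of_deep hx hc hcp a.2]; exact one_mem _
  obtain ⟨w, hw⟩ := St.exists_lift
  obtain ⟨φ0, C⟩ := St.exists_coord hw
  haveI := gam_normal (G := S) c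
  have htrivial : ∀ σ ∈ (⊤ : Subgroup (MulAut (gam S c))), ∀ a, (gam S c).subtype a ∈ gam S (c + m) →
      (gam S c).subtype (σ a) ∈ gam S (c + m) := by
    intro σ _ a ha
    rw [hcm, hx.gam_eq_bot le_rfl, mem_bot] at ha ⊢
    rw [show a = 1 from Subtype.ext ha, map_one, map_one]
  set ρ : S →* GLw p m := (St.action hw C ⊤ htrivial).comp
    ((MulAut.conjNormal (H := gam S c)).codRestrict ⊤ fun g => mem_top _) with hρ
  have hρv : ∀ g, (ρ g : M2 p m) = mat φ0 w (MulAut.conjNormal g) := fun g => rfl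
  let φ : S → Fin m → ZMod p := fun a => if h : a ∈ gam S c then φ0 ⟨a, h⟩ else 0
  have hφ : ∀ {a} (h : a ∈ gam S c), φ a = φ0 ⟨a, h⟩ := fun h => dif_pos h
  have hg : ∀ g : S, ∀ a : gam S c,
      (gam S c).subtype (MulAut.conjNormal g a) = g * (gam S c).subtype a * g⁻¹ :=
    fun g a => MulAut.conjNormal_apply g a
  refine ⟨φ, ρ, ?_, fun a ha => ?_, fun g b hb => ?_, ?_, fun i hi a ha => ?_, fun a ha => ?_⟩
  · intro a ha b hb
    rw [hφ ha, hφ hb, hφ (mul_mem ha hb), ← C.add]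
    rfl
  · rw [hφ ha, C.zero, hcm, hx.gam_eq_bot le_rfl, mem_bot]
    exact Iff.rfl
  · rw [hφ ((gam_normal c).conj_mem b hb g), hφ hb, hρv, ← St.apply_eq hw C (htrivial _ (mem_top _))]
    exact congrArg φ0 (Subtype.ext (hg g ⟨b, hb⟩).symm)
  · rw [hρv]
    exact St.mat_shift hw C (hg x)
  · rw [mem_Dg, hρv]
    refine deg_iff.2 fun k l hkl => ?_
    by_cases hlt : k < m ∧ l < m
    · rw [C.ent_mat_sub _ hlt.1 hlt.2]
      obtain ⟨h1, -⟩ := St.step_mem hw (hg a) l
      have hseq : seq x b0 l ∈ lev S (c + l) := by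
        rw [lev_eq (by omega)]; exact seq_mem (by omega) St.mem l
      have h2 := comm_lev_ne hx h4 hne hi (show 1 ≤ c + l by omega) ha hseq
      rcases Nat.lt_or_ge (l + i + 1) m with hj | hj
      · refine St.coord_low hw C (j := l + i + 1) hj.le ?_ (by push_cast at hkl ⊢; omega)
        rw [h1]
        exact gam_anti (by omega) h2
      · refine St.coord_low hw C (j := m) le_rfl ?_ hlt.1
        rw [h1]
        exact gam_anti (by omega) h2
    · exact ent_of_le (by omega)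
  · refine Units.ext (Matrix.ext_of_mulVec_single fun i => ?_)
    rw [Units.val_one, Matrix.one_mulVec, ← C.base i, hρv, ← St.apply_eq hw C (htrivial _ (mem_top _))]
    refine congrArg φ0 (Subtype.ext ?_)
    show (gam S c).subtype (MulAut.conjNormal a (w i)) = _
    rw [hg]
    show a * ((w i : gam S c) : S) * a⁻¹ = _
    rw [(ha _ (w i).2).eq, mul_inv_cancel_right]

/-- The leading coefficients of an element of degree `h`. -/
noncomputable def lead {m : ℕ} (A : GLw p m) (h i : ℕ) : ZMod p := ent (A : M2 p m) (i + h) i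

theorem lead_eq {A : GLw p m} {h i : ℕ} (h1 : 1 ≤ h) (hi : i + h < m) :
    lead A h i = ent ((A : M2 p m) - 1) (i + h) i := by
  rw [lead, ent_sub, ent_one hi, if_neg (by omega), sub_zero]

theorem lead_eq_zero {A : GLw p m} {h k i : ℕ} (hk : A ∈ Dg p m k) (h1 : 1 ≤ h) (hlt : h < k)
    (hi : i + h < m) : lead A h i = 0 := by
  rw [lead_eq h1 hi]
  exact (mem_Dg.1 hk).ent_eq (by push_cast; omega)

/-- A nontrivial element has an exact degree. -/
theorem exists_degree {A : GLw p m} (hA : A ≠ 1) {h₀ : ℕ} (h1 : 1 ≤ h₀) (hd : A ∈ Dg p m h₀) :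
    ∃ h, h₀ ≤ h ∧ h < m ∧ A ∈ Dg p m h ∧ ∃ i, i + h < m ∧ lead A h i ≠ 0 := by
  have hne : (A : M2 p m) - 1 ≠ 0 := fun e => hA (Units.ext (sub_eq_zero.1 e))
  obtain ⟨h, hh, hhm, hdeg, i, hi, hne'⟩ := exists_top hne (mem_Dg.1 hd)
  exact ⟨h, hh, hhm, mem_Dg.2 hdeg, i, hi, by rwa [lead_eq (by omega) hi]⟩

/-- Few vectors are fixed by an element whose leading coefficients are a polynomial of degree `r`. -/
theorem card_fixed_le {A : GLw p m} {h r : ℕ} (hmp : m ≤ p) (hrp : r < p) (h1 : 1 ≤ h)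
    (hd : A ∈ Dg p m h) (hne : ∃ i, i + h < m ∧ lead A h i ≠ 0) (a : ℕ → ZMod p)
    (ha : ∀ i, i + h < m → lead A h i = ∑ k ∈ Finset.range (r + 1), a k * (i.choose k : ZMod p))
    (P : Set (Fin m → ZMod p)) (hP : ∀ v ∈ P, (A : M2 p m).mulVec v = v) :
    Nat.card P ≤ p ^ (h + r) := by
  set T := (Finset.range m).filter fun i => i + h < m ∧ lead A h i = 0 with hT
  have hTr : T.card ≤ r := by
    by_contra hlt
    push Not at hlt
    obtain ⟨i, hi, hne'⟩ := hne
    refine hne' ((ha i hi).trans (choose_sum_eq_zero (by omega) a T (fun l hl => ?_) hlt (fun l hl => ?_) i))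
    · have := Finset.mem_range.1 (Finset.mem_filter.1 hl).1
      omega
    · rw [← ha l (Finset.mem_filter.1 hl).2.1]
      exact (Finset.mem_filter.1 hl).2.2
  set Z : Finset (Fin m) := Finset.univ.filter fun i : Fin m => m ≤ (i : ℕ) + h ∨ lead A h (i : ℕ) = 0 with hZ
  have hZc : Z.card ≤ h + r := by
    refine le_trans (Finset.card_le_card_of_injOn (s := Z) (t := Finset.Ico (m - h) m ∪ T)
      (fun i : Fin m => (i : ℕ)) (fun i hi => ?_) fun i _ k _ e => Fin.ext e) ?_
    · simp only [hZ, Finset.mem_coe, Finset.mem_filter, Finset.mem_univ, true_and] at hi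
      simp only [hT, Finset.coe_union, Set.mem_union, Finset.mem_coe, Finset.mem_Ico, Finset.mem_filter,
        Finset.mem_range]
      by_cases h' : m ≤ (i : ℕ) + h
      · exact Or.inl ⟨by omega, i.2⟩
      · exact Or.inr ⟨i.2, by omega, hi.resolve_left h'⟩
    · refine (Finset.card_union_le _ _).trans ?_
      rw [Nat.card_Ico]
      omega
  have hinj : Function.Injective fun (v : P) (i : Z) => (v : Fin m → ZMod p) (i : Fin m) := by
    intro v v' hvv
    by_contra hne'
    set d : Fin m → ZMod p := (v : Fin m → ZMod p) - v' with hd'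
    have hfix : (A : M2 p m).mulVec d = d := by rw [hd', Matrix.mulVec_sub, hP _ v.2, hP _ v'.2]
    have hex : ∃ k, ∃ hk : k < m, d ⟨k, hk⟩ ≠ 0 := by
      by_contra hall
      push Not at hall
      exact hne' (Subtype.ext (sub_eq_zero.1 (funext fun i => hall i i.2)))
    set k := Nat.find hex with hk0
    obtain ⟨hkm, hk⟩ := Nat.find_spec hex
    have hlow : ∀ l : Fin m, (l : ℕ) < k → d l = 0 := fun l hl => by
      by_contra h'
      exact Nat.find_min hex hl ⟨l.2, h'⟩
    have hkZ : (⟨k, hkm⟩ : Fin m) ∉ Z := fun hz => hk (sub_eq_zero.2 (congrFun hvv ⟨_, hz⟩))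
    simp only [hZ, Finset.mem_filter, Finset.mem_univ, true_and, not_or, not_le] at hkZ
    obtain ⟨hkh, hlead⟩ := hkZ
    have h2 : ((A : M2 p m) - 1).mulVec d = 0 := by rw [Matrix.sub_mulVec, hfix, Matrix.one_mulVec, sub_self]
    have h3 := congrFun h2 ⟨k + h, hkh⟩
    simp only [Matrix.mulVec, dotProduct, Pi.zero_apply] at h3
    rw [Finset.sum_eq_single (⟨k, hkm⟩ : Fin m)] at h3
    · rw [← ent_fin ((A : M2 p m) - 1), ← lead_eq h1 hkh] at h3
      exact hlead ((mul_eq_zero.1 h3).resolve_right hk)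
    · intro l _ hl
      have hl' : (l : ℕ) ≠ k := fun e => hl (Fin.ext e)
      rcases Nat.lt_or_gt_of_ne hl' with h' | h'
      · rw [hlow l h', mul_zero]
      · rw [← ent_fin ((A : M2 p m) - 1), (mem_Dg.1 hd).ent_eq (by push_cast; omega), zero_mul]
    · exact fun h' => absurd (Finset.mem_univ _) h'
  refine le_trans (Nat.card_le_card_of_injective _ hinj) ?_
  rw [Nat.card_pi]
  simp only [Nat.card_zmod, Finset.prod_const, Finset.card_univ, Fintype.card_coe]
  exact Nat.pow_le_pow_right hpf.out.pos hZc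

variable {φ : S → Fin m → ZMod p} {ρ : S →* GLw p m}

/-- The leading coefficients of the layers above `j`. -/
theorem exists_lead (hx : Uniform x p n) (h4 : 4 ≤ n) (R : ConjRep x p c m φ ρ) {j δ : ℕ} (hj : 1 ≤ j)
    (hjn : j + 2 ≤ n) (hker : ∀ a ∈ gam S (j + 1), ρ a = 1) {u : S} (hu : u ∈ lev S j)
    (hδ : ∃ i, i + δ < m ∧ lead (ρ u) δ i ≠ 0) (hjδ : j + 1 ≤ δ) :
    ∀ r, r + 1 ≤ j → ∀ a ∈ lev S (j - r), a ∉ gam S (j - r + 1) →
      ∃ h, 1 ≤ h ∧ h + r ≤ δ ∧ ρ a ∈ Dg p m h ∧ (∃ i, i + h < m ∧ lead (ρ a) h i ≠ 0) ∧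
        ∃ q : ℕ → ZMod p, ∀ i, i + h < m →
          lead (ρ a) h i = ∑ k ∈ Finset.range (r + 1), q k * (i.choose k : ZMod p) := by
  have hcom : ∀ g, ρ ⁅x, g⁆ = ρ x * ρ g * (ρ x)⁻¹ * (ρ g)⁻¹ := fun g => by
    rw [map_commutatorElement]; rfl
  intro r
  induction r with
  | zero =>
    intro hr a ha ha'
    rw [Nat.sub_zero] at ha ha'
    obtain ⟨e, he⟩ := exists_zpow_lev hx h4 hj (show j < n by omega) ha ha' hu
    have h1 : ρ u = ρ a ^ e := by
      have := hker _ he
      rw [map_mul, map_inv, map_zpow, inv_mul_eq_one] at this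
      exact this.symm
    have hne : ρ a ≠ 1 := fun e1 => by
      obtain ⟨i, hi, hne⟩ := hδ
      exact hne (lead_eq_zero (k := δ + 1) (by rw [h1, e1, one_zpow]; exact one_mem _) (by omega) (by omega) hi)
    obtain ⟨h, hh, hhm, hdeg, hne'⟩ := exists_degree hne (show 1 ≤ j + 1 by omega) (R.deg j hj a ha)
    refine ⟨h, by omega, ?_, hdeg, hne', fun _ => lead (ρ a) h 0, fun i hi => ?_⟩
    · by_contra hlt
      obtain ⟨i, hi, hne⟩ := hδ
      exact hne (lead_eq_zero (k := h) (by rw [h1]; exact zpow_mem hdeg e) (by omega) (by omega) hi)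
    obtain ⟨-, h2⟩ := comm_shift_top R.shift (show 1 ≤ h by omega) hdeg
    have hz : ρ ⁅x, a⁆ = 1 := hker _ (by
      have := comm_top_lev hx hj (g := x) ha
      rwa [lev_eq (by omega)] at this)
    rw [← hcom, hz] at h2
    rw [Finset.sum_range_one, Nat.choose_zero_right, Nat.cast_one, mul_one]
    induction i with
    | zero => rfl
    | succ i ih =>
      have h3 := h2 i (by omega)
      rw [Units.val_one, ent_one (by omega), if_neg (by omega), eq_comm, sub_eq_zero] at h3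
      rw [← ih (by omega)]
      exact h3.symm
  | succ r ih =>
    intro hr a ha ha'
    have hi1 : 1 ≤ j - (r + 1) := by omega
    set b := ⁅x, a⁆ with hb
    have hb1 : b ∈ lev S (j - r) := by
      have := comm_top_lev hx hi1 (g := x) ha
      rwa [show j - (r + 1) + 1 = j - r by omega] at this
    have hb2 : b ∉ gam S (j - r + 1) := by
      have := comm_lev_succ hx h4 hi1 (by omega) ha ha'
      rwa [show j - (r + 1) + 2 = j - r + 1 by omega] at this
    obtain ⟨hb', hb'1, hb'δ, hbdeg, hbne, q, hq⟩ := ih (by omega) b hb1 hb2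
    have hbne1 : ρ b ≠ 1 := fun e1 => by
      obtain ⟨i, hi, hne⟩ := hbne
      exact hne (lead_eq_zero (k := hb' + 1) (by rw [e1]; exact one_mem _) hb'1 (by omega) hi)
    have hane : ρ a ≠ 1 := fun e1 => hbne1 (by rw [hb, hcom, e1]; group)
    obtain ⟨h, hh, hhm, hdeg, hne'⟩ := exists_degree hane (show 1 ≤ j - (r + 1) + 1 by omega) (R.deg _ hi1 a ha)
    obtain ⟨h2, h3⟩ := comm_shift_top R.shift (show 1 ≤ h by omega) hdeg
    rw [← hcom, ← hb] at h2 h3
    have hle : h + 1 ≤ hb' := by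
      by_contra hlt
      obtain ⟨i, hi, hne⟩ := hbne
      exact hne (lead_eq_zero h2 hb'1 (by omega) hi)
    obtain ⟨q', hq'⟩ : ∃ q' : ℕ → ZMod p, ∀ i, i + (h + 1) < m →
        lead (ρ b) (h + 1) i = ∑ k ∈ Finset.range (r + 1), q' k * (i.choose k : ZMod p) := by
      rcases hle.eq_or_lt with e | hlt
      · exact ⟨q, fun i hi => e ▸ hq i (e ▸ hi)⟩
      · exact ⟨0, fun i hi => by rw [lead_eq_zero hbdeg (by omega) hlt hi]; simp⟩
    set q2 : ℕ → ZMod p := fun k => if k = 0 then lead (ρ a) h 0 else -q' (k - 1) with hq2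
    refine ⟨h, by omega, by omega, hdeg, hne', q2, fun i hi => ?_⟩
    induction i with
    | zero =>
      rw [Finset.sum_eq_single 0]
      · simp [hq2]
      · intro k _ hk
        rw [Nat.choose_eq_zero_of_lt (Nat.pos_of_ne_zero hk), Nat.cast_zero, mul_zero]
      · intro h'; exact absurd (Finset.mem_range.2 (by omega)) h'
    | succ i ihi =>
      have h5 : lead (ρ b) (h + 1) i = lead (ρ a) h i - lead (ρ a) h (i + 1) := h3 i (by omega)
      rw [hq' i (by omega), ihi (by omega)] at h5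
      have h6 := choose_sum_sub q2 (r + 1) i
      simp only [hq2, Nat.add_eq_zero_iff, one_ne_zero, and_false, if_false, Nat.add_sub_cancel, neg_neg] at h6 h5 ⊢
      linear_combination h6 + h5

/-- The centralizers on the term of the elements outside `γ_(j+1)` are small. -/
theorem jbound (hx : Uniform x p n) (h4 : 4 ≤ n) (hne : twoStepAt S (n - 2) = twoStepAt S 2)
    {c m j : ℕ} (hc : 2 ≤ c) (hcm : c + m = n) (hcp : n + 1 ≤ c + p)
    (hab : ∀ a ∈ gam S c, ∀ b ∈ gam S c, Commute a b) (hj : 1 ≤ j) (hjc : j + 1 ≤ c) (hjn : j + 2 ≤ n)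
    (hcent : ∀ a ∈ gam S (j + 1), ∀ b ∈ gam S c, Commute a b) {u : S} (hu : u ∈ lev S j) {y : S}
    (hy : y ∈ gam S c) (hnq : ¬ Commute u ⁅u, y⁆) :
    ∃ δ, j + δ < m ∧ ∀ a ∈ lev S 1, a ∉ gam S (j + 1) →
      Nat.card (centralizer {a} ⊓ gam S c : Subgroup S) ≤ p ^ δ := by
  have hm : 1 ≤ m := by
    by_contra h0
    refine hnq ?_
    have h1 : y = 1 := by rwa [hx.gam_eq_bot (by omega), mem_bot] at hy
    rw [h1, commutatorElement_eq_one_iff_commute.2 (Commute.one_right u)]
    exact Commute.one_right u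
  obtain ⟨φ, ρ, R⟩ := exists_conjRep hx h4 hne hc hcm hm hcp hab
  haveI := gam_normal (G := S) c
  have hker : ∀ a ∈ gam S (j + 1), ρ a = 1 := fun a ha => R.triv a (hcent a ha)
  have hinv : ∀ b ∈ gam S c, φ b⁻¹ = -φ b := fun b hb => by
    have h1 := R.add _ (inv_mem hb) _ hb
    rw [inv_mul_cancel, (R.zero 1 (one_mem _)).2 rfl] at h1
    exact eq_neg_of_add_eq_zero_left h1.symm
  have hbr : ∀ g, ∀ b ∈ gam S c, ⁅g, b⁆ ∈ gam S c ∧ φ ⁅g, b⁆ = ((ρ g : M2 p m) - 1).mulVec (φ b) := by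
    intro g b hb
    have h1 : g * b * g⁻¹ ∈ gam S c := (gam_normal c).conj_mem b hb g
    have e : ⁅g, b⁆ = g * b * g⁻¹ * b⁻¹ := by rw [commutatorElement_def]
    rw [e]
    refine ⟨mul_mem h1 (inv_mem hb), ?_⟩
    rw [R.add _ h1 _ (inv_mem hb), R.law g b hb, hinv b hb, Matrix.sub_mulVec, Matrix.one_mulVec, sub_eq_add_neg]
  obtain ⟨hy1, hy2⟩ := hbr u y hy
  obtain ⟨hy3, hy4⟩ := hbr u _ hy1
  have hsq : (((ρ u : M2 p m) - 1) * ((ρ u : M2 p m) - 1)).mulVec (φ y) ≠ 0 := fun e => by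
    rw [← Matrix.mulVec_mulVec, ← hy2, ← hy4, R.zero _ hy3, commutatorElement_eq_one_iff_commute] at e
    exact hnq e
  have hne1 : ρ u ≠ 1 := fun e => hsq (by rw [e, Units.val_one, sub_self, Matrix.zero_mul, Matrix.zero_mulVec])
  obtain ⟨δ, hδj, hδm, hδdeg, hδne⟩ := exists_degree hne1 (show 1 ≤ j + 1 by omega) (R.deg j hj u hu)
  have h2δ : 2 * δ < m := by
    by_contra hle
    refine hsq ?_
    rw [CfsgLib.RegUnip.eq_zero_of_deg (Deg.mul (mem_Dg.1 hδdeg) (mem_Dg.1 hδdeg)) (by push_cast; omega),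
      Matrix.zero_mulVec]
  refine ⟨δ, by omega, fun a ha ha' => ?_⟩
  obtain ⟨L, hL, hLj, haL, haL'⟩ : ∃ L, 1 ≤ L ∧ L < j + 1 ∧ a ∈ lev S L ∧ a ∉ gam S (L + 1) := by
    by_cases ha2 : a ∈ gam S 2
    · obtain ⟨L, hL, hLK, h1, h2⟩ := exists_level (show 2 ≤ j + 1 by omega) ha2 ha'
      exact ⟨L, by omega, hLK, by rw [lev_eq hL]; exact h1, h2⟩
    · exact ⟨1, le_rfl, by omega, ha, ha2⟩
  obtain ⟨h, h1, hhr, hdeg, hne', q, hq⟩ := exists_lead hx h4 R hj hjn hker hu hδne hδj (j - L) (by omega) a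
    (by rwa [show j - (j - L) = L by omega]) (by rwa [show j - (j - L) = L by omega])
  set C : Subgroup S := centralizer {a} ⊓ gam S c with hC
  set P : Set (Fin m → ZMod p) := φ '' (C : Set S) with hP
  have hinjφ : Set.InjOn φ (C : Set S) := fun b hb b' hb' e => by
    have h2 : φ (b * b'⁻¹) = 0 := by rw [R.add _ hb.2 _ (inv_mem hb'.2), hinv _ hb'.2, e, add_neg_cancel]
    exact mul_inv_eq_one.1 ((R.zero _ (mul_mem hb.2 (inv_mem hb'.2))).1 h2)
  have hcard : Nat.card P = Nat.card C := Nat.card_image_of_injOn hinjφ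
  rw [← hcard]
  refine (card_fixed_le (by omega) (by omega) h1 hdeg hne' q hq P ?_).trans
    (Nat.pow_le_pow_right hpf.out.pos hhr)
  rintro _ ⟨b, hb, rfl⟩
  rw [← R.law a b hb.2]
  refine congrArg φ ?_
  rw [(mem_centralizer_singleton_iff.1 hb.1).symm, mul_inv_cancel_right]

end CfsgLib.MCFusion
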