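import Cfsg.Agent.Lib.MaxClassFusion.Group
import Cfsg.Agent.Lib.RegUnip.Main

/-!
# Irreducible automizers of an abelian term

A group of automorphisms of an abelian term of exponent `p` with the conjugations as a Sylow
`p`-subgroup and without an invariant smaller term: the first two step centralizer centralizes the
term.
-/

set_option autoImplicit false
set_option linter.style.haveILetI false
set_option linter.unusedSectionVars false

open Subgroup
open scoped commutatorElement Classical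

namespace CfsgLib.MCFusion

open CfsgLib.MaxClassShift (gam gam_normal gam_anti gam_one gam_comm)
open CfsgLib.MaxClassUniform (Uniform gam_le_twoStepAt)
open CfsgLib.PGroup.MaxClassRank (twoStepAt)
open CfsgLib.MaxClassEss
open CfsgLib.RegUnip (M2 GLw Reg Irr St mem_St Gam mem_Uni mem_Dg_one eq_one_of_Dg shiftN ent ent_fin ent_mul_sub
  ent_one_shift ent_one ent_of_le isPGroup_uni gam_eq_bot)

universe u

variable {S : Type u} [Group S] [Finite S] {p n e w : ℕ} [hpf : Fact p.Prime] {x : S}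

theorem commute_of_irr (hx : Uniform x p n) (h4 : 4 ≤ n) (hp5 : 5 ≤ p)
    (hne : twoStepAt S (n - 2) = twoStepAt S 2) (he : 2 ≤ e) (hew : e + w = n) (hw : 1 ≤ w)
    (hep : n + 1 ≤ e + p) (hab : ∀ a ∈ gam S e, ∀ b ∈ gam S e, Commute a b)
    (A : Subgroup (MulAut (gam S e))) (cj : S →* MulAut (gam S e))
    (hcj : ∀ (g : S) (b : gam S e), ((cj g b : gam S e) : S) = g * (b : S) * g⁻¹) (hcA : ∀ g, cj g ∈ A)
    (hsyl : ¬ p ∣ cj.range.relIndex A)
    (hirr : ∀ k, e < k → k < n → ∃ σ ∈ A, ∃ b : gam S e, (b : S) ∈ gam S k ∧ ((σ b : gam S e) : S) ∉ gam S k) :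
    ∀ a ∈ lev S 1, ∀ b ∈ gam S e, Commute a b := by
  obtain ⟨b0, hb0, hb0'⟩ := exists_layer hx he (show e < n by omega)
  have St : Sect x p n e w (gam S e).subtype b0 := by
    refine ⟨hx, he, hew.le, hb0, hb0', Subtype.val_injective, range_subtype _, fun a a' => ?_, fun a => ?_⟩
    · rw [map_commutatorElement, show ⁅(gam S e).subtype a, (gam S e).subtype a'⁆ = 1 from
        commutatorElement_eq_one_iff_commute.2 (hab _ a.2 _ a'.2)]
      exact one_mem _
    · rw [map_pow, show ((gam S e).subtype a) ^ p = 1 from pow_eq_one_of_deep hx he hep a.2]; exact one_mem _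
  obtain ⟨wl, hwl⟩ := St.exists_lift
  obtain ⟨φ, C⟩ := St.exists_coord hwl
  have hbot : ∀ σ ∈ A, ∀ a, (gam S e).subtype a ∈ gam S (e + w) → (gam S e).subtype (σ a) ∈ gam S (e + w) := by
    intro σ _ a ha
    rw [hew, hx.gam_eq_bot le_rfl, mem_bot] at ha ⊢
    rw [show a = 1 from Subtype.ext ha, map_one, map_one]
  set Φ := St.action hwl C A hbot with hΦ
  have hΦv : ∀ σ : A, (Φ σ : M2 p w) = mat φ wl (σ : MulAut (gam S e)) := fun σ => rfl
  set ρ : S →* GLw p w := Φ.comp (cj.codRestrict A hcA) with hρ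
  have hρv : ∀ g, (ρ g : M2 p w) = mat φ wl (cj g) := fun g => rfl
  have hzero : ∀ a : gam S e, φ a = 0 ↔ (a : S) = 1 := fun a => by
    rw [C.zero, hew, hx.gam_eq_bot le_rfl, mem_bot]; exact Iff.rfl
  have hinjφ : ∀ a b : gam S e, φ a = φ b → a = b := fun a b h => by
    have h1 : φ (a * b⁻¹) = 0 := by rw [C.add, C.inv, h, add_neg_cancel]
    exact mul_inv_eq_one.1 (Subtype.ext ((hzero _).1 h1))
  have htriv : ∀ g, ρ g = 1 ↔ ∀ b ∈ gam S e, Commute g b := by
    intro g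
    constructor
    · intro h1 b hb
      have h2 : cj g ⟨b, hb⟩ = ⟨b, hb⟩ := hinjφ _ _ (by
        rw [St.apply_eq hwl C (hbot _ (hcA g)), ← hρv, h1, Units.val_one, Matrix.one_mulVec])
      have h3 : g * b * g⁻¹ = b := (hcj g ⟨b, hb⟩).symm.trans (congrArg Subtype.val h2)
      exact mul_inv_eq_iff_eq_mul.1 h3
    · intro h1
      refine Units.ext (Matrix.ext_of_mulVec_single fun i => ?_)
      rw [Units.val_one, Matrix.one_mulVec, ← C.base i, hρv, ← St.apply_eq hwl C (hbot _ (hcA g))]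
      refine congrArg φ (Subtype.ext ?_)
      rw [hcj, (h1 _ (wl i).2).eq, mul_inv_cancel_right]
  have huni : ∀ g, ρ g ∈ CfsgLib.RegUnip.Uni p w := fun g => by
    rw [mem_Uni, hρv]
    exact St.mat_deg hwl C (g := g) fun a => hcj g a
  intro a ha
  refine (htriv a).1 ?_
  rcases Nat.lt_or_ge 1 w with hw1 | hw1
  swap
  · exact eq_one_of_Dg (mem_Dg_one.2 (huni a)) hw1
  have hsub : ∀ g, ∀ i, i + 1 < w → (ent (ρ g : M2 p w) (i + 1) i = 0 ↔ g ∈ lev S 1) := fun g i hi => by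
    rw [hρv, St.subdiag_iff hwl C (fun a => hcj g a) hi, lev_one,
      twoStepAt_all hx hne (by omega) (show e + i + 2 ≤ n by omega)]
  have hshift : (ρ x : M2 p w) = 1 + shiftN (ZMod p) w := by
    rw [hρv]; exact St.mat_shift hwl C fun a => hcj x a
  have hconst : ∀ g, ∀ i, i + 1 < w → ent (ρ g : M2 p w) (i + 1) i = ent (ρ g : M2 p w) 1 0 := by
    intro g i hi
    let D : Subgroup S := CfsgLib.RegUnip.subgroupOfFinite
      {g | ent (ρ g : M2 p w) (i + 1) i = ent (ρ g : M2 p w) 1 0}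
      (by
        show ent (ρ 1 : M2 p w) (i + 1) i = ent (ρ 1 : M2 p w) 1 0
        rw [map_one, Units.val_one, ent_one hi, ent_one (by omega), if_neg (by omega), if_neg (by omega)])
      fun {a b} ha hb => by
        show ent (ρ (a * b) : M2 p w) (i + 1) i = ent (ρ (a * b) : M2 p w) 1 0
        rw [map_mul, ent_mul_sub (huni a) (huni b) i, ent_mul_sub (huni a) (huni b) 0, ha, hb]
    have hxD : x ∈ D := by
      show ent (ρ x : M2 p w) (i + 1) i = ent (ρ x : M2 p w) 1 0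
      rw [ent_one_shift hshift i hi, ent_one_shift hshift 0 (by omega)]
    obtain ⟨t, ht⟩ := exists_zpow_mem hx le_rfl (show 2 + 2 ≤ n by omega) g
    rw [← lev_one] at ht
    have hAD : (x ^ t)⁻¹ * g ∈ D := by
      show ent (ρ ((x ^ t)⁻¹ * g) : M2 p w) (i + 1) i = ent (ρ ((x ^ t)⁻¹ * g) : M2 p w) 1 0
      rw [(hsub _ i hi).2 ht, (hsub _ 0 (by omega)).2 ht]
    have := D.mul_mem (D.zpow_mem hxD t) hAD
    rwa [mul_inv_cancel_left] at this
  -- the commutation with the shift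
  have hN : ∀ g, Commute (ρ g : M2 p w) (shiftN (ZMod p) w) → ρ ⁅x, g⁆ = 1 := fun g hg => by
    rw [map_commutatorElement, commutatorElement_eq_one_iff_commute]
    refine Units.ext ?_
    rw [Units.val_mul, Units.val_mul, hshift, add_mul, mul_add, one_mul, mul_one, hg.eq]
  -- the kernel inside the first two step centralizer
  set CW : Subgroup S := lev S 1 ⊓ ρ.ker with hCW
  haveI := lev_normal hx 1
  have hcyc : ∀ g h : S, ent (ρ g : M2 p w) 1 0 = 0 → ent (ρ h : M2 p w) 1 0 = 0 →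
      Commute (ρ g : M2 p w) (shiftN (ZMod p) w) → Commute (ρ h : M2 p w) (shiftN (ZMod p) w) →
      ρ g ≠ 1 → ρ h ∈ zpowers (ρ g) := by
    intro g h hg0 hh0 hgN hhN hg1
    have hgA : g ∈ lev S 1 := (hsub g 0 (by omega)).1 hg0
    have hhA : h ∈ lev S 1 := (hsub h 0 (by omega)).1 hh0
    have hle2 : CW ≤ gam S 2 := by
      by_contra hnot
      have h2 := gam_two_le_of_inv hx h4 le_rfl (show 2 + 2 ≤ n by omega) CW
        (fun k hk => (inferInstance : CW.Normal).conj_mem k hk x) (fun k hk => lev_one (G := S) ▸ hk.1) hnot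
      obtain ⟨b, hb, hb'⟩ := SetLike.not_le_iff_exists.1 hnot
      have h3 : lev S 1 ≤ CW := by
        rw [lev_one_gen hx h4 hb.1 hb']
        exact sup_le (zpowers_le.2 hb) h2
      exact hg1 (h3 hgA).2
    obtain ⟨l, hl2, hln, hl⟩ := normal_eq_gam hx le_rfl (show 2 ≤ n by omega) hle2
    have hlev : ∀ v ∈ lev S 1, ρ ⁅x, v⁆ = 1 → v ∈ lev S (l - 1) := by
      intro v hv hv1
      have hc : ⁅x, v⁆ ∈ gam S l := hl.le ⟨lev_anti hx (show 1 ≤ 1 + 1 by omega) (comm_top_lev hx le_rfl hv), hv1⟩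
      by_contra hnv
      obtain ⟨L, hL, hLK, h1, h2⟩ : ∃ L, 1 ≤ L ∧ L < l - 1 ∧ v ∈ lev S L ∧ v ∉ gam S (L + 1) := by
        rcases Nat.lt_or_ge (l - 1) 2 with hl' | hl'
        · exact absurd (lev_anti hx (show l - 1 ≤ 1 by omega) hv) hnv
        rw [lev_eq hl'] at hnv
        by_cases hv2 : v ∈ gam S 2
        · obtain ⟨L, hL, hLK, h1, h2⟩ := exists_level hl' hv2 hnv
          exact ⟨L, by omega, hLK, by rw [lev_eq hL]; exact h1, h2⟩
        · exact ⟨1, le_rfl, by omega, hv, hv2⟩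
      exact comm_lev_succ hx h4 hL (by omega) h1 h2 (gam_anti (by omega) hc)
    have hg2 : g ∉ gam S (l - 1 + 1) := fun hm =>
      hg1 (hl.ge (show g ∈ gam S l by rwa [show l - 1 + 1 = l by omega] at hm)).2
    obtain ⟨t, ht⟩ := exists_zpow_lev hx h4 (show 1 ≤ l - 1 by omega) (show l - 1 < n by omega)
      (hlev g hgA (hN g hgN)) hg2 (hlev h hhA (hN h hhN))
    rw [show l - 1 + 1 = l by omega] at ht
    have h1 : ρ ((g ^ t)⁻¹ * h) = 1 := (hl.ge ht).2
    rw [map_mul, map_inv, map_zpow, inv_mul_eq_one] at h1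
    exact ⟨t, h1⟩
  have hR : Reg Φ.range ρ.range := by
    refine ⟨?_, ?_, ?_, ?_, ?_, ⟨ρ x, ⟨x, rfl⟩, hshift⟩, ?_⟩
    · rintro _ ⟨g, rfl⟩; exact ⟨⟨cj g, hcA g⟩, rfl⟩
    · rintro ⟨_, g, rfl⟩
      obtain ⟨k, hk⟩ := hx.isPGroup g
      exact ⟨k, Subtype.ext (by rw [SubgroupClass.coe_pow, ← map_pow, hk, map_one]; rfl)⟩
    · haveI : Finite (MulAut (gam S e)) :=
        Finite.of_injective (fun a : MulAut (gam S e) => (a : gam S e → gam S e)) DFunLike.coe_injective
      have hQ : ρ.range = (cj.range.subgroupOf A).map Φ := by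
        refine le_antisymm ?_ ?_
        · rintro _ ⟨g, rfl⟩
          exact ⟨⟨cj g, hcA g⟩, ⟨g, rfl⟩, rfl⟩
        · rintro _ ⟨⟨σ, hσ⟩, ⟨g, rfl⟩, rfl⟩
          exact ⟨g, rfl⟩
      rw [hQ, MonoidHom.range_eq_map Φ, relIndex_map_map, top_sup_eq, relIndex_top_right]
      exact fun hdv => hsyl (hdv.trans (index_dvd_of_le le_sup_left))
    · rintro _ ⟨g, rfl⟩; exact huni g
    · rintro _ ⟨g, rfl⟩ i hi; exact hconst g i hi
    · rintro _ ⟨g, rfl⟩ _ ⟨h, rfl⟩ h1 h2 h3 h4 h5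
      exact hcyc g h h1 h2 h3 h4 h5
  have hI : Irr Φ.range := by
    intro k hk hkw hle
    obtain ⟨σ, hσ, b, hb, hb'⟩ := hirr (e + k) (by omega) (by omega)
    refine hb' ?_
    have hinv : CfsgLib.RegUnip.Inv (Φ ⟨σ, hσ⟩ : M2 p w) k := mem_St.1 (hle ⟨⟨σ, hσ⟩, rfl⟩)
    have hlow : ∀ i : Fin w, (i : ℕ) < k → φ (σ b) i = 0 := by
      intro i hi
      rw [St.apply_eq hwl C (hbot σ hσ), ← hΦv ⟨σ, hσ⟩]
      simp only [Matrix.mulVec, dotProduct]
      refine Finset.sum_eq_zero fun l _ => ?_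
      rcases Nat.lt_or_ge (l : ℕ) k with hl | hl
      · rw [St.coord_low hwl C hkw.le hb hl, mul_zero]
      · rw [← ent_fin (Φ ⟨σ, hσ⟩ : M2 p w), hinv i l hi hl, zero_mul]
    have hdeep : ∀ j, j ≤ k → (gam S e).subtype (σ b) ∈ gam S (e + j) := by
      intro j hj
      induction j with
      | zero => exact (σ b).2
      | succ j ih => exact St.coord_succ hwl C (j := ⟨j, by omega⟩) (ih (by omega)) (hlow ⟨j, by omega⟩ hj)
    exact hdeep k le_rfl
  have hG : ρ a ∈ Gam ρ.range := hR.mem_Gam.2 ⟨⟨a, rfl⟩, (hsub a 0 (by omega)).2 ha⟩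
  rw [gam_eq_bot hp5 w (by omega) _ _ hR hI] at hG
  exact hG

end CfsgLib.MCFusion
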