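import Cfsg.Agent.Lib.MaxClassFusion.JBound
import Cfsg.Agent.Lib.MaxClassFusion.JRep
import Cfsg.Agent.Lib.MaxClassFusion.ExcBase

/-!
# The nonquadratic case

The elementary abelian subgroups of largest order of the first two step centralizer lie in the
essential subgroup, so the subgroup they generate is invariant under its automizer; irreducibility
of the automizer of this subgroup on a central term forces the first two step centralizer to
centralize the term.
-/

set_option autoImplicit false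
set_option linter.style.haveILetI false
set_option linter.unusedSectionVars false

open Subgroup
open scoped commutatorElement Classical

namespace CfsgLib.MCFusion

open Cfsg (FusionSystem autInducedBy)
open Cfsg.FusionSystem (normalizerIn centralizerIn)
open CfsgLib.Fusion
open CfsgLib.Fusion.MaxClassCubeSystem (sub mem_sub sub_le card_sub sub_subgroupOf)
open CfsgLib.MaxClassShift (gam gam_normal gam_anti gam_one gam_comm)
open CfsgLib.MaxClassUniform (Uniform gam_le_twoStepAt)
open CfsgLib.PGroup.MaxClassRank (twoStepAt)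
open CfsgLib.MaxClassEss
open CfsgLib.RegUnip (subgroupOfFinite)

universe u

/-- An elementary abelian subgroup of the first two step centralizer. -/
structure ElTop (p : ℕ) {G : Type u} [Group G] (B : Subgroup G) : Prop where
  le : B ≤ lev G 1
  comm : ∀ a ∈ B, ∀ b ∈ B, Commute a b
  pow : ∀ a ∈ B, a ^ p = 1

/-- An elementary abelian subgroup of largest order of the first two step centralizer. -/
def MaxTop (p : ℕ) {G : Type u} [Group G] (B : Subgroup G) : Prop :=
  ElTop p B ∧ ∀ B' : Subgroup G, ElTop p B' → Nat.card B' ≤ Nat.card B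

theorem card_mul_rel {G : Type u} [Group G] {A B : Subgroup G} (h : A ≤ B) :
    Nat.card A * A.relIndex B = Nat.card B := by
  rw [← relIndex_bot_left A, ← relIndex_bot_left B, relIndex_mul_relIndex _ _ _ bot_le h]

theorem exists_maxTop (p : ℕ) {G : Type u} [Group G] [Finite G] : ∃ B : Subgroup G, MaxTop p B := by
  haveI : Nonempty {B : Subgroup G // ElTop p B} := ⟨⟨⊥, bot_le,
    fun a ha b _ => by rw [mem_bot.1 ha]; exact Commute.one_left b,
    fun a ha => by rw [mem_bot.1 ha, one_pow]⟩⟩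
  obtain ⟨⟨B, hB⟩, hmax⟩ := Finite.exists_max fun B : {B : Subgroup G // ElTop p B} => Nat.card B.1
  exact ⟨B, hB, fun B' hB' => hmax ⟨B', hB'⟩⟩

variable {Ω : Type u} [Group Ω] {S : Subgroup Ω} [Finite S] {p n : ℕ} [hpf : Fact p.Prime]
  {F : FusionSystem S}

/-- Automorphisms of a subgroup preserve the elements of order `p` of its centre. -/
theorem autFun_mem_vec' {P : Subgroup Ω} (hP : P ≤ S) {α : MulAut P} (hα : α ∈ F.autGroup P) {v : S}
    (hv : v ∈ vec p S P) :
    (⟨autFun α (v : Ω), hP (autFun_mem α (mem_subgroupOf.1 hv.1))⟩ : S) ∈ vec p S P := by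
  have hm := (mem_autGroup_iff hP).1 hα
  have hvE := mem_subgroupOf.1 hv.1
  refine ⟨mem_subgroupOf.2 (autFun_mem α hvE), Subtype.ext ?_, fun e he => Subtype.ext ?_⟩
  · rw [SubgroupClass.coe_pow, OneMemClass.coe_one]
    show autFun α (v : Ω) ^ p = 1
    rw [autFun_apply α hvE, ← SubgroupClass.coe_pow, ← map_pow,
      show (⟨(v : Ω), hvE⟩ : P) ^ p = 1 from Subtype.ext (congrArg Subtype.val hv.2.1 :), map_one]
    rfl
  · show autFun α (v : Ω) * (e : Ω) = (e : Ω) * autFun α (v : Ω)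
    obtain ⟨e', he'⟩ := α.surjective ⟨(e : Ω), mem_subgroupOf.1 he⟩
    have h1 : autFun α (e' : Ω) = (e : Ω) := by rw [autFun_coe, he']
    rw [← h1]
    exact (hm.map_commute hvE e'.2
      (congrArg Subtype.val (hv.2.2 ⟨(e' : Ω), hP e'.2⟩ (mem_subgroupOf.2 e'.2)).eq)).eq

/-- An invariant central term of a normal subgroup, without smaller invariant term, is centralized by
the first two step centralizer. -/
theorem exists_central_term {x : S} (hx : Uniform x p n) (h5 : 5 ≤ n) (hp5 : 5 ≤ p)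
    (hne : twoStepAt S (n - 2) = twoStepAt S 2) (hF : F.IsSaturated p) {J : Subgroup S} [J.Normal]
    (hJ2 : J ≤ gam S 2) {z : S} (hz : z ∈ gam S (n - 1)) (hzJ : z ∈ J) (hz1 : z ≠ 1) :
    ∃ e, 2 ≤ e ∧ e + 1 ≤ n ∧ gam S e ≤ J ∧
      (∀ α ∈ F.autGroup (sub J), ∀ b ∈ gam S e, ∃ b' ∈ gam S e, autFun α ((b : S) : Ω) = (b' : Ω)) ∧
      ∀ a ∈ lev S 1, ∀ b ∈ gam S e, Commute a b := by
  have hp := hpf.out
  have hPS : sub J ≤ S := sub_le J
  have hPJ : (sub J).subgroupOf S = J := comap_map_eq_self_of_injective S.subtype_injective _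
  set W0 := vec p S (sub J) with hW0
  have hW0m : ∀ v, v ∈ W0 ↔ v ∈ J ∧ v ^ p = 1 ∧ ∀ e ∈ J, Commute v e := fun v => by
    rw [hW0, mem_vec, hPJ]
  haveI : W0.Normal := ⟨fun v hv g => by
    obtain ⟨h1, h2, h3⟩ := (hW0m v).1 hv
    refine (hW0m _).2 ⟨Normal.conj_mem ‹_› v h1 g, by rw [conj_pow, h2, mul_one, mul_inv_cancel], fun e he => ?_⟩
    have h4 := (h3 _ (Normal.conj_mem ‹_› e he g⁻¹)).map (MulAut.conj g).toMonoidHom
    simpa [MulAut.conj_apply, mul_assoc] using h4⟩
  obtain ⟨e0, he2, he0n, he0⟩ := normal_eq_gam hx le_rfl (show 2 ≤ n by omega)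
    (fun v hv => hJ2 ((hW0m v).1 hv).1)
  have hzW : z ∈ W0 := (hW0m z).2 ⟨hzJ, pow_eq_one_of_deep hx (show 2 ≤ n - 1 by omega) (by omega) hz,
    fun e _ => (comm_gam_central hx hz e).symm⟩
  have he0n1 : e0 + 1 ≤ n := by
    by_contra hlt
    have h1 := he0.le hzW
    rw [show e0 = n by omega, hx.gam_eq_bot le_rfl, mem_bot] at h1
    exact hz1 h1
  have he0p : n + 1 ≤ e0 + p := by
    obtain ⟨w, hw, hw'⟩ := exists_layer hx (k := e0) he2 (by omega)
    have h1 := deep_of_pow_eq_one hx (gam_anti he2 hw) ((hW0m w).1 (he0.ge hw)).2.1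
    by_contra hlt
    exact hw' (gam_anti (show e0 + 1 ≤ max 2 (n + 1 - p) by omega) h1)
  set Pinv : ℕ → Prop := fun k =>
    ∀ α ∈ F.autGroup (sub J), ∀ b ∈ gam S k, ∃ b' ∈ gam S k, autFun α ((b : S) : Ω) = (b' : Ω) with hPinv
  have hP0 : Pinv e0 := fun α hα b hb =>
    ⟨_, he0.le (autFun_mem_vec' hPS hα (he0.ge hb)), rfl⟩
  set e := Nat.findGreatest Pinv (n - 1) with he
  have hele : e0 ≤ e := Nat.le_findGreatest (by omega) hP0
  have hen : e ≤ n - 1 := Nat.findGreatest_le _
  have hPe : Pinv e := Nat.findGreatest_spec (show e0 ≤ n - 1 by omega) hP0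
  have hmax : ∀ k, e < k → k ≤ n - 1 → ¬ Pinv k := fun k h1 h2 => Nat.findGreatest_is_greatest h1 h2
  have heW : gam S e ≤ W0 := (gam_anti hele).trans he0.ge
  have heJ : gam S e ≤ J := fun v hv => ((hW0m v).1 (heW hv)).1
  refine ⟨e, by omega, by omega, heJ, hPe, ?_⟩
  have hbP : ∀ b : gam S e, ((b : S) : Ω) ∈ sub J := fun b => mem_sub.2 (heJ b.2)
  have hmul : ∀ α : F.autGroup (sub J), ∀ a b : gam S e, autFun (α : MulAut (sub J)) (((a * b : gam S e) : S) : Ω)
      = autFun (α : MulAut (sub J)) ((a : S) : Ω) * autFun (α : MulAut (sub J)) ((b : S) : Ω) := fun α a b =>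
    ((mem_autGroup_iff hPS).1 α.2).map_mul (hbP a) (hbP b)
  let act : F.autGroup (sub J) → gam S e → gam S e := fun α b =>
    ⟨_, (hPe α α.2 b b.2).choose_spec.1⟩
  have hact : ∀ (α : F.autGroup (sub J)) (b : gam S e),
      ((act α b : S) : Ω) = autFun (α : MulAut (sub J)) ((b : S) : Ω) := fun α b =>
    (hPe α α.2 b b.2).choose_spec.2.symm
  have hmulr : ∀ α β b, act (α * β) b = act α (act β b) := fun α β b =>
    Subtype.ext (Subtype.ext (by rw [hact, hact, hact, Subgroup.coe_mul, autFun_mul _ _ (hbP b)]))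
  have honer : ∀ b, act 1 b = b := fun b =>
    Subtype.ext (Subtype.ext (by rw [hact, OneMemClass.coe_one, autFun_one (hbP b)]))
  let R : F.autGroup (sub J) →* MulAut (gam S e) :=
    { toFun := fun α =>
        { toFun := act α
          invFun := act α⁻¹
          left_inv := fun b => by rw [← hmulr, inv_mul_cancel, honer]
          right_inv := fun b => by rw [← hmulr, mul_inv_cancel, honer]
          map_mul' := fun a b => Subtype.ext (Subtype.ext (by
            rw [hact, hmul, Subgroup.coe_mul, Subgroup.coe_mul, hact, hact])) }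
      map_one' := MulEquiv.ext honer
      map_mul' := fun α β => MulEquiv.ext (hmulr α β) }
  haveI := gam_normal (G := S) e
  haveI hn : ((sub J).subgroupOf S).Normal := by rw [hPJ]; infer_instance
  have hfn : F.IsFullyNormalized (sub J) := ⟨hPS, fun R' _ => by
    rw [show normalizerIn S (sub J) = S from inf_eq_left.2 ((normal_subgroupOf_iff_le_normalizer hPS).1 hn)]
    exact card_le_of_le' le_rfl inf_le_left⟩
  have hauto := ((isFullyAutomized_iff hx.isPGroup).1 (IsSaturated.automized_receptive hx.isPGroup hF hfn).1).2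
  have hnorm : ∀ g : S, (g : Ω) ∈ Subgroup.normalizer ((sub J : Subgroup Ω) : Set Ω) := fun g =>
    (normal_subgroupOf_iff_le_normalizer hPS).1 hn g.2
  set cj : S →* MulAut (gam S e) := MulAut.conjNormal with hcjdef
  have hcR : ∀ g : S, ∀ hm : conjAut (g : Ω) (hnorm g) ∈ F.autGroup (sub J),
      R ⟨conjAut (g : Ω) (hnorm g), hm⟩ = cj g := fun g hm =>
    MulEquiv.ext fun b => Subtype.ext (Subtype.ext (by
      show ((act _ b : S) : Ω) = _
      rw [hact, hcjdef, MulAut.conjNormal_apply]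
      show autFun (conjAut (g : Ω) (hnorm g)) _ = _
      rw [autFun_conjAut _ (hbP b)]
      rfl))
  have hsyl : ¬ p ∣ cj.range.relIndex R.range := by
    haveI := finite_of_le hPS
    haveI := finite_mulAut (P := sub J)
    have hQ : cj.range = ((autInducedBy S (sub J)).subgroupOf (F.autGroup (sub J))).map R := by
      refine le_antisymm ?_ ?_
      · rintro _ ⟨g, rfl⟩
        exact ⟨⟨_, autInducedBy_le_autGroup hPS (conjAut_mem g.2 (hnorm g))⟩,
          mem_subgroupOf.2 (conjAut_mem g.2 (hnorm g)), hcR g _⟩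
      · rintro _ ⟨⟨α, hα⟩, hαQ, rfl⟩
        obtain ⟨g, hg, hge⟩ := mem_autInducedBy_iff.1 (mem_subgroupOf.1 hαQ)
        refine ⟨⟨g, hg⟩, ?_⟩
        have hαe : α = conjAut g (hnorm ⟨g, hg⟩) :=
          autFun_ext fun v hv => by rw [hge v hv, autFun_conjAut _ hv]
        subst hαe
        exact (hcR ⟨g, hg⟩ hα).symm
    rw [hQ, MonoidHom.range_eq_map R, relIndex_map_map, top_sup_eq, relIndex_top_right]
    exact fun hdv => hauto (hdv.trans (index_dvd_of_le le_sup_left))
  refine commute_of_irr hx (by omega) hp5 hne (show 2 ≤ e by omega) (show e + (n - e) = n by omega)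
    (by omega) (by omega) (fun a ha b hb => ?_) R.range cj (fun g b => MulAut.conjNormal_apply g b)
    (fun g => ⟨⟨_, autInducedBy_le_autGroup hPS (conjAut_mem g.2 (hnorm g))⟩, hcR g _⟩) hsyl
    fun k hk hkn => ?_
  · exact ((hW0m a).1 (heW ha)).2.2 b (heJ hb)
  · have hnot := hmax k hk (by omega)
    simp only [hPinv] at hnot
    push Not at hnot
    obtain ⟨α, hα, b, hb, hb'⟩ := hnot
    refine ⟨R ⟨α, hα⟩, ⟨_, rfl⟩, ⟨b, gam_anti hk.le hb⟩, hb, fun hmem => hb' _ hmem ?_⟩
    exact (hact ⟨α, hα⟩ ⟨b, gam_anti hk.le hb⟩).symm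

variable {E : Subgroup Ω}

/-- No nonquadratic action in the nonexceptional case. -/
theorem Hyp.false_J (H : Hyp p n F E) (IH : Conc.{u} p (n - 1))
    (hne : twoStepAt S (n - 2) = twoStepAt S 2) {j : ℕ} (hj : 2 ≤ j) (hjn : j + 2 ≤ n)
    (hjE : gam S (j + 1) ≤ E.subgroupOf S) {u : S} (huj : u ∈ gam S j) (huE : u ∉ E.subgroupOf S)
    (hnorm : ∀ w ∈ gam S j, ∀ e ∈ E.subgroupOf S, w * e * w⁻¹ ∈ E.subgroupOf S) {v : S}
    (hv : v ∈ vec p S E) (hnq : ¬ Commute u ⁅u, v⁆) : False := by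
  obtain ⟨x, hx⟩ := H.exists_x
  have h5 := H.five
  have hp := hpf.out
  have hp5 := H.five_prime IH
  have hEA := H.inner_A' IH
  haveI := lev_normal hx 1
  haveI := gam_normal (G := S) (j + 1)
  -- the centraliser of the term
  set K : Subgroup S := lev S 1 ⊓ centralizer ((gam S (j + 1) : Subgroup S) : Set S) with hK
  have huK : u ∉ K := fun hu => by
    refine hnq ?_
    have h1 : ⁅u, v⁆ ∈ gam S (j + 1) := gam_comm (a := j) (b := 1) (by omega) le_rfl huj (mem_top v)
    exact (mem_centralizer_iff.1 hu.2 _ h1).symm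
  have huA : u ∈ lev S 1 := gam_two_le_lev_one hx (gam_anti hj huj)
  have hK2 : K ≤ gam S 2 := by
    by_contra hnot
    have h2 := gam_two_le_of_inv hx (by omega) le_rfl (show 2 + 2 ≤ n by omega) K
      (fun k hk => (inferInstance : K.Normal).conj_mem k hk x) (fun k hk => lev_one (G := S) ▸ hk.1) hnot
    exact huK (h2 (gam_anti hj huj))
  obtain ⟨l, hl2, hln, hl⟩ := normal_eq_gam hx le_rfl (show 2 ≤ n by omega) hK2
  have hjl : j + 1 ≤ l := by
    by_contra hlt
    exact huK (hl.ge (gam_anti (by omega) huj))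
  set c := max l (n + 1 - p) with hc
  have hVc : vec p S E ≤ gam S c := by
    intro w hw
    have hwK : w ∈ K := ⟨hEA hw.1, mem_centralizer_iff.2 fun g hg => (hw.2.2 g (hjE hg)).eq.symm⟩
    have h1 := hl.le hwK
    rcases le_total l (n + 1 - p) with h' | h'
    · have h2 := deep_of_pow_eq_one hx (gam_anti hl2 h1) hw.2.1
      rw [hc, max_eq_right h']
      exact gam_anti (by omega) h2
    · rw [hc, max_eq_left h']; exact h1
  have hcn : c < n := by
    by_contra hlt
    refine hnq ?_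
    have h1 := hVc hv
    rw [hx.gam_eq_bot (by omega), mem_bot] at h1
    rw [h1, commutatorElement_eq_one_iff_commute.2 (Commute.one_right u)]
    exact Commute.one_right u
  have hcent : ∀ a ∈ gam S (j + 1), ∀ b ∈ gam S c, Commute a b := fun a ha b hb =>
    mem_centralizer_iff.1 (hl.ge (gam_anti (le_max_left _ _) hb)).2 a ha
  have hab : ∀ a ∈ gam S c, ∀ b ∈ gam S c, Commute a b := fun a ha b hb =>
    hcent a (gam_anti (show j + 1 ≤ c by omega) ha) b hb
  obtain ⟨δ, hδ, hbd⟩ := jbound hx (by omega) hne (show 2 ≤ c by omega) (show c + (n - c) = n by omega)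
    (by omega) hab (show 1 ≤ j by omega) (by omega) hjn hcent
    (show u ∈ lev S j by rw [lev_eq hj]; exact huj) (hVc hv) hnq
  -- the elementary abelian subgroups of largest order
  have hmax : ∀ B : Subgroup S, MaxTop p B → B ≤ gam S (j + 1) := by
    intro B hB
    by_contra hnot
    obtain ⟨a, ha, ha'⟩ := SetLike.not_le_iff_exists.1 hnot
    set B0 := B ⊓ gam S (j + 1) with hB0
    have hYA : gam S c ≤ lev S 1 := (gam_anti (by omega)).trans (gam_two_le_lev_one hx)
    have hYp : ∀ b ∈ gam S c, b ^ p = 1 := fun b hb => pow_eq_one_of_deep hx (by omega) (by omega) hb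
    haveI := gam_normal (G := S) c
    have hEl : ElTop p (B0 ⊔ gam S c) := by
      refine ⟨sup_le (inf_le_left.trans hB.1.le) hYA, fun y hy y' hy' => ?_, fun y hy => ?_⟩
      · obtain ⟨b, hb, c1, hc1, rfl⟩ := mem_sup_of_normal_right.1 hy
        obtain ⟨b', hb', c1', hc1', rfl⟩ := mem_sup_of_normal_right.1 hy'
        exact ((hB.1.comm b hb.1 b' hb'.1).mul_right (hcent b hb.2 c1' hc1')).mul_left
          (((hcent b' hb'.2 c1 hc1).symm).mul_right (hab c1 hc1 c1' hc1'))
      · obtain ⟨b, hb, c1, hc1, rfl⟩ := mem_sup_of_normal_right.1 hy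
        rw [(hcent b hb.2 c1 hc1).mul_pow, hB.1.pow b hb.1, hYp c1 hc1, one_mul]
    have h1 := hB.2 _ hEl
    -- orders
    have hBB0 : Nat.card B ≤ Nat.card B0 * p ^ j := by
      have e1 : B0.relIndex B ≤ (gam S (j + 1)).relIndex (lev S 1) := by
        rw [hB0, inf_relIndex_left]
        exact relIndex_le_of_le_right hB.1.le index_ne_zero_of_finite
      have e2 : (gam S (j + 1)).relIndex (lev S 1) = p ^ j := by
        have := relIndex_mul_index (gam_anti (G := S) (show 2 ≤ j + 1 by omega) |>.trans (gam_two_le_lev_one hx))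
        rw [hx.index_gam (show 2 ≤ j + 1 by omega) (by omega), lev_one, index_twoStepAt hx le_rfl (by omega),
          pow_succ] at this
        rw [lev_one]
        exact Nat.eq_of_mul_eq_mul_right hp.pos this
      rw [← card_mul_rel (show B0 ≤ B from inf_le_left)]
      exact Nat.mul_le_mul_left _ (e2 ▸ e1)
    have hsup : Nat.card B0 * p ^ (n - c - δ) ≤ Nat.card (B0 ⊔ gam S c : Subgroup S) := by
      rw [← card_mul_rel (show B0 ≤ B0 ⊔ gam S c from le_sup_left)]
      refine Nat.mul_le_mul_left _ ?_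
      rw [relIndex_join_normal]
      have e1 : Nat.card (B0 ⊓ gam S c : Subgroup S) ≤ p ^ δ := by
        refine le_trans (card_le_of_le ?_) (hbd a (hB.1.le ha) ha')
        exact le_inf (fun b hb => mem_centralizer_singleton_iff.2 (hB.1.comm b hb.1.1 a ha).eq) inf_le_right
      have e2 := card_mul_rel (show B0 ⊓ gam S c ≤ gam S c from inf_le_right)
      rw [inf_relIndex_right, hx.card_gam (by omega) hcn.le] at e2
      by_contra hlt
      push Not at hlt
      have h3 : Nat.card (B0 ⊓ gam S c : Subgroup S) * B0.relIndex (gam S c) < p ^ δ * p ^ (n - c - δ) :=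
        Nat.mul_lt_mul_of_le_of_lt e1 hlt (pow_pos hp.pos δ)
      rw [e2, ← pow_add, show δ + (n - c - δ) = n - c by omega] at h3
      exact lt_irrefl _ h3
    have h2 := (hsup.trans h1).trans hBB0
    have h3 := Nat.le_of_mul_le_mul_left h2 Nat.card_pos
    rw [Nat.pow_le_pow_iff_right hp.one_lt] at h3
    omega
  set J : Subgroup S := sSup {B | MaxTop p B} with hJ
  have hJle : J ≤ gam S (j + 1) := sSup_le hmax
  haveI : J.Normal := ⟨fun w hw g => by
    suffices hle : J ≤ J.comap (MulAut.conj g).toMonoidHom from hle hw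
    refine sSup_le fun B hB => ?_
    rw [← Subgroup.map_le_iff_le_comap]
    refine le_sSup ⟨⟨?_, ?_, ?_⟩, fun B' hB' => ?_⟩
    · rintro _ ⟨b, hb, rfl⟩; exact (lev_normal hx 1).conj_mem b (hB.1.le hb) g
    · rintro _ ⟨b, hb, rfl⟩ _ ⟨b', hb', rfl⟩; exact (hB.1.comm b hb b' hb').map _
    · rintro _ ⟨b, hb, rfl⟩; rw [← map_pow, hB.1.pow b hb, map_one]
    · rw [card_map_of_injective (MulEquiv.injective _)]; exact hB.2 B' hB'⟩
  obtain ⟨z, hz, hz1⟩ := exists_layer hx (k := n - 1) (by omega) (by omega)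
  have hz1' : z ≠ 1 := fun e => hz1 (e ▸ one_mem _)
  have hzJ : z ∈ J := by
    obtain ⟨B, hB⟩ := exists_maxTop p (G := S)
    refine (le_sSup hB : B ≤ J) ?_
    have hzp : z ^ p = 1 := pow_eq_one_of_deep hx (show 2 ≤ n - 1 by omega) (by omega) hz
    have hzc : ∀ g : S, Commute z g := fun g => (comm_gam_central hx hz g).symm
    haveI : (zpowers z).Normal := ⟨fun w hw g => by
      obtain ⟨i, rfl⟩ := mem_zpowers_iff.1 hw
      rw [show g * z ^ i * g⁻¹ = z ^ i by rw [((hzc g).zpow_left i).eq.symm, mul_inv_cancel_right]]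
      exact zpow_mem (mem_zpowers z) i⟩
    have hEl : ElTop p (B ⊔ zpowers z) := by
      refine ⟨sup_le hB.1.le (zpowers_le.2 (gam_two_le_lev_one hx (gam_anti (by omega) hz))),
        fun y hy y' hy' => ?_, fun y hy => ?_⟩
      · obtain ⟨b, hb, c1, hc1, rfl⟩ := mem_sup_of_normal_right.1 hy
        obtain ⟨b', hb', c1', hc1', rfl⟩ := mem_sup_of_normal_right.1 hy'
        obtain ⟨i, rfl⟩ := mem_zpowers_iff.1 hc1
        obtain ⟨i', rfl⟩ := mem_zpowers_iff.1 hc1'
        exact ((hB.1.comm b hb b' hb').mul_right ((hzc b).zpow_left i').symm).mul_left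
          (((hzc _).zpow_left i))
      · obtain ⟨b, hb, c1, hc1, rfl⟩ := mem_sup_of_normal_right.1 hy
        obtain ⟨i, rfl⟩ := mem_zpowers_iff.1 hc1
        rw [((hzc b).zpow_left i).symm.mul_pow, hB.1.pow b hb, ← zpow_natCast (z ^ i), ← zpow_mul, mul_comm,
          zpow_mul, zpow_natCast, hzp, one_zpow, one_mul]
    exact (eq_of_le_of_card_ge le_sup_left (hB.2 _ hEl)).ge (mem_sup_right (mem_zpowers z))
  obtain ⟨e, he2, hen, heJ, hinv, hcom⟩ := exists_central_term hx h5 hp5 hne H.sat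
    (hJle.trans (gam_anti (by omega))) hz hzJ hz1'
  -- the automizer of `E` preserves the subgroup
  have hJE : sub J ≤ E := fun w hw => by
    obtain ⟨w', hw', rfl⟩ := hw
    exact mem_subgroupOf.1 (hjE (hJle hw'))
  have hJinv : ∀ α ∈ F.autGroup E, ∀ w ∈ J, ∃ w' ∈ J, autFun α ((w : S) : Ω) = (w' : Ω) := by
    intro α hα
    have hm := (mem_autGroup_iff H.le).1 hα
    let D : Subgroup S := subgroupOfFinite
      {w | w ∈ E.subgroupOf S ∧ ∃ w' ∈ J, autFun α (w : Ω) = (w' : Ω)}
      ⟨one_mem _, 1, one_mem _, by rw [OneMemClass.coe_one]; exact hm.map_one⟩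
      fun {a b} ha hb => by
        obtain ⟨a', ha', ea⟩ := ha.2
        obtain ⟨b', hb', eb⟩ := hb.2
        exact ⟨mul_mem ha.1 hb.1, a' * b', mul_mem ha' hb', by
          rw [Subgroup.coe_mul, hm.map_mul (mem_subgroupOf.1 ha.1) (mem_subgroupOf.1 hb.1), ea, eb,
            Subgroup.coe_mul]⟩
    suffices hle : J ≤ D from fun w hw => (hle hw).2
    refine sSup_le fun B hB => ?_
    have hBE : ∀ b ∈ B, (b : Ω) ∈ E := fun b hb => mem_subgroupOf.1 (hjE (hmax B hB hb))
    let f : B → S := fun b => ⟨autFun α (b : S), H.le (autFun_mem α (hBE b b.2))⟩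
    have hfm : ∀ a b : B, f (a * b) = f a * f b := fun a b =>
      Subtype.ext (hm.map_mul (hBE a a.2) (hBE b b.2))
    set B' := (MonoidHom.mk' f hfm).range with hB'
    have hmem' : MaxTop p B' := by
      refine ⟨⟨?_, ?_, ?_⟩, fun B'' hB'' => ?_⟩
      · rintro _ ⟨b, rfl⟩
        exact hEA (mem_subgroupOf.2 (autFun_mem α (hBE b b.2)))
      · rintro _ ⟨a, rfl⟩ _ ⟨b, rfl⟩
        exact (show Commute a b from Subtype.ext (hB.1.comm a a.2 b b.2).eq).map (MonoidHom.mk' f hfm)
      · rintro _ ⟨b, rfl⟩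
        rw [← map_pow, show b ^ p = 1 from Subtype.ext (hB.1.pow b b.2), map_one]
      · refine (hB.2 B'' hB'').trans (le_of_eq ?_)
        refine Nat.card_congr (MonoidHom.ofInjective (f := MonoidHom.mk' f hfm) fun a b hab => ?_).toEquiv
        exact Subtype.ext (Subtype.ext (hm.inj (hBE a a.2) (hBE b b.2) (congrArg Subtype.val hab)))
    exact fun b hb => ⟨hjE (hmax B hB hb), _,
      (le_sSup hmem' : B' ≤ J) ⟨⟨b, hb⟩, rfl⟩, rfl⟩
  have hWinv : ∀ α ∈ F.autGroup E, ∀ b ∈ gam S e, ∃ b' ∈ gam S e, autFun α ((b : S) : Ω) = (b' : Ω) := by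
    intro α hα b hb
    have hm := ((mem_autGroup_iff H.le).1 hα).mono hJE
    have himg : img (sub J) (autFun α) = sub J := by
      refine Fusion.eq_of_le_of_card_le (sub_le J) ?_ hm.card_img.ge
      rintro w hw
      obtain ⟨y, hy, rfl⟩ := hm.mem_img.1 hw
      obtain ⟨y', hy', rfl⟩ := hy
      obtain ⟨w', hw', hwe⟩ := hJinv α hα y' hy'
      exact ⟨w', hw', hwe.symm⟩
    obtain ⟨b', hb', hbe⟩ := hinv _ (autOf_mem hm himg) b hb
    rw [autFun_autOf hm himg (mem_sub.2 (heJ hb))] at hbe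
    exact ⟨b', hb', hbe⟩
  have hbE : ∀ b ∈ gam S e, (b : Ω) ∈ E := fun b hb => mem_subgroupOf.1 (hjE (hJle (heJ hb)))
  haveI := finite_of_le H.le
  haveI := finite_mulAut (P := E)
  let C : Subgroup (MulAut E) := subgroupOfFinite
    {α | α ∈ F.autGroup E ∧ ∀ b ∈ gam S e, autFun α (b : Ω) = b}
    ⟨one_mem _, fun b hb => autFun_one (hbE b hb)⟩
    fun {a b} ha hb => ⟨mul_mem ha.1 hb.1, fun w hw => by
      rw [autFun_mul _ _ (hbE w hw), hb.2 w hw, ha.2 w hw]⟩
  have hun : (u : Ω) ∈ Subgroup.normalizer (E : Set Ω) := H.mem_normalizer_iff' (hnorm u huj)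
  refine H.conjAut_notInn u.2 hun (fun hm => huE (mem_subgroupOf.2 hm))
    (H.normal_inter (K := C) (fun α hα => H.ext_of_fix IH hα.1 fun z hz =>
      hα.2 z (gam_anti (show e ≤ n - 1 by omega) hz))
      (fun γ hγ k hk => ⟨mul_mem (mul_mem hγ hk.1) (inv_mem hγ), fun b hb => ?_⟩)
      (conjAut_mem u.2 hun) ⟨autInducedBy_le_autGroup H.le (conjAut_mem u.2 hun), fun b hb => ?_⟩)
  · obtain ⟨b', hb', hbe⟩ := hWinv γ⁻¹ (inv_mem hγ) b hb
    rw [autFun_mul _ _ (hbE b hb), hbe, autFun_mul _ _ (hbE b' hb'), hk.2 b' hb', ← hbe,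
      ← autFun_mul _ _ (hbE b hb), mul_inv_cancel, autFun_one (hbE b hb)]
  · rw [autFun_conjAut _ (hbE b hb),
      show (u : Ω) * (b : Ω) = (b : Ω) * (u : Ω) from congrArg Subtype.val (hcom u huA b hb).eq,
      mul_inv_cancel_right]

end CfsgLib.MCFusion
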