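import Cfsg.Agent.Lib.MaxClassEss.Layer

/-!
# Layers of a `p`-group of maximal class below the first two step centralizer

With `lev 1` the first two step centralizer and `lev i = γ_i` for `i ≥ 2`, commutators of two
layers fall one step deeper, except possibly in the last layer; in the exceptional case this last
layer is a nondegenerate pairing.
-/

set_option autoImplicit false
set_option linter.style.haveILetI false
set_option linter.unusedSectionVars false

open Subgroup
open scoped commutatorElement Classical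

namespace CfsgLib.MCFusion

open CfsgLib.MaxClassShift (gam gam_normal gam_anti gam_one gam_comm)
open CfsgLib.MaxClassUniform (Uniform gam_le_twoStepAt uniform_of_notMem)
open CfsgLib.PGroup.MaxClassRank (twoStepAt layer_gen)
open CfsgLib.MaxClassEss

universe u

variable {G : Type u} [Group G]

/-- The layers below the first two step centralizer. -/
def lev (G : Type u) [Group G] (i : ℕ) : Subgroup G := if i ≤ 1 then twoStepAt G 2 else gam G i

theorem lev_one : lev G 1 = twoStepAt G 2 := if_pos le_rfl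

theorem lev_eq {i : ℕ} (h : 2 ≤ i) : lev G i = gam G i := if_neg (by omega)

/-- An element between two terms of the series has a level. -/
theorem exists_level {v : G} {a b : ℕ} (hab : a ≤ b) (ha : v ∈ gam G a) (hb : v ∉ gam G b) :
    ∃ L, a ≤ L ∧ L < b ∧ v ∈ gam G L ∧ v ∉ gam G (L + 1) := by
  induction hab with
  | refl => exact absurd ha hb
  | step hle ih =>
    rename_i m
    by_cases hm : v ∈ gam G m
    · exact ⟨m, hle, Nat.lt_succ_self m, hm, hb⟩
    · obtain ⟨L, h1, h2, h3⟩ := ih hm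
      exact ⟨L, h1, by omega, h3⟩

variable [Finite G] {p n : ℕ} [hpf : Fact p.Prime] {x : G} (h : Uniform x p n)
include h

theorem comm_gam_central {v : G} (hv : v ∈ gam G (n - 1)) (g : G) : g * v = v * g := by
  have h1 := gam_comm (a := 1) (b := n - 1) le_rfl (by have := h.three; omega) (mem_top g) hv
  rw [h.gam_eq_bot (by omega), mem_bot, commutatorElement_eq_one_iff_mul_comm] at h1
  exact h1

theorem gam_two_le_lev_one : gam G 2 ≤ lev G 1 := lev_one (G := G) ▸ gam_le_twoStepAt h.isPGroup (by omega)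

theorem lev_anti {i j : ℕ} (hij : i ≤ j) : lev G j ≤ lev G i := by
  by_cases hi : i ≤ 1
  · by_cases hj : j ≤ 1
    · rw [lev, lev, if_pos hi, if_pos hj]
    · rw [lev, lev, if_pos hi, if_neg hj]
      exact (gam_anti (by omega)).trans (gam_le_twoStepAt h.isPGroup (by omega))
  · rw [lev_eq (by omega), lev_eq (by omega)]
    exact gam_anti hij

theorem lev_normal (i : ℕ) : (lev G i).Normal := by
  by_cases hi : i ≤ 1
  · rw [lev, if_pos hi]; exact twoStepAt_normal h (by omega)
  · rw [lev_eq (by omega)]; exact gam_normal i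

theorem comm_top_lev {k : ℕ} (hk : 1 ≤ k) {g v : G} (hv : v ∈ lev G k) : ⁅g, v⁆ ∈ lev G (k + 1) := by
  rw [lev_eq (show 2 ≤ k + 1 by omega)]
  rcases hk.eq_or_lt with rfl | hk'
  · exact gam_comm (a := 1) (b := 1) le_rfl le_rfl (mem_top g) (mem_top v)
  · rw [lev_eq hk'] at hv
    have := gam_comm (a := 1) le_rfl hk (mem_top g) hv
    rwa [add_comm] at this

/-- An element of the first two step centralizer outside `γ₂` generates it. -/
theorem lev_one_gen (h4 : 4 ≤ n) {v : G} (hv : v ∈ lev G 1) (hv' : v ∉ gam G 2) :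
    lev G 1 = zpowers v ⊔ gam G 2 := by
  have hp := hpf.out
  haveI : (gam G 2).Normal := gam_normal 2
  have hle : zpowers v ⊔ gam G 2 ≤ lev G 1 := sup_le (zpowers_le.2 hv) (gam_two_le_lev_one h)
  refine (eq_of_le_of_card_ge hle ?_).symm
  have hlt : gam G 2 < zpowers v ⊔ gam G 2 :=
    lt_of_le_of_ne le_sup_right fun e => hv' (e.ge (mem_sup_left (mem_zpowers v)))
  have h1 := CfsgLib.MaxClassCube.mul_card_le h.isPGroup hlt
  have e := (lev G 1).card_mul_index
  rw [lev_one, index_twoStepAt h le_rfl (by omega), h.card] at e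
  rw [h.card_gam le_rfl (by omega)] at h1
  refine le_trans (le_of_eq ?_) h1
  rw [lev_one]
  refine Nat.eq_of_mul_eq_mul_right hp.pos (e.trans ?_)
  rw [mul_right_comm, ← pow_two, ← pow_add]
  congr 1; omega

theorem gam_two_le_comm (h4 : 4 ≤ n) : gam G 2 ≤ ⁅lev G 1, (⊤ : Subgroup G)⁆ := by
  haveI := lev_normal h 1
  set N := ⁅lev G 1, (⊤ : Subgroup G)⁆ with hN
  haveI : N.Normal := by rw [hN]; infer_instance
  set q := QuotientGroup.mk' N with hq
  have hcen : ∀ a ∈ lev G 1, ∀ g : G, Commute (q a) (q g) := fun a ha g => by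
    rw [← commutatorElement_eq_one_iff_commute, ← map_commutatorElement]
    exact (QuotientGroup.eq_one_iff _).2 (commutator_mem_commutator ha (mem_top g))
  rw [show gam G 2 = ⁅(⊤ : Subgroup G), ⊤⁆ from rfl, commutator_le]
  intro a _ b _
  rw [← QuotientGroup.eq_one_iff, ← QuotientGroup.mk'_apply, ← hq, map_commutatorElement,
    commutatorElement_eq_one_iff_commute]
  obtain ⟨i, hi⟩ := exists_zpow_mem h le_rfl (show 2 + 2 ≤ n by omega) a
  obtain ⟨j, hj⟩ := exists_zpow_mem h le_rfl (show 2 + 2 ≤ n by omega) b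
  rw [← lev_one] at hi hj
  rw [show a = x ^ i * ((x ^ i)⁻¹ * a) by group, show b = x ^ j * ((x ^ j)⁻¹ * b) by group,
    map_mul q (x ^ i), map_mul q (x ^ j), map_zpow, map_zpow]
  have h1 : Commute (q x ^ i) (q x ^ j) := Commute.zpow_zpow_self _ i j
  have h2 : Commute (q x ^ i) (q ((x ^ j)⁻¹ * b)) := ((hcen _ hj x).symm.zpow_left i)
  exact (h1.mul_right h2).mul_left ((hcen _ hi _).mul_right (hcen _ hi _))

theorem lev_succ_le_comm (h4 : 4 ≤ n) {i : ℕ} (hi : 1 ≤ i) :
    lev G (i + 1) ≤ ⁅lev G i, (⊤ : Subgroup G)⁆ := by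
  rw [lev_eq (show 2 ≤ i + 1 by omega)]
  rcases hi.eq_or_lt with rfl | hi'
  · exact gam_two_le_comm h h4
  · rw [lev_eq hi']
    obtain ⟨j, rfl⟩ : ∃ j, i = j + 1 := ⟨i - 1, by omega⟩
    exact le_of_eq rfl

/-- The first two step centralizers agree. -/
theorem twoStepAt_two_three (h5 : 5 ≤ n) : twoStepAt G 2 = twoStepAt G 3 := by
  refine twoStepAt_eq_of_le h le_rfl (by omega) (by omega) (by omega) fun e he => ?_
  obtain ⟨v, hv, hv'⟩ := exists_layer h (k := 2) le_rfl (by omega)
  have hw : ⁅v, x⁆ ∈ gam G 3 := gam_comm (a := 2) (b := 1) (by omega) le_rfl hv (mem_top x)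
  have hw' : ⁅v, x⁆ ∉ gam G (3 + 1) := fun hm =>
    hv' (CfsgLib.MaxClassWeight.mem_succ_of_comm h le_rfl (by omega) hv hm)
  refine mem_twoStepAt_of_gen h (by omega) (by omega) hw hw' ?_
  haveI := gam_normal (G := G) 5
  set q := QuotientGroup.mk' (gam G 5) with hq
  have hc : ∀ {a b : G}, ⁅a, b⁆ ∈ gam G 5 → Commute (q a) (q b) := fun {a b} hab => by
    rw [← commutatorElement_eq_one_iff_commute, ← map_commutatorElement]
    exact (QuotientGroup.eq_one_iff _).2 hab
  -- commutators inside `γ₂`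
  have h22 : ∀ a ∈ gam G 2, ∀ b ∈ gam G 2, ⁅a, b⁆ ∈ gam G 5 := by
    intro a ha b hb
    obtain ⟨i, hi⟩ := layer_gen h.isPGroup h.card h.three h.class_eq le_rfl (by omega) hv hv' ha
    obtain ⟨j, hj⟩ := layer_gen h.isPGroup h.card h.three h.class_eq le_rfl (by omega) hv hv' hb
    have h23 : ∀ a ∈ gam G 2, ∀ b ∈ gam G 3, Commute (q a) (q b) := fun a ha b hb =>
      hc (gam_comm (a := 2) (b := 3) (by omega) (by omega) ha hb)
    rw [← QuotientGroup.eq_one_iff, ← QuotientGroup.mk'_apply, ← hq, map_commutatorElement,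
      commutatorElement_eq_one_iff_commute, show a = v ^ i * ((v ^ i)⁻¹ * a) by group,
      show b = v ^ j * ((v ^ j)⁻¹ * b) by group, map_mul q (v ^ i), map_mul q (v ^ j)]
    have h1 : Commute (q (v ^ i)) (q (v ^ j)) := (Commute.zpow_zpow_self v i j).map q
    exact (h1.mul_right (h23 _ (zpow_mem hv i) _ hj)).mul_left
      ((h23 _ (zpow_mem hv j) _ hi).symm.mul_right (h23 _ (gam_anti (by omega) hi) _ hj))
  -- the conjugate of the generator
  set d := ⁅e, v⁆ with hd
  set c := ⁅e, x⁆ with hcdef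
  have hd4 : d ∈ gam G 4 := he v hv
  have hc2 : c ∈ gam G 2 := gam_comm (a := 1) (b := 1) le_rfl le_rfl (mem_top e) (mem_top x)
  have e1 : e * ⁅v, x⁆ * e⁻¹ = ⁅d * v, c * x⁆ := by
    simp only [hd, hcdef, commutatorElement_def]; group
  have hd5 : Commute (q d) (q x) := hc (gam_comm (a := 4) (b := 1) (by omega) le_rfl hd4 (mem_top x))
  have hdc : Commute (q d) (q c) := hc (gam_anti (show 5 ≤ 4 + 2 by omega) (gam_comm (a := 4) (b := 2) (by omega) (by omega) hd4 hc2))
  have hvc : Commute (q v) (q c) := hc (h22 v hv c hc2)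
  have hwd : Commute (q ⁅v, x⁆) (q d) := hc (gam_anti (show 5 ≤ 3 + 4 by omega) (gam_comm (a := 3) (b := 4) (by omega) (by omega) hw hd4))
  have hwc : Commute (q ⁅v, x⁆) (q c) := hc (gam_comm (a := 3) (b := 2) (by omega) (by omega) hw hc2)
  have key : q (e * ⁅v, x⁆ * e⁻¹) = q ⁅v, x⁆ := by
    rw [e1, map_commutatorElement, map_commutatorElement, map_mul, map_mul]
    rw [map_commutatorElement] at hwd hwc
    generalize q d = D, q c = C, q v = V, q x = X at hd5 hdc hvc hwd hwc
    calc ⁅D * V, C * X⁆ = D * (V * C) * (X * V⁻¹ * D⁻¹ * X⁻¹) * C⁻¹ := by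
          simp only [commutatorElement_def]; group
      _ = D * (C * V) * (X * V⁻¹ * (D⁻¹ * X⁻¹)) * C⁻¹ := by rw [hvc.eq]; group
      _ = D * C * ⁅V, X⁆ * D⁻¹ * C⁻¹ := by
          rw [(hd5.inv_left.inv_right).eq]; simp only [commutatorElement_def]; group
      _ = C * D * ⁅V, X⁆ * D⁻¹ * C⁻¹ := by rw [hdc.eq]
      _ = C * (⁅V, X⁆ * D) * D⁻¹ * C⁻¹ := by rw [hwd.eq]; group
      _ = ⁅V, X⁆ * C * C⁻¹ := by rw [hwc.eq]; group
      _ = _ := mul_inv_cancel_right _ _
  show ⁅e, ⁅v, x⁆⁆ ∈ gam G 5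
  rw [← QuotientGroup.eq_one_iff, ← QuotientGroup.mk'_apply, ← hq, commutatorElement_def, map_mul,
    key, map_inv, mul_inv_cancel]

/-- For small primes all the two step centralizers agree. -/
theorem twoStepAt_small (hp : p ≤ 3) (h5 : 5 ≤ n) :
    ∀ m, 2 ≤ m → m + 2 ≤ n → twoStepAt G m = twoStepAt G 2 := by
  intro m
  induction m using Nat.strong_induction_on with
  | _ m ih =>
    intro h2 hm
    rcases (show m = 2 ∨ m = 3 ∨ 4 ≤ m by omega) with rfl | rfl | h4
    · rfl
    · exact (twoStepAt_two_three h h5).symm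
    · have hp2 := hpf.out.two_le
      have hi := ih (m + 1 - p) (by omega) (by omega) (by omega)
      refine twoStepAt_eq_of_le h h2 hm le_rfl (by omega) fun g hg => ?_
      by_contra hg'
      have h1 := h.twoStep_periodic (i := m + 1 - p) (by omega) (by omega) (g := g) (by rwa [hi])
      rw [show m + 1 - p + p - 1 = m by omega] at h1
      exact h1 hg

/-- All but the last two step centralizer agree. -/
theorem twoStepAt_common (h5 : 5 ≤ n) {m : ℕ} (h2 : 2 ≤ m) (hm : m + 3 ≤ n) :
    twoStepAt G m = twoStepAt G 2 := by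
  rcases Nat.lt_or_ge p 5 with hp | hp
  · refine twoStepAt_small h ?_ h5 m h2 (by omega)
    rcases (show p ≤ 3 ∨ p = 4 by omega) with h3 | rfl
    · exact h3
    · exact absurd hpf.out (by norm_num)
  · exact twoStepAt_eq h hp h2 hm

/-- The exceptional case needs `p ≥ 5` and `n ≥ 6`. -/
theorem five_le_of_exc (h4 : 4 ≤ n) (hex : twoStepAt G (n - 2) ≠ twoStepAt G 2) : 5 ≤ p ∧ 6 ≤ n := by
  have hn6 : 6 ≤ n := by
    by_contra hlt
    rcases (show n = 4 ∨ n = 5 by omega) with rfl | rfl
    · exact hex rfl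
    · exact hex (twoStepAt_two_three h le_rfl).symm
  refine ⟨?_, hn6⟩
  by_contra hp
  refine hex (twoStepAt_small h ?_ (by omega) _ (by omega) (by omega))
  rcases (show p ≤ 3 ∨ p = 4 by omega) with h3 | rfl
  · exact h3
  · exact absurd hpf.out (by norm_num)

/-- An element outside both extreme two step centralizers is uniform. -/
theorem uniform_of_outside (h4 : 4 ≤ n) {g : G} (h2 : g ∉ twoStepAt G 2)
    (hl : g ∉ twoStepAt G (n - 2)) : Uniform g p n := by
  refine uniform_of_notMem h.isPGroup h.card h.three h.class_eq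
    (fun hg => h2 (gam_le_twoStepAt h.isPGroup (by omega) hg)) fun j hj2 hj hg => ?_
  rcases Nat.lt_or_ge (j + 2) n with hj' | hj'
  · rw [twoStepAt_common h (by omega) hj2 hj'] at hg
    exact h2 hg
  · exact hl (show n - 2 = j by omega ▸ hg)

/-- Commutators of layers fall one step deeper as long as the two step centralizers agree. -/
theorem comm_lev_aux (h4 : 4 ≤ n) {M : ℕ} (hall : ∀ m, 2 ≤ m → m ≤ M → twoStepAt G m = twoStepAt G 2) :
    ∀ i, 1 ≤ i → ∀ k, 1 ≤ k → i + k ≤ M + 1 → ∀ a ∈ lev G i, ∀ b ∈ lev G k,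
      ⁅a, b⁆ ∈ gam G (i + k + 1) := by
  intro i hi
  induction i, hi using Nat.le_induction with
  | base =>
    intro k hk hkM a ha b hb
    rcases hk.eq_or_lt with rfl | hk'
    · by_cases ha' : a ∈ gam G 2
      · rw [show 1 + 1 + 1 = 2 + 1 from rfl]
        exact gam_comm (by omega) le_rfl ha' (mem_top b)
      haveI := gam_normal (G := G) 3
      set q := QuotientGroup.mk' (gam G 3) with hq
      have hc : ∀ c ∈ gam G 2, ∀ g : G, Commute (q c) (q g) := fun c hc g => by
        rw [← commutatorElement_eq_one_iff_commute, ← map_commutatorElement]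
        exact (QuotientGroup.eq_one_iff _).2 (gam_comm (a := 2) (b := 1) (by omega) le_rfl hc (mem_top g))
      rw [lev_one_gen h h4 ha ha'] at hb
      obtain ⟨u, hu, c, hc', rfl⟩ := mem_sup_of_normal_right.1 hb
      obtain ⟨z, rfl⟩ := mem_zpowers_iff.1 hu
      rw [show 1 + 1 + 1 = 3 from rfl, ← QuotientGroup.eq_one_iff, ← QuotientGroup.mk'_apply, ← hq,
        map_commutatorElement, commutatorElement_eq_one_iff_commute, map_mul, map_zpow]
      exact ((Commute.refl (q a)).zpow_right z).mul_right (hc c hc' a).symm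
    · rw [lev_one] at ha
      rw [lev_eq hk'] at hb
      rw [← hall k hk' (by omega)] at ha
      rw [show 1 + k + 1 = k + 2 by omega]
      exact ha b hb
  | succ i hi ih =>
    intro k hk hkM a ha b hb
    haveI := gam_normal (G := G) (i + k + 2)
    set q := QuotientGroup.mk' (gam G (i + k + 2)) with hq
    have h1 : ⁅⁅(⊤ : Subgroup G).map q, (lev G k).map q⁆, (lev G i).map q⁆ = ⊥ := by
      rw [← map_commutator, ← map_commutator, Subgroup.map_eq_bot_iff, hq, QuotientGroup.ker_mk', commutator_le]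
      intro c hc d hd
      have hc' : c ∈ lev G (k + 1) := by
        revert hc
        refine fun hc => (commutator_le.2 ?_) hc
        exact fun g _ v hv => comm_top_lev h hk hv
      have h1 := ih (k + 1) (by omega) (by omega) d hd c hc'
      rw [← commutatorElement_inv]
      rw [show i + k + 2 = i + (k + 1) + 1 by omega]
      exact inv_mem h1
    have h2 : ⁅⁅(lev G k).map q, (lev G i).map q⁆, (⊤ : Subgroup G).map q⁆ = ⊥ := by
      rw [← map_commutator, ← map_commutator, Subgroup.map_eq_bot_iff, hq, QuotientGroup.ker_mk', commutator_le]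
      intro c hc d _
      have hc' : c ∈ gam G (i + k + 1) := by
        refine (commutator_le.2 ?_) hc
        intro v hv w hw
        rw [← commutatorElement_inv]
        exact inv_mem (ih k hk (by omega) w hw v hv)
      exact gam_comm (a := i + k + 1) (b := 1) (by omega) le_rfl hc' (mem_top d)
    have h3 := commutator_commutator_eq_bot_of_rotate h1 h2
    rw [← map_commutator, ← map_commutator, Subgroup.map_eq_bot_iff, hq, QuotientGroup.ker_mk'] at h3
    rw [show i + 1 + k + 1 = i + k + 2 by omega]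
    exact h3 (commutator_mem_commutator (lev_succ_le_comm h h4 hi ha) hb)

/-- Commutators of layers above the last one. -/
theorem comm_lev (h5 : 5 ≤ n) {i k : ℕ} (hi : 1 ≤ i) (hk : 1 ≤ k) (hik : i + k + 2 ≤ n) {a b : G}
    (ha : a ∈ lev G i) (hb : b ∈ lev G k) : ⁅a, b⁆ ∈ gam G (i + k + 1) :=
  comm_lev_aux h (by omega) (M := n - 3) (fun m h2 hm => twoStepAt_common h h5 h2 (by omega))
    i hi k hk (by omega) a ha b hb

theorem twoStepAt_all (hne : twoStepAt G (n - 2) = twoStepAt G 2) {m : ℕ} (h2 : 2 ≤ m)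
    (hm : m + 2 ≤ n) : twoStepAt G m = twoStepAt G 2 := by
  rcases Nat.lt_or_ge (m + 2) n with h' | h'
  · exact twoStepAt_common h (by omega) h2 h'
  · rw [show m = n - 2 by omega, hne]

/-- Commutators of layers in the nonexceptional case. -/
theorem comm_lev_ne (h4 : 4 ≤ n) (hne : twoStepAt G (n - 2) = twoStepAt G 2) {i k : ℕ} (hi : 1 ≤ i)
    (hk : 1 ≤ k) {a b : G} (ha : a ∈ lev G i) (hb : b ∈ lev G k) : ⁅a, b⁆ ∈ gam G (i + k + 1) := by
  have hM : ∀ m, 2 ≤ m → m ≤ n - 2 → twoStepAt G m = twoStepAt G 2 := fun m h2 hm =>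
    twoStepAt_all h hne h2 (by omega)
  rcases Nat.lt_or_ge (i + k) n with hlt | hge
  · exact comm_lev_aux h h4 hM i hi k hk (by omega) a ha b hb
  · have hz : ⁅a, b⁆ = 1 := by
      rcases Nat.lt_or_ge i 2 with hi' | hi'
      · obtain rfl : i = 1 := by omega
        have h1 := comm_lev_aux h h4 hM 1 le_rfl (n - 2) (by omega) (by omega) a ha b
          (lev_anti h (by omega) hb)
        rwa [h.gam_eq_bot (by omega), mem_bot] at h1
      · rcases Nat.lt_or_ge k (n - 1) with hk' | hk'
        · have h1 := comm_lev_aux h h4 hM (n - 1 - k) (by omega) k hk (by omega) a (lev_anti h (by omega) ha) b hb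
          rwa [h.gam_eq_bot (by omega), mem_bot] at h1
        · rw [lev_eq (by omega)] at hb
          exact commutatorElement_eq_one_iff_mul_comm.2 (comm_gam_central h (gam_anti hk' hb) a)
    rw [hz]
    exact one_mem _

theorem comm_lev_succ (h4 : 4 ≤ n) {i : ℕ} (hi : 1 ≤ i) (hin : i + 2 ≤ n) {v : G} (hv : v ∈ lev G i)
    (hv' : v ∉ gam G (i + 1)) : ⁅x, v⁆ ∉ gam G (i + 2) := by
  intro hm
  have hm' : ⁅v, x⁆ ∈ gam G (i + 2) := by
    rw [← commutatorElement_inv]; exact inv_mem hm
  rcases hi.eq_or_lt with rfl | hi'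
  · rw [lev_one] at hv
    exact hv' (mem_two_of_comm h h4 le_rfl (by omega) hv hm')
  · rw [lev_eq hi'] at hv
    exact hv' (CfsgLib.MaxClassWeight.mem_succ_of_comm h hi' hin hv hm')

/-- The last layer is a nondegenerate pairing in the exceptional case. -/
theorem exists_pair (h4 : 4 ≤ n) (hex : twoStepAt G (n - 2) ≠ twoStepAt G 2) {i : ℕ} (hi : 1 ≤ i)
    (hin : i + 2 ≤ n) {v : G} (hv : v ∈ lev G i) (hv' : v ∉ gam G (i + 1)) :
    ∃ e ∈ lev G (n - 1 - i), ⁅v, e⁆ ≠ 1 := by
  obtain ⟨-, h6⟩ := five_le_of_exc h h4 hex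
  suffices H : ∀ t i, 1 ≤ i → i + 2 + t = n → ∀ v ∈ lev G i, v ∉ gam G (i + 1) →
      ∃ e ∈ lev G (n - 1 - i), ⁅v, e⁆ ≠ 1 from H (n - (i + 2)) i hi (by omega) v hv hv'
  intro t
  induction t with
  | zero =>
    intro i hi hin v hv hv'
    by_contra hcon
    push Not at hcon
    obtain rfl : i = n - 2 := by omega
    rw [show n - 1 - (n - 2) = 1 by omega] at hcon
    rw [lev_eq (by omega)] at hv
    refine hex (twoStepAt_eq_of_le h le_rfl (by omega) (by omega) (by omega) fun e he => ?_).symm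
    refine mem_twoStepAt_of_gen h (by omega) (by omega) hv hv' ?_
    rw [← commutatorElement_inv, hcon e (lev_one (G := G) ▸ he), inv_one]
    exact one_mem _
  | succ t ih =>
    intro i hi hin v hv hv'
    by_contra hcon
    push Not at hcon
    set c := ⁅x, v⁆ with hc
    have hc1 : c ∈ lev G (i + 1) := comm_top_lev h hi hv
    have hc2 : c ∉ gam G (i + 1 + 1) := comm_lev_succ h h4 hi (by omega) hv hv'
    obtain ⟨d, hd, hne⟩ := ih (i + 1) (by omega) (by omega) c hc1 hc2
    rw [show n - 1 - (i + 1) = n - 2 - i by omega] at hd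
    set f := ⁅x, d⁆ with hf
    have hf1 : f ∈ lev G (n - 1 - i) := by
      have := comm_top_lev h (k := n - 2 - i) (g := x) (by omega) hd
      rwa [show n - 2 - i + 1 = n - 1 - i by omega] at this
    have hvd : ⁅v, d⁆ ∈ gam G (n - 1) := by
      have := comm_lev h (by omega) hi (show 1 ≤ n - 2 - i by omega) (by omega) hv hd
      rwa [show i + (n - 2 - i) + 1 = n - 1 by omega] at this
    have hcd : ⁅c, d⁆ ∈ gam G (n - 1) := by
      rw [lev_eq (show 2 ≤ i + 1 by omega)] at hc1
      rcases Nat.lt_or_ge (n - 2 - i) 2 with h' | h'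
      · exact gam_anti (by omega) (gam_comm (b := 1) (by omega) le_rfl hc1 (mem_top d))
      · rw [lev_eq h'] at hd
        exact gam_anti (by omega) (gam_comm (by omega) (by omega) hc1 hd)
    have hvf : Commute v f := commutatorElement_eq_one_iff_commute.1 (hcon f hf1)
    have hcf : Commute c f := by
      rw [lev_eq (show 2 ≤ i + 1 by omega)] at hc1
      rw [← commutatorElement_eq_one_iff_commute, ← mem_bot, ← h.gam_eq_bot le_rfl]
      rcases Nat.lt_or_ge (n - 1 - i) 2 with h' | h'
      · omega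
      · rw [lev_eq h'] at hf1
        exact gam_anti (by omega) (gam_comm (by omega) (by omega) hc1 hf1)
    refine hne ?_
    -- conjugation by the uniform element fixes the last layer
    have e0 : ⁅c * v, f * d⁆ = ⁅v, d⁆ := by
      rw [show c * v = x * v * x⁻¹ by rw [hc, commutatorElement_def]; group,
        show f * d = x * d * x⁻¹ by rw [hf, commutatorElement_def]; group,
        show ⁅x * v * x⁻¹, x * d * x⁻¹⁆ = x * ⁅v, d⁆ * x⁻¹ by simp only [commutatorElement_def]; group,
        comm_gam_central h hvd x, mul_inv_cancel_right]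
    have e1 : ⁅c * v, f * d⁆ = ⁅c, d⁆ * ⁅v, d⁆ := by
      rw [show ⁅c * v, f * d⁆ = c * ⁅v, f * d⁆ * c⁻¹ * ⁅c, f * d⁆ by simp only [commutatorElement_def]; group,
        show ⁅v, f * d⁆ = ⁅v, f⁆ * (f * ⁅v, d⁆ * f⁻¹) by simp only [commutatorElement_def]; group,
        show ⁅c, f * d⁆ = ⁅c, f⁆ * (f * ⁅c, d⁆ * f⁻¹) by simp only [commutatorElement_def]; group,
        commutatorElement_eq_one_iff_commute.2 hvf, commutatorElement_eq_one_iff_commute.2 hcf,
        one_mul, one_mul, comm_gam_central h hvd f, mul_inv_cancel_right, comm_gam_central h hvd c,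
        mul_inv_cancel_right, comm_gam_central h hcd f, mul_inv_cancel_right]
      exact comm_gam_central h hcd _
    rw [e1, mul_eq_right] at e0
    exact e0

/-- In the exceptional case the order is an even power. -/
theorem even_of_exc (h4 : 4 ≤ n) (hex : twoStepAt G (n - 2) ≠ twoStepAt G 2) : Even n := by
  obtain ⟨-, h6⟩ := five_le_of_exc h h4 hex
  by_contra hodd
  rw [Nat.not_even_iff_odd] at hodd
  obtain ⟨m, rfl⟩ := hodd
  obtain ⟨v, hv, hv'⟩ := exists_layer h (k := m) (by omega) (by omega)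
  obtain ⟨e, he, hne⟩ := exists_pair h h4 hex (show 1 ≤ m by omega) (by omega)
    (lev_eq (G := G) (show 2 ≤ m by omega) ▸ hv) hv'
  rw [show 2 * m + 1 - 1 - m = m by omega, lev_eq (show 2 ≤ m by omega)] at he
  obtain ⟨z, hz⟩ := layer_gen h.isPGroup h.card h.three h.class_eq (show 2 ≤ m by omega) (by omega) hv hv' he
  refine hne ?_
  rw [commutatorElement_eq_one_iff_commute, show e = v ^ z * ((v ^ z)⁻¹ * e) by group]
  refine ((Commute.refl v).zpow_right z).mul_right (commutatorElement_eq_one_iff_commute.1 ?_)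
  have h1 := gam_comm (show 1 ≤ m by omega) (by omega) hv hz
  rwa [h.gam_eq_bot (by omega), mem_bot] at h1

/-- A subgroup invariant under the uniform element meets `γ₂` in a term of the series. -/
theorem inf_gam_two (K : Subgroup G) (hK : ∀ k ∈ K, x * k * x⁻¹ ∈ K) :
    ∃ l, 2 ≤ l ∧ l ≤ n ∧ K ⊓ gam G 2 = gam G l := by
  have h3 := h.three
  have hex : ∃ l, 2 ≤ l ∧ gam G l ≤ K := ⟨n, by omega, by rw [h.gam_eq_bot le_rfl]; exact bot_le⟩
  set l := Nat.find hex
  obtain ⟨hl2, hlK⟩ := Nat.find_spec hex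
  have hln : l ≤ n := Nat.find_min' hex ⟨by omega, by rw [h.gam_eq_bot le_rfl]; exact bot_le⟩
  refine ⟨l, hl2, hln, le_antisymm ?_ (le_inf hlK (gam_anti hl2))⟩
  rintro v ⟨hvK, hv2⟩
  by_contra hvl
  obtain ⟨L, hL2, hLl, hvL, hvL'⟩ := exists_level hl2 hv2 hvl
  refine Nat.find_min hex hLl ⟨hL2, ?_⟩
  have hseq : ∀ j, seq x v j ∈ K := by
    intro j
    induction j with
    | zero => exact hvK
    | succ j ih =>
      rw [seq_succ, commutatorElement_def]
      exact mul_mem (hK _ ih) (inv_mem ih)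
  have h1 := gam_le_of_seq h (m := l - L) hL2 (by omega) hvL hvL' K
    (by rwa [show L + (l - L) = l by omega]) (Nat.zero_le _) (fun j _ _ => hseq j)
  simpa using h1

/-- A subgroup of a two step centralizer invariant under the uniform element and not in `γ₂`
contains `γ₂`. -/
theorem gam_two_le_of_inv (h4 : 4 ≤ n) {i : ℕ} (h2 : 2 ≤ i) (hi : i + 2 ≤ n) (K : Subgroup G)
    (hK : ∀ k ∈ K, x * k * x⁻¹ ∈ K) (hKT : K ≤ twoStepAt G i) (hK2 : ¬ K ≤ gam G 2) :
    gam G 2 ≤ K := by
  obtain ⟨l, hl2, hln, hl⟩ := inf_gam_two h K hK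
  obtain ⟨v, hvK, hv⟩ := SetLike.not_le_iff_exists.1 hK2
  set c := ⁅x, v⁆ with hc
  have hc2 : c ∈ gam G 2 := gam_comm (a := 1) (b := 1) le_rfl le_rfl (mem_top x) (mem_top v)
  have hc3 : c ∉ gam G 3 := fun hm => hv (mem_two_of_comm h h4 h2 hi (hKT hvK) (by
    rw [← commutatorElement_inv]; exact inv_mem hm))
  have hcK : c ∈ K := by rw [hc, commutatorElement_def]; exact mul_mem (hK v hvK) (inv_mem hvK)
  have hl' : l = 2 := by
    by_contra hne
    exact hc3 (gam_anti (show 3 ≤ l by omega) (hl.le ⟨hcK, hc2⟩))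
  subst hl'
  exact hl.ge.trans inf_le_left

end CfsgLib.MCFusion
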