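import Cfsg.Agent.Lib.MaxClassFusion.ZFix
import Cfsg.Agent.Lib.Fusion.System.AlperinDominated
import Cfsg.Agent.Lib.Fusion.System.EssentialFourth

/-!
# Maps between subgroups of the first two step centralizer come from its automizer
-/

set_option autoImplicit false
set_option linter.style.haveILetI false
set_option linter.unusedSectionVars false

open Subgroup
open scoped commutatorElement Classical

namespace CfsgLib.MCFusion

open Cfsg (FusionSystem autInducedBy)
open Cfsg.FusionSystem (normalizerIn centralizerIn)
open CfsgLib.Fusion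
open CfsgLib.Fusion.MaxClassCubeSystem (sub mem_sub sub_le sub_normalizer card_sub sub_subgroupOf)
open CfsgLib.MaxClassShift (gam gam_normal gam_anti gam_one gam_comm)
open CfsgLib.MaxClassUniform (Uniform gam_le_twoStepAt)
open CfsgLib.PGroup.MaxClassRank (twoStepAt)
open CfsgLib.MaxClassEss

universe u

variable {Ω : Type u} [Group Ω] {S : Subgroup Ω} [Finite S] {p n : ℕ} [hpf : Fact p.Prime]
  {F : FusionSystem S} {E : Subgroup Ω}

/-- The hypothesis of the inner induction: larger essential subgroups are known. -/
def Larger (p n : ℕ) (F : FusionSystem S) (E : Subgroup Ω) : Prop :=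
  ∀ R : Subgroup Ω, F.IsEssential p R → Nat.card E < Nat.card R →
    (R.subgroupOf S ≤ lev S 1 ∨ R.subgroupOf S ≤ twoStepAt S (n - 2)) →
    R.subgroupOf S = lev S 1 ∨ R.subgroupOf S = twoStepAt S (n - 2)

/-- The first two step centralizer and the centralizer of the second centre do not carry uniform elements. -/
theorem inner_of_no_uniform {x : S} (hx : Uniform x p n) (h4 : 4 ≤ n) (R : Subgroup S)
    (hR : ∀ g ∈ R, ¬ Uniform g p n) : R ≤ lev S 1 ∨ R ≤ twoStepAt S (n - 2) := by
  by_contra hcon
  push Not at hcon
  obtain ⟨a, ha, ha'⟩ := SetLike.not_le_iff_exists.1 hcon.1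
  obtain ⟨b, hb, hb'⟩ := SetLike.not_le_iff_exists.1 hcon.2
  rw [lev_one] at ha'
  have haC : a ∈ twoStepAt S (n - 2) := by
    by_contra h
    exact hR a ha (uniform_of_outside hx h4 ha' h)
  have hbA : b ∈ twoStepAt S 2 := by
    by_contra h
    exact hR b hb (uniform_of_outside hx h4 h hb')
  refine hR (a * b) (mul_mem ha hb) (uniform_of_outside hx h4 (fun h => ha' ?_) fun h => hb' ?_)
  · exact (Subgroup.mul_mem_cancel_right _ hbA).1 h
  · exact (Subgroup.mul_mem_cancel_left _ haC).1 h

/-- The centralizer of the second centre is not essential in the exceptional case of large order. -/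
theorem C2_not_essential {x : S} (hx : Uniform x p n) (hex : twoStepAt S (n - 2) ≠ twoStepAt S 2)
    (h7 : 7 ≤ n) (hE : F.IsEssential p (sub (twoStepAt S (n - 2)))) : False := by
  have hp := hpf.out
  haveI : Finite (sub (twoStepAt S (n - 2))) := finite_of_le (sub_le _)
  set e := (twoStepAt S (n - 2)).equivMapOfInjective S.subtype S.subtype_injective with he
  have hg2 : gam S 2 ≤ twoStepAt S (n - 2) := gam_le_twoStepAt hx.isPGroup (by omega)
  obtain ⟨hcore, hdvd⟩ := EssentialCube.autGroup_data hx.isPGroup hE
  refine EssentialFourth.no_char_chain (hx.isPGroup.to_le (sub_le _)) (F.autGroup _) hcore hdvd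
    (fun i => ((gam S (i + 1)).subgroupOf (twoStepAt S (n - 2))).map e.toMonoidHom) (n - 1) ?_ ?_ ?_
    (fun i => Subgroup.map_mono fun v hv => gam_anti (Nat.le_succ _) hv) ?_
  · show ((gam S 1).subgroupOf _).map e.toMonoidHom = ⊤
    rw [gam_one, top_subgroupOf, Subgroup.map_top_of_surjective _ e.surjective]
  · show ((gam S (n - 1 + 1)).subgroupOf _).map e.toMonoidHom = ⊥
    rw [hx.gam_eq_bot (by omega), bot_subgroupOf, Subgroup.map_bot]
  · rintro i σ _ ⟨v, hv, rfl⟩
    refine ⟨e.symm (σ (e v)), ?_, e.apply_symm_apply _⟩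
    rcases Nat.eq_zero_or_pos i with rfl | hi
    · show (e.symm (σ (e v)) : S) ∈ gam S 1
      rw [gam_one]; exact mem_top _
    · exact aut_C2_gam hx hex h7 (show 2 ≤ i + 1 by omega) (e.trans (σ.trans e.symm)) hv
  · intro i hi
    rw [card_map_of_injective e.injective, card_map_of_injective e.injective,
      Nat.card_congr (subgroupOfEquivOfLe ((gam_anti (show 2 ≤ i + 1 + 1 by omega)).trans hg2)).toEquiv,
      hx.card_gam (by omega) (show i + 1 + 1 ≤ n by omega)]
    rcases Nat.eq_zero_or_pos i with rfl | hi0
    · rw [gam_one, top_subgroupOf, card_top]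
      have e := (twoStepAt S (n - 2)).card_mul_index
      rw [index_twoStepAt hx (by omega) (by omega), hx.card] at e
      refine le_of_eq (Nat.eq_of_mul_eq_mul_right hp.pos (e.trans ?_))
      rw [← pow_succ', ← pow_succ]
      congr 1; omega
    · rw [Nat.card_congr (subgroupOfEquivOfLe ((gam_anti (show 2 ≤ i + 1 by omega)).trans hg2)).toEquiv,
        hx.card_gam (by omega) (by omega), ← pow_succ']
      exact le_of_eq (congrArg (p ^ ·) (by omega))

/-- An automorphism of `S` preserves the first two step centralizer. -/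
theorem img_lev_one {x : S} (hx : Uniform x p n) {α : MulAut S} (hα : α ∈ F.autGroup S) :
    img (sub (lev S 1)) (autFun α) = sub (lev S 1) := by
  refine img_eq_of_map_le (sub_le _) ((mem_autGroup_iff le_rfl).1 hα) (sub_le _) ?_
  rintro _ ⟨v, hv, rfl⟩
  exact ⟨α v, map_lev_mem hx α hv, (autFun_coe α v).symm⟩

/-- A map of a large subgroup of the first two step centralizer is the restriction of one of its
automorphisms. -/
theorem Hyp.lift (H : Hyp p n F E) (hL : Larger p n F E)
    (hC2 : twoStepAt S (n - 2) = twoStepAt S 2 ∨ 7 ≤ n) (h3 : p ^ 3 ≤ Nat.card E) {P : Subgroup Ω}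
    (hP : Nat.card E < Nat.card P) (hPA : P ≤ sub (lev S 1)) {f : Ω → Ω} (hf : IsMap F P f) :
    ∃ Φ ∈ F.autGroup (sub (lev S 1)), ∀ x ∈ P, autFun Φ x = f x := by
  obtain ⟨x, hx⟩ := H.exists_x
  have hp := hpf.out
  have h5 := H.five
  set A := sub (lev S 1) with hA
  have hAS : A ≤ S := sub_le _
  have hT : S ≤ normalizerIn S A := le_inf le_rfl ((normal_subgroupOf_iff_le_normalizer hAS).1 (by
    rw [hA, show (sub (lev S 1)).subgroupOf S = lev S 1 from
      comap_map_eq_self_of_injective S.subtype_injective _]
    exact lev_normal hx 1))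
  obtain ⟨-, -, k, hk, hkf, hkA⟩ := isMap_nSystem_iff.1 (isMap_of_autGroup_le_dominated H.isP H.sat
    (E := nSystem F S A hT hAS) (fun R ⟨g, hg, hgR⟩ hR α hα => by
      have hRS : R ≤ S := hR.elim (fun e => e.le) fun h => h.1.1
      have hmap := (mem_autGroup_iff hRS).1 hα
      refine (mem_autGroup_iff hRS).2 (isMap_nSystem_iff.2 ⟨hRS, fun y hy => hmap.mem_S hy, ?_⟩)
      rcases hR with rfl | hess
      · refine ⟨autFun α, hmap.mono (sup_le le_rfl hAS), fun y _ => rfl, img_lev_one hx hα⟩
      · haveI := finite_of_le hRS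
        have hRbig : Nat.card E < Nat.card R := hP.trans_le (by
          rw [← hg.card_img]
          exact card_le_of_le' hRS fun y hy => by
            obtain ⟨z, hz, rfl⟩ := hg.mem_img.1 hy
            exact hgR z hz)
        have hRA : R.subgroupOf S = lev S 1 := by
          rcases hL R hess hRbig (inner_of_no_uniform hx (by omega) _ fun g hg hu => by
            have := small_of_uniform H.isP H.card (by omega) hess hg hu
            omega) with h1 | h1
          · exact h1
          · rcases hC2 with h2 | h7
            · rw [h1, h2, lev_one]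
            · by_cases hex : twoStepAt S (n - 2) = twoStepAt S 2
              · rw [h1, hex, lev_one]
              · refine (C2_not_essential (F := F) hx hex h7 ?_).elim
                rw [← h1, sub_subgroupOf hRS]
                exact hess
        have hRA' : R = A := by rw [hA, ← hRA, sub_subgroupOf hRS]
        subst hRA'
        exact ⟨autFun α, hmap.mono (sup_le le_rfl le_rfl), fun y _ => rfl, img_autFun α⟩) hf)
  have hkm : IsMap F A k := hk.mono le_sup_right
  exact ⟨autOf hkm hkA, autOf_mem hkm hkA, fun y hy => by rw [autFun_autOf hkm hkA (hPA hy), hkf y hy]⟩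

end CfsgLib.MCFusion
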