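import Cfsg.Agent.Lib.MaxClassFusion.QuadNorm

/-!
# No quadratic action in the nonexceptional case
-/

set_option autoImplicit false
set_option linter.style.haveILetI false
set_option linter.unusedSectionVars false
attribute [-simp] ZMod.inv_coe_unit

open Subgroup
open scoped commutatorElement Classical

namespace CfsgLib.MCFusion

open Cfsg (FusionSystem)
open CfsgLib.Fusion
open CfsgLib.Fusion.MaxClassCubeSystem (sub mem_sub sub_le)
open CfsgLib.MaxClassShift (gam gam_normal gam_anti gam_one gam_comm)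
open CfsgLib.MaxClassUniform (Uniform gam_le_twoStepAt)
open CfsgLib.PGroup.MaxClassRank (twoStepAt layer_gen)
open CfsgLib.MaxClassEss
open CfsgLib.RegUnip (subgroupOfFinite)

universe u

variable {Ω : Type u} [Group Ω] {S : Subgroup Ω} [Finite S] {p n : ℕ} [hpf : Fact p.Prime]
  {F : FusionSystem S} {E : Subgroup Ω}

/-- The central elements do not fill an interval of the series. -/
theorem Hyp.not_sandwich (H : Hyp p n F E) (IH : Conc.{u} p (n - 1)) {L : ℕ} (hL : 1 ≤ L)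
    (h1 : gam S (L + 1) ≤ vec p S E) (h2 : vec p S E ≤ lev S L) : False := by
  obtain ⟨x, hx⟩ := H.exists_x
  refine H.not_normal (H.five_prime IH) ⟨fun e he s => H.cent_vec IH fun k hk => ?_⟩
  have hk' : s⁻¹ * k * s ∈ vec p S E := by
    have h3 := comm_top_lev hx hL (g := s⁻¹) (h2 hk)
    rw [lev_eq (show 2 ≤ L + 1 by omega)] at h3
    have h4 := (vec p S E).mul_mem (h1 h3) hk
    rwa [show ⁅s⁻¹, k⁆ * k = s⁻¹ * k * s by rw [commutatorElement_def]; group] at h4
  have h5 := (hk'.2.2 e he).symm.map (MulAut.conj s).toMonoidHom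
  simpa [MulAut.conj_apply, mul_assoc] using h5

/-- The exponent of an eigenvector is the exponent of its layer. -/
theorem eig_level {x : S} (hx : Uniform x p n) (h5 : 5 ≤ n) (hne : twoStepAt S (n - 2) = twoStepAt S 2)
    {Φ : MulAut S} {a b : ℤ} (W : Wts Φ x a b) {w : S} (hw : w ∈ lev S 1) (hw1 : w ≠ 1) {m : ℕ}
    (hm : Φ w = w ^ m) :
    ∃ i, 1 ≤ i ∧ i < n ∧ w ∈ lev S i ∧ w ∉ gam S (i + 1) ∧
      (m : ZMod p) = (b : ZMod p) * (a : ZMod p) ^ (i - 1) := by
  obtain ⟨i, hi, hin, hwi, hwi'⟩ := exists_lev_level hw (show 1 ≤ n by omega)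
    (by rw [lev_eq (by omega), hx.gam_eq_bot le_rfl, mem_bot]; exact hw1)
  refine ⟨i, hi, hin, hwi, hwi', ?_⟩
  have h1 := W.eigen hx (by omega) hi hin (Or.inr hne) hwi hwi' (m := (m : ℤ))
    (by rw [zpow_natCast, hm, inv_mul_cancel]; exact one_mem _)
  rwa [Int.cast_natCast] at h1

/-- The exponent of a layer on which the automorphism is quadratic. -/
theorem quad_level {x : S} (hx : Uniform x p n) (h5 : 5 ≤ n) (hne : twoStepAt S (n - 2) = twoStepAt S 2)
    {Φ : MulAut S} {a b : ℤ} (W : Wts Φ x a b) {i : ℕ} (hi : 2 ≤ i) (hin : i < n) {w : S}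
    (hw : w ∈ gam S i) (hw' : w ∉ gam S (i + 1)) {L : ℕ} (hq : Φ (Φ w * (w ^ L)⁻¹) = Φ w * (w ^ L)⁻¹) :
    ((b : ZMod p) * (a : ZMod p) ^ (i - 1) - 1) * ((b : ZMod p) * (a : ZMod p) ^ (i - 1) - L) = 0 := by
  haveI := gam_normal (G := S) (i + 1)
  set r := b * a ^ (i - 1) with hr
  set q := QuotientGroup.mk' (gam S (i + 1)) with hqdef
  have hlayer : ∀ y ∈ gam S i, q (Φ y) = q y ^ r := fun y hy => by
    have h1 := W.lev hx (by omega) (show 1 ≤ i by omega) hin (Or.inr hne) (v := y) (by rw [lev_eq hi]; exact hy)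
    rw [← map_zpow, eq_comm, ← inv_mul_eq_one, ← map_inv, ← map_mul]
    exact (QuotientGroup.eq_one_iff _).2 h1
  set y := Φ w * (w ^ L)⁻¹ with hy
  have hyi : y ∈ gam S i := mul_mem (CfsgLib.MaxClassWeight.map_gam_le (Φ : S →* S) hw) (inv_mem (pow_mem hw L))
  have e1 : q y = q w ^ (r - L) := by
    rw [hy, map_mul, map_inv, map_pow, hlayer w hw, zpow_sub, zpow_natCast]
  have h1 := hlayer y hyi
  rw [hq, e1, ← zpow_mul] at h1
  have h2 : w ^ ((r - L) * (r - 1)) ∈ gam S (i + 1) := by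
    rw [← QuotientGroup.eq_one_iff, ← QuotientGroup.mk'_apply, ← hqdef, map_zpow, mul_sub, mul_one, zpow_sub,
      ← h1, mul_inv_cancel]
  have h3 := dvd_of_zpow_mem hx (by omega) (show 1 ≤ i by omega) hin (by rw [lev_eq hi]; exact hw) hw' h2
  rw [← ZMod.intCast_zmod_eq_zero_iff_dvd, hr] at h3
  push_cast at h3
  rw [mul_comm]
  exact h3

/-- Small exponents of a generator are determined. -/
theorem pow_inj_small {l : (ZMod p)ˣ} (hl : ∀ j, 0 < j → j < p - 1 → l ^ j ≠ 1) {i j : ℕ}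
    (h : l ^ i = l ^ j) (hij : i ≤ j) (hlt : j - i < p - 1) : i = j := by
  by_contra hne
  refine hl (j - i) (by omega) hlt ?_
  rw [pow_sub _ hij, ← h, mul_inv_cancel]

/-- The order `p ^ 6`. -/
theorem Hyp.false_quad_six (H : Hyp p n F E) (IH : Conc.{u} p (n - 1))
    (hne : twoStepAt S (n - 2) = twoStepAt S 2) (hn : n = 6) {u : S} (huE : u ∉ E.subgroupOf S)
    (huA : u ∈ lev S 1) {σ : MulAut (lev S 1)} {l : (ZMod p)ˣ} (hT : Tor p n F E u σ l)
    (hW : omZ p S = gam S 3) : False := by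
  obtain ⟨x, hx⟩ := H.exists_x
  subst hn
  have hp := hpf.out
  have hp5 := H.five_prime IH
  have hcen : ∀ a ∈ lev S 1, ∀ g ∈ gam S 3, Commute a g := fun a ha g hg => ((hW.ge hg).2.2 a ha).symm
  obtain ⟨v0, hv0, hv0'⟩ := exists_notMem_succ hx (i := 1) (by omega) le_rfl (by omega)
  obtain ⟨w0, hw0, hw0'⟩ := exists_layer hx (k := 2) le_rfl (by omega)
  have hw0A : w0 ∈ lev S 1 := gam_two_le_lev_one hx hw0
  set C := ⁅v0, w0⁆ with hC
  have hC4 : C ∈ gam S 4 :=
    comm_lev_ne hx (by omega) hne (i := 1) (k := 2) le_rfl (by omega) hv0 (by rw [lev_eq le_rfl]; exact hw0)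
  haveI := gam_normal (G := S) 2
  have hform : ∀ a ∈ lev S 1, ∃ i j : ℤ, ∃ g ∈ gam S 3, a = v0 ^ i * (w0 ^ j * g) := by
    intro a ha
    rw [lev_one_gen hx (by omega) hv0 hv0'] at ha
    obtain ⟨y, hy, g, hg, rfl⟩ := mem_sup_of_normal_right.1 ha
    obtain ⟨i, rfl⟩ := mem_zpowers_iff.1 hy
    obtain ⟨j, hj⟩ := layer_gen hx.isPGroup hx.card hx.three hx.class_eq le_rfl (by omega) hw0 hw0' hg
    exact ⟨i, j, _, hj, by rw [mul_inv_cancel_left]⟩
  have hcomm : ∀ a ∈ lev S 1, ∀ b ∈ lev S 1, ∃ t : ℤ, ⁅a, b⁆ = C ^ t := by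
    intro a ha b hb
    obtain ⟨i, j, g, hg, rfl⟩ := hform a ha
    obtain ⟨i', j', g', hg', rfl⟩ := hform b hb
    refine ⟨i * j' - j * i', ?_⟩
    have cA : ∀ {y}, y ∈ lev S 1 → Commute y C := fun hy => hcen _ hy _ (gam_anti (by omega) hC4)
    have hvw : ∀ i j : ℤ, ⁅v0 ^ i, w0 ^ j⁆ = C ^ (i * j) := by
      intro i j
      have h1 : v0 ^ i * w0 * (v0 ^ i)⁻¹ = C ^ i * w0 := by
        induction i using Int.induction_on with
        | zero => simp
        | succ k ih =>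
          rw [zpow_add_one, zpow_add_one, mul_inv_rev,
            show v0 ^ (k : ℤ) * v0 * w0 * (v0⁻¹ * (v0 ^ (k : ℤ))⁻¹) = v0 ^ (k : ℤ) * (C * w0) * (v0 ^ (k : ℤ))⁻¹ by
              rw [hC, commutatorElement_def]; group,
            show v0 ^ (k : ℤ) * (C * w0) * (v0 ^ (k : ℤ))⁻¹ = v0 ^ (k : ℤ) * C * (v0 ^ (k : ℤ))⁻¹ * (v0 ^ (k : ℤ) * w0 * (v0 ^ (k : ℤ))⁻¹) by group,
            ih, (cA (zpow_mem hv0 _)).eq, mul_inv_cancel_right, ← mul_assoc, ← zpow_one_add, add_comm, zpow_add_one]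
        | pred k ih =>
          have h2 : v0⁻¹ * w0 * v0 = C⁻¹ * w0 := by
            have h3 : C⁻¹ = v0⁻¹ * C⁻¹ * v0 := by
              rw [((cA hv0).inv_inv).eq, inv_mul_cancel_right]
            rw [h3, hC, commutatorElement_def]; group
          rw [zpow_sub_one, zpow_sub_one, mul_inv_rev, inv_inv,
            show v0 ^ (-(k : ℤ)) * v0⁻¹ * w0 * (v0 * (v0 ^ (-(k : ℤ)))⁻¹) = v0 ^ (-(k : ℤ)) * (v0⁻¹ * w0 * v0) * (v0 ^ (-(k : ℤ)))⁻¹ by group,
            h2, show v0 ^ (-(k : ℤ)) * (C⁻¹ * w0) * (v0 ^ (-(k : ℤ)))⁻¹ = v0 ^ (-(k : ℤ)) * C⁻¹ * (v0 ^ (-(k : ℤ)))⁻¹ * (v0 ^ (-(k : ℤ)) * w0 * (v0 ^ (-(k : ℤ)))⁻¹) by group,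
            ih, ((cA (zpow_mem hv0 _)).inv_right).eq, mul_inv_cancel_right, ← mul_assoc,
            ((Commute.refl C).zpow_right (-(k : ℤ))).inv_left.eq]
      rw [commutatorElement_def, ← conj_zpow, h1, (((cA hw0A).zpow_right i).symm).mul_zpow, mul_inv_cancel_right,
        ← zpow_mul]
    set V := v0 ^ i with hV
    set V' := v0 ^ i' with hV'
    set W := w0 ^ j with hW'
    set W' := w0 ^ j' with hW''
    have hVA : V ∈ lev S 1 := zpow_mem hv0 i
    have hV'A : V' ∈ lev S 1 := zpow_mem hv0 i'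
    have hWA : W ∈ lev S 1 := zpow_mem hw0A j
    have hW'A : W' ∈ lev S 1 := zpow_mem hw0A j'
    have hCA : C ∈ lev S 1 := gam_two_le_lev_one hx (gam_anti (by omega) hC4)
    have e0 : ∀ {z : S}, z ∈ gam S 3 → ∀ {y}, y ∈ lev S 1 → ⁅z, y⁆ = 1 := fun hz _ hy =>
      commutatorElement_eq_one_iff_commute.2 (hcen _ hy _ hz).symm
    have e1 : ⁅V * (W * g), V' * (W' * g')⁆ = ⁅V * W, V' * W'⁆ := by
      rw [← mul_assoc V, ← mul_assoc V', commutatorElement_mul_left_eq_conj_mul,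
        e0 hg (mul_mem (mul_mem hV'A hW'A) (gam_two_le_lev_one hx (gam_anti (by omega) hg'))), mul_one,
        mul_inv_cancel, one_mul, commutatorElement_mul_right_eq_mul_conj,
        ← commutatorElement_inv g' (V * W), e0 hg' (mul_mem hVA hWA), inv_one, mul_one, mul_inv_cancel_right]
    rw [e1, commutatorElement_mul_left_eq_conj_mul, commutatorElement_mul_right_eq_mul_conj,
      commutatorElement_mul_right_eq_mul_conj, hV, hV', hW', hW'', hvw,
      commutatorElement_eq_one_iff_commute.2 (Commute.zpow_zpow_self v0 i i'),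
      ← commutatorElement_inv (v0 ^ i') (w0 ^ j), hvw,
      commutatorElement_eq_one_iff_commute.2 (Commute.zpow_zpow_self w0 j j')]
    have c1 : ∀ t : ℤ, ∀ y ∈ lev S 1, y * C ^ t * y⁻¹ = C ^ t := fun t y hy => by
      rw [((cA hy).zpow_right t).eq, mul_inv_cancel_right]
    rw [← hV, ← hV']
    simp only [one_mul, mul_one, mul_inv_cancel_right]
    rw [← zpow_neg, c1 _ _ hVA, c1 _ _ hV'A, ← zpow_add, sub_eq_add_neg, mul_comm i' j]
    exact congrArg (C ^ ·) (add_comm _ _)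
  have hC5 : C ∈ gam S 5 := by
    by_contra hne5
    obtain ⟨t, ht⟩ := hcomm (x * v0 * x⁻¹) ((lev_normal hx 1).conj_mem v0 hv0 x) (x * w0 * x⁻¹)
      ((lev_normal hx 1).conj_mem w0 hw0A x)
    have hxC : ⁅x, C⁆ = C ^ (t - 1) := by
      rw [zpow_sub_one, ← ht, hC]; simp only [commutatorElement_def]; group
    obtain ⟨h1, h2⟩ := step_level hx (by omega) (uniform_notMem hx le_rfl (by omega)) (L := 4) (by omega)
      (by omega) (Or.inr (uniform_notMem hx (by omega) (by omega))) (by rw [lev_eq (by omega)]; exact hC4) hne5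
    rw [hxC] at h1 h2
    have hdvd := dvd_of_zpow_mem hx (by omega) (show 1 ≤ 4 by omega) (by omega)
      (by rw [lev_eq (by omega)]; exact hC4) hne5 h1
    obtain ⟨q, hq⟩ := hdvd
    refine h2 ?_
    rw [hq, zpow_mul, zpow_natCast, pow_eq_one_of_deep hx (show 2 ≤ 4 by omega) (by omega) hC4, one_zpow]
    exact one_mem _
  obtain ⟨cj, hcj⟩ := exists_conjTop hx
  have D := top_data hx H.sat hcj
  have hVA : ∀ {b : S}, b ∈ vec p S E → b ∈ lev S 1 := fun hb => H.inner_A' IH hb.1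
  obtain ⟨w, hw, hwne⟩ : ∃ w ∈ vec p S E, ⁅u, w⁆ ≠ 1 := by
    by_contra hcon
    push Not at hcon
    exact huE (H.cent_vec IH fun v hv => commutatorElement_eq_one_iff_commute.1 (hcon v hv))
  have hZinv : ∀ θ : MulAut (lev S 1), ∀ b : lev S 1, (b : S) ∈ gam S 5 →
      ((θ b : lev S 1) : S) ∈ gam S 5 := by
    intro θ b hb
    obtain ⟨t, ht⟩ := hcomm u huA w (hVA hw)
    have hz : ⁅u, w⁆ ∈ gam S 5 := by rw [ht]; exact zpow_mem hC5 t
    obtain ⟨i, hi⟩ := mem_zpowers_last hx (by omega) hz hwne hb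
    rw [← app_coe, hi, app_zpow (gam_two_le_lev_one hx (gam_anti (by omega) hz)), app_comm huA (hVA hw)]
    obtain ⟨t', ht'⟩ := hcomm _ (app_mem huA) _ (app_mem (hVA hw))
    rw [ht']
    exact zpow_mem (zpow_mem hC5 t') i
  have htriv : ∀ b : lev S 1, (b : S) ∈ gam S 3 → ((σ b : lev S 1) : S) * (b : S)⁻¹ ∈ gam S 5 := by
    intro b hb
    obtain ⟨v, hv, hve⟩ := hT.near b (H.omZ_le_vec IH (hW.ge hb)) (hcen u huA _ hb)
    rw [← app_coe, hve]
    obtain ⟨t, ht⟩ := hcomm u huA v (hVA hv)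
    rw [ht]; exact zpow_mem hC5 t
  obtain ⟨k, hk⟩ := D.pow_eq_one hx (by omega)
    ⟨⟨u, huA⟩, ⟨w, hVA hw⟩, fun h => hwne (commutatorElement_eq_one_iff_mul_comm.2 (congrArg Subtype.val h))⟩
    (U := gam S 3) (W := gam S 5) (i := 3) (by omega) (by omega) (Or.inr hne) le_rfl le_rfl
    (fun θ _ b hb => by rw [← app_coe]; exact hW.le (omZ_app (hW.ge hb)))
    (fun θ _ b hb => hZinv θ b hb) hT.mem htriv
  set c0 := ⁅u, w⁆ with hc0
  have hc0A : c0 ∈ lev S 1 := by
    obtain ⟨t, ht⟩ := hcomm u huA w (hVA hw)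
    rw [hc0, ht]; exact zpow_mem (gam_two_le_lev_one hx (gam_anti (by omega) hC4)) t
  have hpowc : ∀ i : ℕ, app (σ ^ i) c0 = c0 ^ ((l : ZMod p).val ^ i) := by
    intro i
    induction i with
    | zero => simp [app_one_apply hc0A]
    | succ i ih => rw [pow_succ', app_mul _ _ hc0A, ih, app_pow hc0A, hT.comm w hw, ← pow_mul, pow_succ']
  have h1 := hpowc (p ^ k)
  rw [hk, app_one_apply hc0A] at h1
  have hc0p : c0 ^ p = 1 := by
    obtain ⟨t, ht⟩ := hcomm u huA w (hVA hw)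
    rw [hc0, ht, ← zpow_natCast, ← zpow_mul, mul_comm, zpow_mul, zpow_natCast,
      pow_eq_one_of_deep hx (show 2 ≤ 4 by omega) (by omega) hC4, one_zpow]
  conv_lhs at h1 => rw [← pow_one c0]
  rw [pow_eq_pow_iff_modEq, orderOf_eq_prime hc0p hwne, ← ZMod.natCast_eq_natCast_iff, Nat.cast_one,
    Nat.cast_pow, ZMod.natCast_zmod_val, ZMod.pow_card_pow] at h1
  exact hT.prim 1 one_pos (by omega) (Units.ext (by rw [pow_one, Units.val_one, ← h1]))

/-- No quadratic action in the nonexceptional case. -/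
theorem Hyp.false_quad (H : Hyp p n F E) (IH : Conc.{u} p (n - 1)) (hL : Larger p n F E)
    (hne : twoStepAt S (n - 2) = twoStepAt S 2) {u : S}
    (hu : ∀ e ∈ E.subgroupOf S, u * e * u⁻¹ ∈ E.subgroupOf S) (huE : u ∉ E.subgroupOf S)
    (hq : ∀ v ∈ vec p S E, Commute u ⁅u, v⁆) : False := by
  obtain ⟨x, hx⟩ := H.exists_x
  have h5 := H.five
  have hp := hpf.out
  have hp5 := H.five_prime IH
  have huA := H.norm_le IH hu
  have hVA : ∀ {b : S}, b ∈ vec p S E → b ∈ lev S 1 := fun hb => H.inner_A' IH hb.1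
  obtain ⟨σ, l, hT⟩ := H.exists_tor IH hL hne hu huE hq
  obtain ⟨c, hc3, hcn, hcp, hW⟩ := H.omZ_eq IH hne
  have hWV : gam S c ≤ vec p S E := hW.ge.trans (H.omZ_le_vec IH)
  by_cases hsmall : p = 5 ∧ c + 3 ≤ n
  · obtain ⟨rfl, hc⟩ := hsmall
    rcases (show (n = 6 ∧ c = 3) ∨ 7 ≤ n by omega) with ⟨hn, rfl⟩ | h7
    · exact H.false_quad_six IH hne hn huE huA hT hW
    · refine H.not_sandwich IH (L := n - 4) (by omega)
        ((gam_anti (show c ≤ n - 4 + 1 by omega)).trans hWV) fun v hv => ?_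
      rw [lev_eq (show 2 ≤ n - 4 by omega), show n - 4 = n + 1 - 5 by omega]
      exact omega_deep hx (by omega) (hVA hv) hv.2.1
  set d := n - c with hd
  obtain ⟨φ, hφ, Φ, hΦ, hz⟩ := H.exists_norm IH hne hx huA hT hc3 (show c + d = n by omega) (by omega) hcp hW
    (by
      rcases (show p = 5 ∨ p = 6 ∨ 7 ≤ p by omega) with h | rfl | h
      · exact Or.inl (by omega)
      · exact absurd hp (by norm_num)
      · exact Or.inr h)
  set ψ := φ * σ * φ⁻¹ with hψ
  obtain ⟨a, b, W⟩ := exists_wts hx (by omega) Φ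
  have hΦψ : ∀ {w : S}, w ∈ lev S 1 → Φ w = app ψ w := fun {w} hw => by
    rw [app_apply ψ hw]; exact hΦ ⟨w, hw⟩
  have htrans : ∀ {v : S}, v ∈ lev S 1 → app ψ (app φ v) = app φ (app σ v) := fun {v} hv => by
    rw [← app_mul _ _ hv, ← app_mul _ _ hv, hψ, inv_mul_cancel_right]
  have hφne : ∀ {v : S}, v ∈ lev S 1 → v ≠ 1 → app φ v ≠ 1 := fun {v} hv hv1 h1 =>
    hv1 (app_inj hv (one_mem _) (h1.trans app_one.symm))
  set lam : ZMod p := (l : ZMod p) with hlam
  set mu : ZMod p := ((l⁻¹ : (ZMod p)ˣ) : ZMod p) with hmu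
  have hlm : lam * mu = 1 := by rw [hlam, hmu, ← Units.val_mul, mul_inv_cancel, Units.val_one]
  have heig : ∀ v ∈ vec p S E, v ≠ 1 → ∀ m : ZMod p, app σ v = v ^ m.val →
      ∃ i, 1 ≤ i ∧ i < n ∧ app φ v ∈ lev S i ∧ app φ v ∉ gam S (i + 1) ∧
        m = (b : ZMod p) * (a : ZMod p) ^ (i - 1) := by
    intro v hv hv1 m hm
    have h1 : Φ (app φ v) = app φ v ^ m.val := by
      rw [hΦψ (app_mem (hVA hv)), htrans (hVA hv), hm, app_pow (hVA hv)]
    obtain ⟨i, h1, h2, h3, h4, h5⟩ := eig_level hx h5 hne W (app_mem (hVA hv)) (hφne (hVA hv) hv1) h1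
    exact ⟨i, h1, h2, h3, h4, by rw [← h5, ZMod.natCast_zmod_val]⟩
  have hcV : ∀ {v : S}, v ∈ vec p S E → ⁅u, v⁆ ∈ vec p S E := by
    intro v hv
    refine (vec p S E).mul_mem (x := u * v * u⁻¹) ⟨hu v hv.1, ?_, fun e he => ?_⟩ ((vec p S E).inv_mem hv)
    · rw [conj_pow, hv.2.1, mul_one, mul_inv_cancel]
    · have he' : u⁻¹ * e * u ∈ E.subgroupOf S := by
        have hn : u⁻¹ ∈ normalizer ((E.subgroupOf S : Subgroup S) : Set S) := inv_mem (mem_normalizer_fintype hu)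
        have := (mem_normalizer_iff.1 hn e).1 he
        rwa [inv_inv] at this
      have h2 := (hv.2.2 _ he').map (MulAut.conj u).toMonoidHom
      simpa [MulAut.conj_apply, mul_assoc] using h2
  obtain ⟨v0, hv0, hc0⟩ : ∃ v ∈ vec p S E, ⁅u, v⁆ ≠ 1 := by
    by_contra hcon
    push Not at hcon
    exact huE (H.cent_vec IH fun v hv => commutatorElement_eq_one_iff_commute.1 (hcon v hv))
  obtain ⟨v1, hv1, hv1ne, hv1e⟩ := hT.inv
  have hl2 : lam * lam ≠ 1 := fun h => hT.prim 2 two_pos (by omega)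
    (Units.ext (by rw [sq, Units.val_mul, Units.val_one]; exact h))
  -- a trivial weight is impossible
  have ha1 : (a : ZMod p) ≠ 1 := by
    intro ha
    obtain ⟨i, -, -, -, -, h1⟩ := heig _ (hcV hv0) hc0 lam (hT.comm v0 hv0)
    obtain ⟨i', -, -, -, -, h2⟩ := heig v1 hv1 hv1ne mu hv1e
    rw [ha, one_pow] at h1 h2
    exact hl2 (by rw [show lam * lam = lam * mu by rw [h2, ← h1], hlm])
  have hquad : ∀ i, c ≤ i → i < n →
      ((b : ZMod p) * (a : ZMod p) ^ (i - 1) - 1) * ((b : ZMod p) * (a : ZMod p) ^ (i - 1) - lam) = 0 := by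
    intro i hci hin
    obtain ⟨w, hw, hw'⟩ := exists_layer hx (k := i) (by omega) hin
    have hwA : w ∈ lev S 1 := gam_two_le_lev_one hx (gam_anti (show 2 ≤ i by omega) hw)
    set w0 := app φ⁻¹ w with hw0
    have hw0A : w0 ∈ lev S 1 := app_mem hwA
    have hw0Z : w0 ∈ omZ p S := omZ_app (hW.ge (gam_anti hci hw))
    have h1 := congrArg (app φ) (hT.quad w0 (H.omZ_le_vec IH hw0Z) (hw0Z.2.2 u huA).symm)
    have hbA : app σ w0 * (w0 ^ lam.val)⁻¹ ∈ lev S 1 := mul_mem (app_mem hw0A) (inv_mem (pow_mem hw0A _))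
    have e1 : app φ (app σ w0 * (w0 ^ lam.val)⁻¹) = Φ w * (w ^ lam.val)⁻¹ := by
      rw [app_map_mul (app_mem hw0A) (inv_mem (pow_mem hw0A _)), app_inv (pow_mem hw0A _), app_pow hw0A,
        ← htrans hw0A, hw0, app_inv_apply φ hwA, ← hΦψ hwA]
    rw [← htrans hbA, e1, ← hΦψ (e1 ▸ app_mem hbA)] at h1
    have h2 := quad_level hx h5 hne W (show 2 ≤ i by omega) hin hw hw' (L := lam.val) h1
    rwa [ZMod.natCast_zmod_val] at h2
  obtain ⟨z0, hz0, hz0'⟩ := exists_layer hx (k := n - 1) (by omega) (by omega)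
  rcases (show d = 2 ∨ 3 ≤ d by omega) with hd2 | hd3
  swap
  · -- three layers
    have hA : ∀ i, c ≤ i → i < n →
        (b : ZMod p) * (a : ZMod p) ^ (i - 1) = 1 ∨ (b : ZMod p) * (a : ZMod p) ^ (i - 1) = lam :=
      fun i h1 h2 => (mul_eq_zero.1 (hquad i h1 h2)).imp sub_eq_zero.1 sub_eq_zero.1
    set m0 := (b : ZMod p) * (a : ZMod p) ^ (n - 3 - 1) with hm0
    have e1 : (b : ZMod p) * (a : ZMod p) ^ (n - 2 - 1) = m0 * a := by
      rw [hm0, show n - 2 - 1 = n - 3 - 1 + 1 by omega, pow_succ, mul_assoc]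
    have e2 : (b : ZMod p) * (a : ZMod p) ^ (n - 1 - 1) = m0 * a * a := by
      rw [hm0, show n - 1 - 1 = n - 3 - 1 + 1 + 1 by omega, pow_succ, pow_succ, mul_assoc, mul_assoc, mul_assoc]
    have h0 := hA (n - 3) (by omega) (by omega)
    rw [← hm0] at h0
    have h1 := hA (n - 2) (by omega) (by omega)
    have h2 := hA (n - 1) (by omega) (by omega)
    rw [e1] at h1
    rw [e2] at h2
    have hl0 : lam ≠ 0 := Units.ne_zero l
    rcases h0 with h0 | h0 <;> rcases h1 with h1 | h1 <;> rw [h1] at h2 <;> rw [h0] at h1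
    · exact ha1 (by rwa [one_mul] at h1)
    · rw [one_mul] at h1
      rw [h1] at h2
      rcases h2 with h2 | h2
      · exact hl2 h2
      · exact ha1 (by rw [h1]; exact (mul_eq_left₀ hl0).1 h2)
    · rw [one_mul] at h2
      rcases h2 with h2 | h2
      · exact ha1 h2
      · rw [h2] at h1; exact hl2 h1
    · exact ha1 ((mul_eq_left₀ hl0).1 h1)
  -- two layers
  have hz0ne : z0 ≠ 1 := fun e => hz0' (e ▸ one_mem _)
  have hz0A : z0 ∈ lev S 1 := gam_two_le_lev_one hx (gam_anti (by omega) hz0)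
  have hbz : (b : ZMod p) * (a : ZMod p) ^ (n - 2) = lam := by
    have h1 : Φ z0 = z0 ^ lam.val := by rw [hΦψ hz0A]; exact hz hd2 z0 hz0
    have h2 := W.eigen hx (by omega) (show 1 ≤ n - 1 by omega) (by omega) (Or.inr hne)
      (by rw [lev_eq (by omega)]; exact hz0) (by rwa [show n - 1 + 1 = n by omega] at hz0' ⊢)
      (m := (lam.val : ℤ)) (by rw [zpow_natCast, h1, inv_mul_cancel]; exact one_mem _)
    rw [Int.cast_natCast, ZMod.natCast_zmod_val, show n - 1 - 1 = n - 2 by omega] at h2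
    exact h2.symm
  have hal : (a : ZMod p) = lam := by
    have h1 := hquad (n - 2) (by omega) (by omega)
    set r := (b : ZMod p) * (a : ZMod p) ^ (n - 2 - 1) with hr
    have hra : r * a = lam := by rw [hr, mul_assoc, ← pow_succ, show n - 2 - 1 + 1 = n - 2 by omega, hbz]
    rcases mul_eq_zero.1 h1 with h2 | h2 <;> rw [sub_eq_zero.1 h2] at hra
    · rwa [one_mul] at hra
    · exact absurd ((mul_eq_left₀ (Units.ne_zero l)).1 hra) ha1
  have hlev : ∀ {v : S} {m : ZMod p} {i : ℕ}, 1 ≤ i → i < n →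
      m = (b : ZMod p) * (a : ZMod p) ^ (i - 1) → m * lam ^ (n - 1 - i) = lam := by
    intro v m i hi hin hm
    rw [hm, hal, mul_assoc, ← pow_add, show i - 1 + (n - 1 - i) = n - 2 by omega, ← hal]
    rw [hal]
    rw [hal] at hbz
    exact hbz
  have hk : ∀ {v : S}, v ∈ vec p S E → ∀ {i : ℕ}, 1 ≤ i → app φ v ∈ lev S i → app φ v ∉ gam S (i + 1) →
      n - 1 - i ≤ p - 1 ∧ (app φ v ∈ gam S 2 → n - 1 - i ≤ p - 2) := by
    intro v hv i hi hwi hwi'
    rcases Nat.lt_or_ge n (p + 2) with hnp | hnp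
    · refine ⟨by omega, fun h2 => ?_⟩
      have : 2 ≤ i := by
        by_contra hlt
        exact hwi' (by rw [show i + 1 = 2 by omega]; exact h2)
      omega
    · have h3 : app φ v ∈ gam S (n + 1 - p) :=
        omega_deep hx hnp (app_mem (hVA hv)) (by rw [← app_pow (hVA hv), hv.2.1, app_one])
      have : n + 1 - p ≤ i := by
        by_contra hlt
        exact hwi' (gam_anti (by omega) h3)
      exact ⟨by omega, fun _ => by omega⟩
  have hu' : ∀ {i j : ℕ}, lam ^ i = lam ^ j → i ≤ j → j - i < p - 1 → i = j := fun {i j} h h1 h2 =>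
    pow_inj_small hT.prim (Units.ext (by rw [Units.val_pow_eq_pow_val, Units.val_pow_eq_pow_val]; exact h)) h1 h2
  -- the image of the central elements
  let D : Subgroup S := subgroupOfFinite {v | v ∈ lev S 1 ∧ app φ v ∈ gam S (n - 3)}
    ⟨one_mem _, by rw [app_one]; exact one_mem _⟩
    fun {y z} hy hz => ⟨mul_mem hy.1 hz.1, by rw [app_map_mul hy.1 hz.1]; exact mul_mem hy.2 hz.2⟩
  have hDV : vec p S E ≤ D := by
    refine hT.span D (fun v hv hve => ?_) (fun v hv hve => ?_) fun w hw => ?_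
    · rcases eq_or_ne v 1 with rfl | hv1'
      · exact one_mem D
      obtain ⟨i, hi, hin, hwi, hwi', hm⟩ := heig v hv hv1' 1 (by rw [ZMod.val_one, pow_one, hve])
      have h1 := hlev (v := v) hi hin hm
      rw [one_mul] at h1
      have hb' := (hk hv hi hwi hwi').1
      rcases Nat.eq_zero_or_pos (n - 1 - i) with h0 | h0
      · rw [h0, pow_zero] at h1
        exact absurd (Units.ext (by rw [pow_one, Units.val_one, ← hlam, ← h1])) (hT.prim 1 one_pos (by omega))
      have h2 := hu' (i := 1) (j := n - 1 - i) (by rw [pow_one, h1]) (by omega) (by omega)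
      refine ⟨hVA hv, ?_⟩
      rw [lev_eq (show 2 ≤ i by omega)] at hwi
      exact gam_anti (show n - 3 ≤ i by omega) hwi
    · rcases eq_or_ne v 1 with rfl | hv1'
      · exact one_mem D
      obtain ⟨i, hi, hin, hwi, hwi', hm⟩ := heig v hv hv1' mu hve
      have h1 := hlev (v := v) hi hin hm
      have h1' : lam ^ (n - 1 - i) = lam ^ 2 := by
        calc lam ^ (n - 1 - i) = lam * (mu * lam ^ (n - 1 - i)) := by rw [← mul_assoc, hlm, one_mul]
          _ = lam ^ 2 := by rw [h1, sq]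
      have hb' := (hk hv hi hwi hwi').1
      refine ⟨hVA hv, ?_⟩
      rcases Nat.lt_or_ge (n - 1 - i) 2 with h0 | h0
      · have := hu' h1' (by omega) (by omega)
        omega
      have h2 := hu' h1'.symm h0 (by omega)
      rw [lev_eq (show 2 ≤ i by omega)] at hwi
      exact gam_anti (show n - 3 ≤ i by omega) hwi
    · rcases eq_or_ne ⁅u, w⁆ 1 with h0 | hc1
      · rw [h0]; exact one_mem D
      obtain ⟨i, hi, hin, hwi, hwi', hm⟩ := heig _ (hcV hw) hc1 lam (hT.comm w hw)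
      have h1 := hlev (v := w) hi hin hm
      have h1' : lam ^ (n - 1 - i) = 1 := (mul_eq_left₀ (Units.ne_zero l)).1 h1
      have h2' : app φ ⁅u, w⁆ ∈ gam S 2 := by
        rw [app_comm huA (hVA hw)]
        exact gam_comm (a := 1) (b := 1) le_rfl le_rfl (mem_top _) (mem_top _)
      have hb' := (hk (hcV hw) hi hwi hwi').2 h2'
      have h2 := hu' (i := 0) (j := n - 1 - i) (by rw [pow_zero, h1']) (by omega) (by omega)
      refine ⟨hVA (hcV hw), ?_⟩
      rw [lev_eq (show 2 ≤ i by omega)] at hwi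
      exact gam_anti (show n - 3 ≤ i by omega) hwi
  -- the level of the inverse eigenvector
  obtain ⟨i1, hi1, hin1, hwi1, hwi1', hm1⟩ := heig v1 hv1 hv1ne mu hv1e
  have hi1eq : i1 = n - 3 := by
    have h1 := hlev (v := v1) hi1 hin1 hm1
    have h1' : lam ^ (n - 1 - i1) = lam ^ 2 := by
      calc lam ^ (n - 1 - i1) = lam * (mu * lam ^ (n - 1 - i1)) := by rw [← mul_assoc, hlm, one_mul]
        _ = lam ^ 2 := by rw [h1, sq]
    have hb' := (hk hv1 hi1 hwi1 hwi1').1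
    rcases Nat.lt_or_ge (n - 1 - i1) 2 with h0 | h0
    · have := hu' h1' (by omega) (by omega)
      omega
    have := hu' h1'.symm h0 (by omega)
    omega
  subst hi1eq
  let W1 : Subgroup S := subgroupOfFinite {y | ∃ v ∈ vec p S E, app φ v = y}
    ⟨1, one_mem _, app_one⟩
    fun {y z} ⟨v, hv, hy⟩ ⟨v', hv', hz⟩ => ⟨v * v', mul_mem hv hv', by
      rw [app_map_mul (hVA hv) (hVA hv'), hy, hz]⟩
  have h3W : gam S (n - 3) ≤ W1 := by
    refine gam_le_of_mem hx (L := n - 3) (by omega) (by omega) ?_ hwi1' ⟨v1, hv1, rfl⟩ ?_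
    · rwa [lev_eq (show 2 ≤ n - 3 by omega)] at hwi1
    · intro y hy
      rw [show n - 3 + 1 = c by omega] at hy
      refine ⟨app φ⁻¹ y, H.omZ_le_vec IH (omZ_app (hW.ge hy)), ?_⟩
      rw [app_inv_apply φ (gam_two_le_lev_one hx (gam_anti (by omega) hy))]
  -- the image of the subgroup is normal
  set Φ0 := MulAut.congr (topEquiv S) φ with hΦ0
  have hΦ0X : Φ0 ∈ F.autGroup (sub (lev S 1)) := hφ
  have hEle : E ≤ sub (lev S 1) := fun e he =>
    mem_sub.2 (H.inner_A' IH (mem_subgroupOf.2 he) : (⟨e, H.le he⟩ : S) ∈ lev S 1)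
  have hf := ((mem_autGroup_iff (sub_le _)).1 hΦ0X).mono hEle
  refine H.conj_not_normal hp5 hf ?_
  have happ : ∀ e ∈ E.subgroupOf S, ((app φ e : S) : Ω) = autFun Φ0 (e : Ω) := fun e he => by
    rw [app_apply φ (H.inner_A' IH he)]
    exact (autFun_congr φ ⟨e, H.inner_A' IH he⟩).symm
  have key : ∀ g : S, g ∈ (img E (autFun Φ0)).subgroupOf S ↔
      (g ∈ lev S 1 ∧ ∀ y ∈ gam S (n - 3), Commute g y) := by
    intro g
    rw [mem_subgroupOf, hf.mem_img]
    constructor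
    · rintro ⟨e, he, hge⟩
      set e' : S := ⟨e, H.le he⟩ with he'
      have heE : e' ∈ E.subgroupOf S := mem_subgroupOf.2 he
      have hge' : app φ e' = g := Subtype.ext ((happ e' heE).trans hge)
      refine ⟨hge' ▸ app_mem (H.inner_A' IH heE), fun y hy => ?_⟩
      obtain ⟨v, hv, rfl⟩ := h3W hy
      rw [← hge']
      have h1 := congrArg (app φ) (hv.2.2 e' heE).eq.symm
      rwa [app_map_mul (H.inner_A' IH heE) (hVA hv), app_map_mul (hVA hv) (H.inner_A' IH heE)] at h1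
    · rintro ⟨hgA, hg⟩
      have hg' : app φ⁻¹ g ∈ E.subgroupOf S := H.cent_vec IH fun v hv => by
        refine app_inj (σ := φ) (mul_mem (app_mem hgA) (hVA hv)) (mul_mem (hVA hv) (app_mem hgA)) ?_
        rw [app_map_mul (app_mem hgA) (hVA hv), app_map_mul (hVA hv) (app_mem hgA), app_inv_apply φ hgA]
        exact (hg _ (hDV hv).2).eq
      exact ⟨_, mem_subgroupOf.1 hg', by rw [← happ _ hg', app_inv_apply φ hgA]⟩
  refine ⟨fun g hg s => (key _).2 ?_⟩
  obtain ⟨hgA, hgc⟩ := (key g).1 hg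
  refine ⟨(lev_normal hx 1).conj_mem g hgA s, fun y hy => ?_⟩
  have h1 := (hgc _ ((gam_normal (n - 3)).conj_mem y hy s⁻¹)).map (MulAut.conj s).toMonoidHom
  simpa [MulAut.conj_apply, mul_assoc] using h1

end CfsgLib.MCFusion
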