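import Cfsg.Agent.Lib.MaxClassFusion.Exceptional
import Cfsg.Agent.Lib.MaxClassFusion.Quad
import Cfsg.Agent.Lib.MaxClassFusion.JCase

/-!
# Essential subgroups inside the two extreme two step centralizers
-/

set_option autoImplicit false
set_option linter.style.haveILetI false
set_option linter.unusedSectionVars false

open Subgroup
open scoped commutatorElement Classical

namespace CfsgLib.MCFusion

open Cfsg (FusionSystem)
open CfsgLib.Fusion
open CfsgLib.MaxClassShift (gam gam_normal gam_anti)
open CfsgLib.MaxClassUniform (Uniform exists_uniform)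
open CfsgLib.PGroup.MaxClassRank (twoStepAt)
open CfsgLib.MaxClassEss

universe u

variable {Ω : Type u} [Group Ω] {S : Subgroup Ω} [Finite S] {p n : ℕ} [hpf : Fact p.Prime]
  {F : FusionSystem S} {E : Subgroup Ω}

theorem exists_uniform' (hS : IsPGroup p S) (hn : Nat.card S = p ^ n) (h4 : 4 ≤ n)
    (hcl : Group.nilpotencyClass S = n - 1) : ∃ x : S, Uniform x p n := by
  obtain ⟨x, hx, -⟩ := exists_uniform n S hS hn (by omega) hcl ⊥ (fun e => by
    have h1 := congrArg (fun K : Subgroup S => Nat.card K) e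
    simp only [card_bot, card_top, hn] at h1
    exact absurd h1.symm (Nat.one_lt_pow (by omega) hpf.out.one_lt).ne')
  exact ⟨x, hx⟩

/-- For order `p⁴` the first two step centralizer is abelian. -/
theorem lev_one_abelian {x : S} (hx : Uniform x p 4) {a b : S} (ha : a ∈ lev S 1) (hb : b ∈ lev S 1) :
    Commute a b := by
  obtain ⟨v, hv, hv'⟩ := exists_notMem_succ hx (i := 1) le_rfl le_rfl (by omega)
  have hz : ∀ w ∈ gam S 2, ∀ g ∈ lev S 1, Commute g w := fun w hw g hg =>
    last_two_commute hx hw (lev_one (G := S) ▸ hg)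
  haveI := gam_normal (G := S) 2
  rw [lev_one_gen hx le_rfl hv hv'] at ha hb
  obtain ⟨a1, ha1, a2, ha2, rfl⟩ := mem_sup_of_normal_right.1 ha
  obtain ⟨b1, hb1, b2, hb2, rfl⟩ := mem_sup_of_normal_right.1 hb
  obtain ⟨i, rfl⟩ := mem_zpowers_iff.1 ha1
  obtain ⟨k, rfl⟩ := mem_zpowers_iff.1 hb1
  exact ((Commute.zpow_zpow_self v i k).mul_right (hz b2 hb2 _ (zpow_mem hv i))).mul_left
    ((hz a2 ha2 _ (zpow_mem hv k)).symm.mul_right (hz b2 hb2 a2 (gam_two_le_lev_one hx ha2)))

/-- An essential subgroup inside one of the two extreme two step centralizers is that centralizer. -/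
theorem conc (n : ℕ) : Conc.{u} p n := by
  induction n using Nat.strong_induction_on with
  | _ n ih =>
  intro Ω _ S _ F E hS hn h4 hcl hF hE hin
  suffices key : ∀ t (E : Subgroup Ω), F.IsEssential p E → Nat.card S ≤ Nat.card E + t →
      (E.subgroupOf S ≤ lev S 1 ∨ E.subgroupOf S ≤ twoStepAt S (n - 2)) →
      E.subgroupOf S = lev S 1 ∨ E.subgroupOf S = twoStepAt S (n - 2) from
    key (Nat.card S) E hE (Nat.le_add_left _ _) hin
  intro t
  induction t using Nat.strong_induction_on with
  | _ t iht =>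
  intro E hE hcard hin
  obtain ⟨x, hx⟩ := exists_uniform' hS hn h4 hcl
  rcases h4.eq_or_lt with rfl | h5
  · have hA : E.subgroupOf S ≤ lev S 1 := by
      rcases hin with h | h
      · exact h
      · rwa [show 4 - 2 = 2 from rfl, ← lev_one] at h
    refine Or.inl (le_antisymm hA fun a ha => mem_subgroupOf.2 (MaxClassEss.centralizer_le hE a.2 fun e he =>
      congrArg Subtype.val (lev_one_abelian hx ha (hA (show (⟨e, hE.1.1 he⟩ : S) ∈ E.subgroupOf S from
        mem_subgroupOf.2 he))).eq.symm))
  by_contra hcon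
  push Not at hcon
  have H : Hyp p n F E := ⟨hS, hn, h5, hcl, hF, hE, hin, hcon.1, hcon.2⟩
  have IH : Conc.{u} p (n - 1) := ih (n - 1) (by omega)
  have hL : Larger p n F E := fun R hR hbig hRin => by
    have hRS : Nat.card R ≤ Nat.card S := card_le_of_le' le_rfl hR.1.1
    exact iht (Nat.card S - Nat.card R) (by omega) R hR (by omega) hRin
  by_cases hne : twoStepAt S (n - 2) = twoStepAt S 2
  · obtain ⟨j, u, hj, hjn, hdeep, hu, huE, hnorm⟩ := H.exists_j IH
    by_cases hq : ∀ v ∈ vec p S E, Commute u ⁅u, v⁆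
    · exact H.false_quad IH hL hne (hnorm u hu) huE hq
    · push Not at hq
      obtain ⟨v, hv, hnq⟩ := hq
      exact H.false_J IH hne hj hjn hdeep hu huE hnorm hv hnq
  · exact H.false_exc IH (ih (n - 2) (by omega)) hL hne

end CfsgLib.MCFusion
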