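import Cfsg.Agent.Lib.MaxClassFusion.QuadData

/-!
# The elements of order `p` in the centre of the first two step centralizer
-/

set_option autoImplicit false
set_option linter.style.haveILetI false
set_option linter.unusedSectionVars false

open Subgroup
open scoped commutatorElement Classical

namespace CfsgLib.MCFusion

open Cfsg (FusionSystem)
open CfsgLib.Fusion
open CfsgLib.MaxClassShift (gam gam_normal gam_anti gam_one gam_comm)
open CfsgLib.MaxClassUniform (Uniform gam_le_twoStepAt)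
open CfsgLib.PGroup.MaxClassRank (twoStepAt)
open CfsgLib.MaxClassEss
open CfsgLib.RegUnip (subgroupOfFinite M2 GLw Uni mem_Uni)

universe u

variable {Ω : Type u} [Group Ω] {S : Subgroup Ω} [Finite S] {p n : ℕ} [hpf : Fact p.Prime]
  {F : FusionSystem S} {E : Subgroup Ω}

/-- The elements of order `p` in the centre of the first two step centralizer. -/
noncomputable def omZ (p : ℕ) (S : Subgroup Ω) [Finite S] : Subgroup S :=
  subgroupOfFinite {w | w ∈ lev S 1 ∧ w ^ p = 1 ∧ ∀ a ∈ lev S 1, Commute w a}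
    ⟨one_mem _, one_pow _, fun a _ => Commute.one_left a⟩
    fun {a b} ha hb => ⟨mul_mem ha.1 hb.1, by rw [(ha.2.2 b hb.1).mul_pow, ha.2.1, hb.2.1, one_mul],
      fun c hc => (ha.2.2 c hc).mul_left (hb.2.2 c hc)⟩

theorem mem_omZ {w : S} : w ∈ omZ p S ↔ w ∈ lev S 1 ∧ w ^ p = 1 ∧ ∀ a ∈ lev S 1, Commute w a := Iff.rfl

theorem omZ_app {σ : MulAut (lev S 1)} {w : S} (hw : w ∈ omZ p S) : app σ w ∈ omZ p S := by
  refine ⟨app_mem hw.1, by rw [← app_pow hw.1, hw.2.1, app_one], fun a ha => ?_⟩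
  have h1 := hw.2.2 (app σ⁻¹ a) (app_mem ha)
  have h2 := congrArg (app σ) h1.eq
  rwa [app_map_mul hw.1 (app_mem ha), app_map_mul (app_mem ha) hw.1, app_inv_apply σ ha] at h2

/-- They lie in the essential subgroup. -/
theorem Hyp.omZ_le_vec (H : Hyp p n F E) (IH : Conc.{u} p (n - 1)) : omZ p S ≤ vec p S E := fun w hw =>
  ⟨H.mem_of_commute fun e he => hw.2.2 e (H.inner_A' IH he), hw.2.1,
    fun e he => hw.2.2 e (H.inner_A' IH he)⟩

/-- They form a term of the series. -/
theorem Hyp.omZ_eq (H : Hyp p n F E) (IH : Conc.{u} p (n - 1))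
    (hne : twoStepAt S (n - 2) = twoStepAt S 2) :
    ∃ c, 3 ≤ c ∧ c + 2 ≤ n ∧ n + 1 ≤ c + p ∧ omZ p S = gam S c := by
  obtain ⟨x, hx⟩ := H.exists_x
  have h5 := H.five
  have hp := hpf.out
  have hp5 := H.five_prime IH
  have hnotab : ¬ ∀ a ∈ lev S 1, ∀ b ∈ lev S 1, Commute a b := fun hab =>
    H.neA (le_antisymm (H.inner_A' IH) fun a ha => H.mem_of_commute fun e he => hab a ha e (H.inner_A' IH he))
  have hinv : ∀ k ∈ omZ p S, x * k * x⁻¹ ∈ omZ p S := fun k hk => by
    refine ⟨(lev_normal hx 1).conj_mem k hk.1 x, by rw [conj_pow, hk.2.1, mul_one, mul_inv_cancel], fun a ha => ?_⟩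
    have h1 := (hk.2.2 _ ((lev_normal hx 1).conj_mem a ha x⁻¹)).map (MulAut.conj x).toMonoidHom
    simpa [MulAut.conj_apply, mul_assoc] using h1
  have hle2 : omZ p S ≤ gam S 2 := by
    intro v hv
    by_contra hv2
    have h2 := gam_two_le_of_inv hx (by omega) le_rfl (show 2 + 2 ≤ n by omega) (omZ p S) hinv
      (fun w hw => lev_one (G := S) ▸ hw.1) fun h => hv2 (h hv)
    refine hnotab fun a ha b hb => ((?_ : lev S 1 ≤ omZ p S) ha).2.2 b hb
    rw [lev_one_gen hx (by omega) hv.1 hv2]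
    exact sup_le (zpowers_le.2 hv) h2
  obtain ⟨c, hc2, hcn, hc⟩ := inf_gam_two hx (omZ p S) hinv
  rw [inf_eq_left.2 hle2] at hc
  have hZ2 : gam S (n - 2) ≤ omZ p S := fun w hw => ⟨gam_two_le_lev_one hx (gam_anti (by omega) hw),
    pow_eq_one_of_deep hx (show 2 ≤ n - 2 by omega) (by omega) hw,
    fun a ha => lev_one_commute_deep hx (by omega) hne hw ha⟩
  have hcn2 : c + 2 ≤ n := by
    by_contra hlt
    obtain ⟨w, hw, hw'⟩ := exists_layer hx (k := n - 2) (by omega) (by omega)
    exact hw' (gam_anti (show n - 2 + 1 ≤ c by omega) (hc.le (hZ2 hw)))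
  refine ⟨c, ?_, hcn2, ?_, hc⟩
  · by_contra hlt
    obtain rfl : c = 2 := by omega
    obtain ⟨v, hv, hv'⟩ := exists_notMem_succ hx (i := 1) (by omega) le_rfl (by omega)
    refine hnotab fun a ha b hb => ?_
    rw [lev_one_gen hx (by omega) hv hv'] at ha hb
    haveI := gam_normal (G := S) 2
    obtain ⟨a1, ha1, a2, ha2, rfl⟩ := mem_sup_of_normal_right.1 ha
    obtain ⟨b1, hb1, b2, hb2, rfl⟩ := mem_sup_of_normal_right.1 hb
    obtain ⟨i, rfl⟩ := mem_zpowers_iff.1 ha1
    obtain ⟨j, rfl⟩ := mem_zpowers_iff.1 hb1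
    have hz : ∀ w ∈ gam S 2, ∀ g ∈ lev S 1, Commute w g := fun w hw => (hc.ge hw).2.2
    exact ((Commute.zpow_zpow_self v i j).mul_right (hz b2 hb2 _ (zpow_mem hv i)).symm).mul_left
      ((hz a2 ha2 _ (zpow_mem hv j)).mul_right (hz a2 ha2 b2 (gam_two_le_lev_one hx hb2)))
  · obtain ⟨w, hw, hw'⟩ := exists_layer hx (k := c) hc2 (by omega)
    have hwp := (hc.ge hw).2.1
    have h1 := deep_of_pow_eq_one hx (gam_anti hc2 hw) hwp
    by_contra hlt
    exact hw' (gam_anti (show c + 1 ≤ max 2 (n + 1 - p) by omega) h1)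

/-- The restriction of automorphisms to an invariant term. -/
theorem exists_restrict {x : S} (hx : Uniform x p n) {c : ℕ} (hc : 2 ≤ c) (X : Subgroup (MulAut (lev S 1)))
    (hinv : ∀ σ ∈ X, ∀ b ∈ gam S c, app σ b ∈ gam S c) :
    ∃ R : X →* MulAut (gam S c), ∀ (σ : X) (b : gam S c),
      ((R σ b : gam S c) : S) = app (σ : MulAut (lev S 1)) (b : S) := by
  have hmem : ∀ b : gam S c, (b : S) ∈ lev S 1 := fun b => gam_two_le_lev_one hx (gam_anti hc b.2)
  refine ⟨{ toFun := fun σ =>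
              { toFun := fun b => ⟨app (σ : MulAut (lev S 1)) b, hinv σ σ.2 b b.2⟩
                invFun := fun b => ⟨app ((σ : MulAut (lev S 1))⁻¹) b, hinv _ (inv_mem σ.2) b b.2⟩
                left_inv := fun b => Subtype.ext (by
                  show app _ (app _ (b : S)) = b
                  rw [← app_mul _ _ (hmem b), inv_mul_cancel, app_one_apply (hmem b)])
                right_inv := fun b => Subtype.ext (app_inv_apply _ (hmem b))
                map_mul' := fun a b => Subtype.ext (app_map_mul (hmem a) (hmem b)) }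
            map_one' := MulEquiv.ext fun b => Subtype.ext (app_one_apply (hmem b))
            map_mul' := fun σ τ => MulEquiv.ext fun b => Subtype.ext (app_mul _ _ (hmem b)) }, fun σ b => rfl⟩

/-- An elementary abelian term is a section. -/
theorem sect_of_term {x : S} (hx : Uniform x p n) {c d : ℕ} (hc : 2 ≤ c) (hcd : c + d = n) (hd : 1 ≤ d)
    (hdp : n + 1 ≤ c + p) (hab : ∀ a ∈ gam S c, ∀ b ∈ gam S c, Commute a b) :
    ∃ b, Sect x p n c d (gam S c).subtype b := by
  obtain ⟨b, hb, hb'⟩ := exists_layer hx hc (show c < n by omega)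
  refine ⟨b, hx, hc, hcd.le, hb, hb', Subtype.val_injective, range_subtype _, fun a a' => ?_, fun a => ?_⟩
  · rw [map_commutatorElement, show ⁅(gam S c).subtype a, (gam S c).subtype a'⁆ = 1 from commutatorElement_eq_one_iff_commute.2 (hab _ a.2 _ a'.2)]; exact one_mem _
  · rw [map_pow, show ((gam S c).subtype a) ^ p = 1 from pow_eq_one_of_deep hx hc hdp a.2]; exact one_mem _

end CfsgLib.MCFusion
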