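import Cfsg.Agent.Lib.MaxClassFusion.PairAlg
import Cfsg.Agent.Lib.RegUnip.Quad
import Cfsg.Agent.Lib.Qd.Linear
import Cfsg.Agent.Lib.Fusion.Sylow

/-!
# A torus from a quadratic element outside a strongly embedded subgroup

Let `M < X` be linear groups over a prime field such that a conjugate of a nontrivial element of a
Sylow subgroup `P ≤ M` of `X` lies in `M` only under conjugation by elements of `M`. For a quadratic
`u ∈ P` there is an element of order prime to `p` normalizing `⟨u⟩` with the weights of a torus of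
`SL₂(p)` on the natural modules and trivial elsewhere.
-/

set_option autoImplicit false
set_option linter.style.haveILetI false
set_option linter.unusedSectionVars false
attribute [-simp] ZMod.inv_coe_unit

open Subgroup Matrix
open scoped Classical

namespace CfsgLib.MCFusion

open CfsgLib.RegUnip (M2 GLw)
open CfsgLib.Qd (up lo)
open CfsgLib.Fusion (conjBy conjBy_le_iff conj_mem_conjBy mem_conjBy exists_conj_le_of_not_dvd_relIndex)

variable {p d : ℕ} [hpf : Fact p.Prime]

/-- The hypotheses on the pair of groups. -/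
structure Emb (X M P : Subgroup (GLw p d)) : Prop where
  pM : P ≤ M
  mX : M ≤ X
  isP : IsPGroup p P
  sylow : ¬ p ∣ P.relIndex X
  proper : M ≠ X
  emb : ∀ t ∈ P, t ≠ 1 → ∀ γ ∈ X, γ * t * γ⁻¹ ∈ M → γ ∈ M

variable {X M P : Subgroup (GLw p d)}

theorem Emb.sylowM (h : Emb X M P) : ¬ p ∣ P.relIndex M := fun hd =>
  h.sylow (hd.trans (Dvd.intro _ (relIndex_mul_relIndex P M X h.pM h.mX)))

/-- A `p`-element of `M` is moved into `M` only by elements of `M`. -/
theorem Emb.mem_of_conj (h : Emb X M P) {k γ : GLw p d} (hk : k ∈ M) (hk1 : k ≠ 1)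
    (hkp : IsPGroup p (zpowers k)) (hγ : γ ∈ X) (hc : γ * k * γ⁻¹ ∈ M) : γ ∈ M := by
  obtain ⟨m, hm, hle⟩ := exists_conj_le_of_not_dvd_relIndex h.isP h.pM h.sylowM hkp (zpowers_le.2 hk)
  have ht : m * k * m⁻¹ ∈ P := conjBy_le_iff.1 hle k (mem_zpowers k)
  have h1 := h.emb _ ht (fun e => hk1 (by
    rw [show k = m⁻¹ * (m * k * m⁻¹) * m by group, e]; group))
    (γ * m⁻¹) (mul_mem hγ (inv_mem (h.mX hm))) (by
      rwa [show γ * m⁻¹ * (m * k * m⁻¹) * (γ * m⁻¹)⁻¹ = γ * k * γ⁻¹ by group])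
  simpa using mul_mem h1 hm

theorem pow_of_quadratic {u : GLw p d} (hq : ((u : M2 p d) - 1) * ((u : M2 p d) - 1) = 0) (i : ℕ) :
    ((u ^ i : GLw p d) : M2 p d) = 1 + i • ((u : M2 p d) - 1) := by
  induction i with
  | zero => simp
  | succ i ih =>
    rw [pow_succ, Units.val_mul, ih, succ_nsmul, add_mul, one_mul, smul_mul_assoc]
    have : ((u : M2 p d) - 1) * (u : M2 p d) = (u : M2 p d) - 1 := by
      rw [show ((u : M2 p d) - 1) * (u : M2 p d)
        = ((u : M2 p d) - 1) * ((u : M2 p d) - 1) + ((u : M2 p d) - 1) by noncomm_ring, hq, zero_add]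
    rw [this]
    abel

theorem pow_prime_of_quadratic {u : GLw p d} (hq : ((u : M2 p d) - 1) * ((u : M2 p d) - 1) = 0) :
    u ^ p = 1 := Units.ext (by
  rw [pow_of_quadratic hq, Units.val_one, ← Nat.cast_smul_eq_nsmul (ZMod p), ZMod.natCast_self,
    zero_smul, add_zero])

theorem quadratic_conj {u : GLw p d} (hq : ((u : M2 p d) - 1) * ((u : M2 p d) - 1) = 0) (g : GLw p d) :
    (((g * u * g⁻¹ : GLw p d) : M2 p d) - 1) * (((g * u * g⁻¹ : GLw p d) : M2 p d) - 1) = 0 := by
  have e : ((g * u * g⁻¹ : GLw p d) : M2 p d) - 1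
      = (g : M2 p d) * ((u : M2 p d) - 1) * ((g⁻¹ : GLw p d) : M2 p d) := by
    rw [Units.val_mul, Units.val_mul, mul_sub, sub_mul, mul_one, ← Units.val_mul g g⁻¹, mul_inv_cancel,
      Units.val_one]
  rw [e, show (g : M2 p d) * ((u : M2 p d) - 1) * ((g⁻¹ : GLw p d) : M2 p d) *
    ((g : M2 p d) * ((u : M2 p d) - 1) * ((g⁻¹ : GLw p d) : M2 p d))
    = (g : M2 p d) * (((u : M2 p d) - 1) * (((g⁻¹ : GLw p d) : M2 p d) * (g : M2 p d)) * ((u : M2 p d) - 1)) *
      ((g⁻¹ : GLw p d) : M2 p d) by simp only [mul_assoc],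
    ← Units.val_mul, inv_mul_cancel, Units.val_one, mul_one, hq, mul_zero, zero_mul]

/-- The images of the standard generators in the matrix units of a quadratic pair. -/
def phi (A B e : M2 p d) (s : Matrix (Fin 2) (Fin 2) (ZMod p)) : M2 p d :=
  s 0 0 • (-(A * B * e)) + s 0 1 • (A * e) + s 1 0 • (-(B * e)) + s 1 1 • (-(B * A * e))

theorem phi_one {A B e : M2 p d} (hce : (A * B + B * A) * e = -e) : phi A B e 1 = e := by
  simp only [phi, one_apply_eq, one_apply_ne zero_ne_one, one_apply_ne one_ne_zero, one_smul,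
    zero_smul, add_zero]
  rw [← neg_add, ← add_mul, hce, neg_neg]

theorem phi_mul {A B e : M2 p d} (hA : A * A = 0) (hB : B * B = 0) (hee : e * e = e)
    (hce : (A * B + B * A) * e = -e) (heA : Commute e A) (heB : Commute e B)
    (s t : Matrix (Fin 2) (Fin 2) (ZMod p)) : phi A B e (s * t) = phi A B e s * phi A B e t := by
  have mv : ∀ M : M2 p d, ∀ K : M2 p d, Commute e K → M * e * (K * e) = M * K * e := fun M K hK => by
    rw [mul_assoc M e, ← mul_assoc e K, hK.eq, mul_assoc K, hee, ← mul_assoc]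
  have hAB : Commute e (A * B) := heA.mul_right heB
  have hBA : Commute e (B * A) := heB.mul_right heA
  have a3 : A * B * A * e = -(A * e) := by
    rw [aba_eq hA, mul_assoc, ← heA.eq, ← mul_assoc, hce, neg_mul, heA.eq]
  have b3 : B * A * B * e = -(B * e) := by
    rw [bab_eq hB, mul_assoc, ← heB.eq, ← mul_assoc, hce, neg_mul, heB.eq]
  have r1 : A * B * e * (A * B * e) = -(A * B * e) := by
    rw [mv _ _ hAB, show A * B * (A * B) = A * B * A * B by noncomm_ring, mul_assoc _ B e, ← heB.eq,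
      ← mul_assoc, a3, neg_mul, mul_assoc A e B, heB.eq, ← mul_assoc]
  have r2 : A * B * e * (A * e) = -(A * e) := by rw [mv _ _ heA, a3]
  have r3 : A * B * e * (B * e) = 0 := by
    rw [mv _ _ heB, mul_assoc A B B, hB, mul_zero, zero_mul]
  have r4 : A * B * e * (B * A * e) = 0 := by
    rw [mv _ _ hBA, show A * B * (B * A) = A * (B * B) * A by noncomm_ring, hB, mul_zero, zero_mul,
      zero_mul]
  have r5 : A * e * (A * B * e) = 0 := by
    rw [mv _ _ hAB, show A * (A * B) = A * A * B by noncomm_ring, hA, zero_mul, zero_mul]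
  have r6 : A * e * (A * e) = 0 := by rw [mv _ _ heA, hA, zero_mul]
  have r7 : A * e * (B * e) = A * B * e := mv _ _ heB
  have r8 : A * e * (B * A * e) = -(A * e) := by
    rw [mv _ _ hBA, ← mul_assoc, a3]
  have r9 : B * e * (A * B * e) = -(B * e) := by
    rw [mv _ _ hAB, ← mul_assoc, b3]
  have r10 : B * e * (A * e) = B * A * e := mv _ _ heA
  have r11 : B * e * (B * e) = 0 := by rw [mv _ _ heB, hB, zero_mul]
  have r12 : B * e * (B * A * e) = 0 := by
    rw [mv _ _ hBA, show B * (B * A) = B * B * A by noncomm_ring, hB, zero_mul, zero_mul]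
  have r13 : B * A * e * (A * B * e) = 0 := by
    rw [mv _ _ hAB, show B * A * (A * B) = B * (A * A) * B by noncomm_ring, hA, mul_zero, zero_mul,
      zero_mul]
  have r14 : B * A * e * (A * e) = 0 := by
    rw [mv _ _ heA, mul_assoc B A A, hA, mul_zero, zero_mul]
  have r15 : B * A * e * (B * e) = -(B * e) := by rw [mv _ _ heB, b3]
  have r16 : B * A * e * (B * A * e) = -(B * A * e) := by
    rw [mv _ _ hBA, show B * A * (B * A) = B * A * B * A by noncomm_ring, mul_assoc _ A e, ← heA.eq,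
      ← mul_assoc, b3, neg_mul, mul_assoc B e A, heA.eq, ← mul_assoc]
  simp only [phi, Matrix.mul_apply, Fin.sum_univ_two]
  simp only [add_mul, mul_add, smul_mul_assoc, mul_smul_comm, neg_mul, mul_neg, neg_neg, smul_neg,
    r1, r2, r3, r4, r5, r6, r7, r8, r9, r10, r11, r12, r13, r14, r15, r16, smul_zero, add_zero,
    zero_add, neg_zero, smul_smul]
  module

/-- A pair generating a group that is not in `M` with a natural module for its image. -/
theorem exists_pair_group (hp5 : 5 ≤ p) (h : Emb X M P) {u : GLw p d} (huP : u ∈ P) (hu1 : u ≠ 1)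
    (hq : ((u : M2 p d) - 1) * ((u : M2 p d) - 1) = 0) :
    ∃ H0 : Subgroup (GLw p d), H0 ≤ X ∧ ¬ H0 ≤ M ∧ u ∈ H0 ∧
      (∀ N : Subgroup (GLw p d), u ∈ N → N ≤ H0 → (∀ g ∈ H0, ∀ n ∈ N, g * n * g⁻¹ ∈ N) → N = H0) ∧
      ∃ ψ : H0 →* Matrix.SpecialLinearGroup (Fin 2) (AlgebraicClosure (ZMod p)),
        (∀ hu : u ∈ H0, ψ ⟨u, hu⟩ = up 1) ∧ (∃ g : H0, (ψ g).1 1 0 ≠ 0) ∧
        ¬ p ∣ Nat.card ψ.ker ∧ ∀ n : H0, ψ n = 1 → ∀ g : H0, n * g = g * n := by
  have hp := hpf.out
  have huX : u ∈ X := h.mX (h.pM huP)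
  have huM : u ∈ M := h.pM huP
  have hup : IsPGroup p (zpowers u) := h.isP.to_le (zpowers_le.2 huP)
  obtain ⟨γ₀, hγ₀, hγ₀M⟩ : ∃ γ ∈ X, γ ∉ M := by
    by_contra hcon
    push Not at hcon
    exact h.proper (le_antisymm h.mX hcon)
  let H : GLw p d → Subgroup (GLw p d) := fun γ => Subgroup.closure {u, γ * u * γ⁻¹}
  have hex : ∃ N, ∃ γ ∈ X, γ ∉ M ∧ Nat.card (H γ) = N := ⟨_, γ₀, hγ₀, hγ₀M, rfl⟩
  obtain ⟨γ, hγ, hγM, hcard⟩ := Nat.find_spec hex
  have hmin : ∀ γ' ∈ X, γ' ∉ M → Nat.card (H γ) ≤ Nat.card (H γ') := fun γ' h1 h2 =>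
    hcard ▸ Nat.find_min' hex ⟨γ', h1, h2, rfl⟩
  set u' := γ * u * γ⁻¹ with hu'
  have huH : u ∈ H γ := subset_closure (Or.inl rfl)
  have hu'H : u' ∈ H γ := subset_closure (Or.inr rfl)
  have hHX : H γ ≤ X := (Subgroup.closure_le _).2 (Set.insert_subset huX
    (Set.singleton_subset_iff.2 (mul_mem (mul_mem hγ huX) (inv_mem hγ))))
  have hu'M : u' ∉ M := fun hm => hγM (h.mem_of_conj huM hu1 hup hγ hm)
  have hHM : ¬ H γ ≤ M := fun hle => hu'M (hle hu'H)
  -- a smaller pair inside does not exist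
  have hsmall : ∀ g ∈ H γ, g * u * g⁻¹ ∉ M → H γ ≤ Subgroup.closure {u, g * u * g⁻¹} := by
    intro g hg hgu
    have hgM : g ∉ M := fun hm => hgu (mul_mem (mul_mem hm huM) (inv_mem hm))
    have hle : H g ≤ H γ := (Subgroup.closure_le _).2 (Set.insert_subset huH
      (Set.singleton_subset_iff.2 (mul_mem (mul_mem hg huH) (inv_mem hg))))
    exact (eq_of_le_of_card_ge hle (hmin g (hHX hg) hgM)).ge
  have hnc : ∀ N : Subgroup (GLw p d), u ∈ N → N ≤ H γ →
      (∀ g ∈ H γ, ∀ n ∈ N, g * n * g⁻¹ ∈ N) → N = H γ := by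
    intro N huN hNH hN
    obtain ⟨g, hg, hgu⟩ : ∃ g ∈ H γ, g * u * g⁻¹ ∉ M := by
      by_contra hcon
      push Not at hcon
      exact hHM fun g hg => h.mem_of_conj huM hu1 hup (hHX hg) (hcon g hg)
    exact le_antisymm hNH ((hsmall g hg hgu).trans ((Subgroup.closure_le _).2 (Set.insert_subset huN
      (Set.singleton_subset_iff.2 (hN g hg u huN)))))
  -- the group is not a `p`-group
  have hnp : ¬ IsPGroup p (H γ) := by
    intro hHp
    obtain ⟨m, hm, hle⟩ := exists_conj_le_of_not_dvd_relIndex h.isP (h.pM.trans h.mX) h.sylow hHp hHX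
    have h1 : m * u * m⁻¹ ∈ M := h.pM (conjBy_le_iff.1 hle u huH)
    have hmM := h.mem_of_conj huM hu1 hup hm h1
    refine hHM fun g hg => ?_
    have h2 := h.pM (conjBy_le_iff.1 hle g hg)
    simpa [mul_assoc] using mul_mem (mul_mem (inv_mem hmM) h2) hmM
  let K := AlgebraicClosure (ZMod p)
  let f := algebraMap (ZMod p) K
  let R : GLw p d →* Matrix (Fin d) (Fin d) K := f.mapMatrix.toMonoidHom.comp (Units.coeHom _)
  have hR : ∀ g : GLw p d, R g - 1 = f.mapMatrix ((g : M2 p d) - 1) := fun g => by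
    rw [map_sub, map_one]; rfl
  have hq' := quadratic_conj hq γ
  have hnil : ∀ m : ℕ, (((u : M2 p d) - 1) * ((u' : M2 p d) - 1)) ^ m ≠ 0 := by
    intro m hm
    refine hnp fun g => ?_
    obtain ⟨e, he⟩ := Qd.exists_pow_eq_one (Units.coeHom (M2 p d)) u u' hq hq' hm g.2
    exact ⟨e, Subtype.ext (Units.ext (by simpa using he))⟩
  obtain ⟨c, hc, v, hv, hev⟩ := Qd.exists_eigen_of_not_nilpotent (K := K) _ hnil
  obtain ⟨Pm, -, ψ, -, hψu, hψu'⟩ := Qd.exists_natural R u u'
    (by rw [hR, ← map_mul, hq, map_zero]) (by rw [hR, ← map_mul, hq', map_zero]) hc hv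
    (by rw [hR, hR, ← map_mul]; exact hev)
  refine ⟨H γ, hHX, hHM, huH, hnc, ψ, fun _ => hψu, ⟨⟨u', hu'H⟩, ?_⟩, ?_⟩
  · rw [show ψ ⟨u', hu'H⟩ = lo c from hψu']
    simpa using hc
  -- the kernel
  set N2 := ψ.ker.map (H γ).subtype with hN2
  have hN2n : ∀ g ∈ H γ, ∀ n ∈ N2, g * n * g⁻¹ ∈ N2 := by
    rintro g hg _ ⟨n, hn, rfl⟩
    exact ⟨⟨g, hg⟩ * n * ⟨g, hg⟩⁻¹, ψ.normal_ker.conj_mem n hn _, rfl⟩
  have hN2H : N2 ≤ H γ := map_subtype_le _
  have hker : ¬ p ∣ Nat.card ψ.ker := by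
    intro hd
    by_cases hNM : N2 ≤ M
    · obtain ⟨k, hk⟩ := exists_prime_orderOf_dvd_card' (G := ψ.ker) p hd
      have hk1 : ((k : H γ) : GLw p d) ≠ 1 := fun e => hp.ne_one (by
        rw [← hk, show k = 1 from Subtype.ext (Subtype.ext e), orderOf_one])
      have hkp : IsPGroup p (zpowers ((k : H γ) : GLw p d)) :=
        IsPGroup.of_card (n := 1) (by rw [Nat.card_zpowers, orderOf_coe, orderOf_coe, hk, pow_one])
      have hkN : ((k : H γ) : GLw p d) ∈ N2 := ⟨k, k.2, rfl⟩
      exact hHM fun g hg =>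
        h.mem_of_conj (hNM hkN) hk1 hkp (hHX hg) (hNM (hN2n g hg _ hkN))
    · obtain ⟨k, hkN, hkM⟩ := SetLike.not_le_iff_exists.1 hNM
      have hle := hsmall k (hN2H hkN) fun hm => hkM (h.mem_of_conj huM hu1 hup (hHX (hN2H hkN)) hm)
      obtain ⟨k, hk, rfl⟩ := hkN
      let Z : Subgroup (GLw p d) := ((zpowers (up (1 : K))).comap ψ).map (H γ).subtype
      have hu'Z : u' ∈ Z := by
        refine ((Subgroup.closure_le _).2 (Set.insert_subset ?_ (Set.singleton_subset_iff.2 ?_)) : _ ≤ Z) (hle hu'H)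
        · exact ⟨⟨u, huH⟩, mem_comap.2 (by rw [show ψ ⟨u, huH⟩ = up 1 from hψu]; exact mem_zpowers _), rfl⟩
        · refine ⟨k * ⟨u, huH⟩ * k⁻¹, mem_comap.2 ?_, rfl⟩
          rw [map_mul, map_mul, map_inv, show ψ k = 1 from hk, show ψ ⟨u, huH⟩ = up 1 from hψu]
          simpa using mem_zpowers (up (1 : K))
      obtain ⟨y, hy, hyu⟩ := hu'Z
      obtain ⟨i, hi⟩ := mem_zpowers_iff.1 (mem_comap.1 hy)
      have hlo : lo c = up (1 : K) ^ i := by
        rw [hi, show y = ⟨u', hu'H⟩ from Subtype.ext hyu]; exact hψu'.symm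
      have h10 : ∀ j : ℤ, (up (1 : K) ^ j).1 1 0 = 0 := by
        intro j
        cases j with
        | ofNat m => rw [Int.ofNat_eq_natCast, zpow_natCast, Qd.up_pow]; simp
        | negSucc m => rw [zpow_negSucc, Qd.up_pow, Qd.up_inv]; simp
      exact hc (by simpa [h10] using congrArg (fun s => s.1 1 0) hlo)
  refine ⟨hker, ?_⟩
  -- centrality
  have hN2c : ¬ p ∣ Nat.card N2 := by rwa [hN2, card_map_of_injective (H γ).subtype_injective]
  have cu := CfsgLib.RegUnip.commute_of_quadratic hp5 hq hN2c fun r hr => hN2n u huH r hr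
  have cu' := CfsgLib.RegUnip.commute_of_quadratic hp5 hq' hN2c fun r hr => hN2n u' hu'H r hr
  intro n hn g
  have hle : H γ ≤ centralizer ({(n : GLw p d)} : Set (GLw p d)) := (Subgroup.closure_le _).2
    (Set.insert_subset (mem_centralizer_singleton_iff.2 (cu _ ⟨n, hn, rfl⟩).symm)
      (Set.singleton_subset_iff.2 (mem_centralizer_singleton_iff.2 (cu' _ ⟨n, hn, rfl⟩).symm)))
  exact Subtype.ext (mem_centralizer_singleton_iff.1 (hle g.2)).symm

/-- The torus. -/
theorem exists_torus (hp5 : 5 ≤ p) (h : Emb X M P) {u : GLw p d} (huP : u ∈ P) (hu1 : u ≠ 1)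
    (hq : ((u : M2 p d) - 1) * ((u : M2 p d) - 1) = 0) :
    ∃ t ∈ X, ∃ l : (ZMod p)ˣ, (∀ j, 0 < j → j < p - 1 → l ^ j ≠ 1) ∧ t ^ p = t ∧
      t * u * t⁻¹ = u ^ ((l : ZMod p) * l).val ∧
      (∀ v : Fin d → ZMod p, ((u : M2 p d) - 1) *ᵥ v = 0 →
        (((t : M2 p d) - 1) * ((t : M2 p d) - (l : ZMod p) • 1)) *ᵥ v = 0) ∧
      ((t : M2 p d) - (l : ZMod p) • 1) * ((u : M2 p d) - 1) = 0 ∧
      (∀ v : Fin d → ZMod p, ((u : M2 p d) - 1) *ᵥ v = 0 →
        ∃ w, (t : M2 p d) *ᵥ v - v = ((u : M2 p d) - 1) *ᵥ w) ∧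
      ((t : M2 p d) - 1) * ((t : M2 p d) - (l : ZMod p) • 1) *
        ((t : M2 p d) - ((l⁻¹ : (ZMod p)ˣ) : ZMod p) • 1) = 0 ∧
      (∃ L ≤ X, ¬ L ≤ M ∧ ∀ v : Fin d → ZMod p, ((u : M2 p d) - 1) *ᵥ v = 0 →
        (t : M2 p d) *ᵥ v = v → ∀ g ∈ L, (g : M2 p d) *ᵥ v = v) ∧
      ∃ v : Fin d → ZMod p, v ≠ 0 ∧ (t : M2 p d) *ᵥ v = ((l⁻¹ : (ZMod p)ˣ) : ZMod p) • v := by
  have hp := hpf.out
  obtain ⟨H0, hHX, hHM, huH, hnc, ψ, hψu, ⟨g₀, hg₀⟩, hker, hcen⟩ := exists_pair_group hp5 h huP hu1 hq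
  let K := AlgebraicClosure (ZMod p)
  -- a conjugate giving a copy of `SL₂(p)`
  haveI : Finite ψ.range := Finite.of_surjective ψ.rangeRestrict ψ.rangeRestrict_surjective
  obtain ⟨s, ⟨g, rfl⟩, i, hi, hsi⟩ := Qd.exists_good_conj (p := p) (show p ≠ 2 by omega) ψ.range
    ⟨_, hψu huH⟩ ⟨_, ⟨g₀, rfl⟩, hg₀⟩
  have hs10 : (ψ g).1 1 0 ≠ 0 := fun e => hi (by rw [← hsi, e]; ring)
  set σ := (ψ g).1 0 0 / (ψ g).1 1 0 with hσ
  let ψ' : H0 →* Matrix.SpecialLinearGroup (Fin 2) K :=
    (MulAut.conj (up (-σ))).toMonoidHom.comp ψ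
  have hψ' : ∀ y, ψ' y = up (-σ) * ψ y * (up (-σ))⁻¹ := fun y => rfl
  set a : H0 := ⟨u, huH⟩ with ha
  set m := (-(i : ZMod p))⁻¹ * (-1) with hm
  set b : H0 := (g * a * g⁻¹) ^ m.val with hb
  have hψa : ψ' a = up 1 := by
    rw [hψ', ha, hψu huH, Qd.up_inv, Qd.up_mul, Qd.up_mul]; ring_nf
  have hψb : ψ' b = lo (-1) := by
    have h1 : ψ' (g * a * g⁻¹) = lo (-(i : K)) := by
      rw [hψ', map_mul, map_mul, map_inv, ha, hψu huH,
        show up (-σ) * (ψ g * up 1 * (ψ g)⁻¹) * (up (-σ))⁻¹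
          = (up (-σ) * ψ g) * up 1 * (up (-σ) * ψ g)⁻¹ by group]
      obtain ⟨c00, c01, c10, c11⟩ := Qd.conj_up (up (-σ) * ψ g) (1 : K)
      have e00 : (up (-σ) * ψ g).1 0 0 = 0 := by
        simp [Qd.mul00, hσ, div_mul_cancel₀ _ hs10]
      have e10 : (up (-σ) * ψ g).1 1 0 = (ψ g).1 1 0 := by simp [Qd.mul10]
      refine Qd.ext2 ?_ ?_ ?_ ?_
      · rw [c00, e00]; simp
      · rw [c01, e00]; simp
      · rw [c10, e10]; simp [hsi]
      · rw [c11, e00]; simp
    rw [hb, map_pow, h1, Qd.lo_pow]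
    congr 1
    have hi' : -(i : ZMod p) ≠ 0 := fun e => hi (by
      simpa [map_natCast] using congrArg (algebraMap (ZMod p) K) (neg_eq_zero.1 e))
    have h2 : (m.val : ZMod p) * -(i : ZMod p) = -1 := by
      rw [ZMod.natCast_zmod_val, hm, mul_comm, mul_inv_cancel_left₀ hi']
    rw [← map_natCast (algebraMap (ZMod p) K) m.val, ← map_natCast (algebraMap (ZMod p) K) i, ← map_neg,
      ← map_mul, h2, map_neg, map_one]
  have hker' : ∀ y, ψ' y = 1 ↔ ψ y = 1 := fun y => by rw [hψ', conj_eq_one_iff]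
  -- `p`-elements with the same image are equal
  have huniq : ∀ y z : H0, y ^ p = 1 → z ^ p = 1 → ψ' y = ψ' z → y = z := by
    intro y z hy hz he
    set w := z⁻¹ * y with hw
    have hwk : ψ w = 1 := (hker' w).1 (by rw [hw, map_mul, map_inv, he, inv_mul_cancel])
    have h1 : w ^ p = 1 := by
      have e : y = z * w := (mul_inv_cancel_left z y).symm
      rw [e, (show Commute z w from (hcen w hwk z).symm).mul_pow, hz, one_mul] at hy
      exact hy
    have h2 : w ^ Nat.card ψ.ker = 1 :=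
      congrArg Subtype.val (pow_card_eq_one' (x := (⟨w, hwk⟩ : ψ.ker)))
    have h3 : orderOf w ∣ Nat.gcd p (Nat.card ψ.ker) :=
      Nat.dvd_gcd (orderOf_dvd_of_pow_eq_one h1) (orderOf_dvd_of_pow_eq_one h2)
    rw [show Nat.gcd p (Nat.card ψ.ker) = 1 from (hp.coprime_iff_not_dvd.2 hker), Nat.dvd_one,
      orderOf_eq_one_iff, hw, inv_mul_eq_one] at h3
    exact h3.symm
  have hap : a ^ p = 1 := Subtype.ext (pow_prime_of_quadratic hq)
  have hbq : (((b : GLw p d) : M2 p d) - 1) * (((b : GLw p d) : M2 p d) - 1) = 0 := by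
    have h1 := quadratic_conj hq (g : GLw p d)
    have e : (b : GLw p d) = ((g : GLw p d) * u * (g : GLw p d)⁻¹) ^ m.val := by
      rw [hb, SubgroupClass.coe_pow]; rfl
    rw [e, pow_of_quadratic h1, add_sub_cancel_left, smul_mul_smul_comm, h1, smul_zero]
  have hbp : b ^ p = 1 := Subtype.ext (pow_prime_of_quadratic hbq)
  set A := (u : M2 p d) - 1 with hA
  set B := ((b : GLw p d) : M2 p d) - 1 with hB
  have hAu : ((a : GLw p d) : M2 p d) = 1 + A := by rw [hA, add_sub_cancel]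
  have hBu : ((b : GLw p d) : M2 p d) = 1 + B := by rw [hB, add_sub_cancel]
  rcases Nat.eq_zero_or_pos d with rfl | hd
  · exact absurd (Units.ext (Subsingleton.elim _ _)) hu1
  haveI : Nonempty (Fin d) := ⟨⟨0, hd⟩⟩
  haveI : CharP (M2 p d) p := inferInstance
  -- the squares of the words
  have hneg : ∀ y z : H0, ψ' y = up 1 → ψ' z = lo (-1) → ψ' (y * z * y * (y * z * y)) = -1 ∧
      ψ' (z * y * z * (z * y * z)) = -1 := fun y z hy hz => by
    simp only [map_mul, hy, hz]
    constructor <;> apply Qd.ext2 <;> simp [Qd.mul00, Qd.mul01, Qd.mul10, Qd.mul11]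
  obtain ⟨hw1, hw2⟩ := hneg a b hψa hψb
  have hcomm : ∀ w : H0, ψ' w = -1 → ∀ y : H0, y ^ p = 1 → w * y = y * w := by
    intro w hw y hy
    have h1 : w * y * w⁻¹ = y := huniq _ _ (by rw [conj_pow, hy, mul_one, mul_inv_cancel]) hy (by
      rw [map_mul, map_mul, map_inv, hw]
      apply Subtype.ext
      simp)
    conv_rhs => rw [← h1]
    rw [inv_mul_cancel_right]
  set i0 := a * b * a * (a * b * a) with hi0
  set j0 := b * a * b * (b * a * b) with hj0
  have hi0c : Commute ((1 + A) * (1 + B) * (1 + A) * ((1 + A) * (1 + B) * (1 + A))) A := by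
    have h1 := congrArg (fun y : H0 => ((y : GLw p d) : M2 p d)) (hcomm i0 hw1 a hap)
    simp only [hi0, Subgroup.coe_mul, Units.val_mul, hAu, hBu] at h1
    have h2 : Commute ((1 + A) * (1 + B) * (1 + A) * ((1 + A) * (1 + B) * (1 + A))) (1 + A) := h1
    simpa using h2.sub_right (Commute.one_right _)
  obtain ⟨hrA, hrB⟩ := word_rel (p := p) (show p ≠ 2 by omega) hq hbq hi0c
  obtain ⟨hee, hce, heA, heB, hfcA, hfcB, hfcc⟩ := idem_rel hq hbq hrA hrB
  set c := A * B + B * A with hc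
  set e := c * c with he
  set f := 1 - e with hf
  have hfA' : Commute f A := (Commute.one_left A).sub_left heA
  have hfB' : Commute f B := (Commute.one_left B).sub_left heB
  have hff : f * f = f := by rw [hf, mul_sub, mul_one, sub_mul, one_mul, hee, sub_self, sub_zero]
  have hef : e * f = 0 := by rw [hf, mul_sub, mul_one, hee, sub_self]
  clear_value c e f
  -- unipotent and prime to `p`, hence trivial on the part `f`
  have key : ∀ y z : H0, ∀ A' B' : M2 p d, A' * A' = 0 → B' * B' = 0 → A' * B' + B' * A' = c →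
      f * (c * A') = 0 → f * (c * B') = 0 → Commute f A' → Commute f B' →
      ((y : GLw p d) : M2 p d) = 1 + A' → ((z : GLw p d) : M2 p d) = 1 + B' →
      ψ' (y * z * y * (y * z * y)) = -1 → f * (4 * c + 4 * A' + 2 * B') = 0 := by
    intro y z A' B' hA' hB' hc' hA0 hB0 hcA' hcB' hy hz hw
    set w := y * z * y * (y * z * y) with hwdef
    set N := 4 * c + 4 * A' + 2 * B' with hN
    clear_value N
    have hfe : f * (c * c) = 0 := by rw [← he]; exact hfcc
    have hval : f * ((w : GLw p d) : M2 p d) = f * (1 + N) := by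
      simp only [hwdef, Subgroup.coe_mul, Units.val_mul, hy, hz, word_sq hA' hB', hc']
      rw [show f * (1 + 4 * c + 2 * (c * c) + 2 * ((1 + c) * ((2 + c) * A' + B')))
          = f * (1 + N) + 2 * (f * (c * c)) + (6 * (f * (c * A')) + 2 * (f * (c * B'))
            + 2 * ((f * (c * c)) * A')) by
        simp only [hN]
        noncomm_ring,
        hfe, hA0, hB0]
      simp
    have hNf : Commute N f := by
      have hcf : Commute c f := by rw [← hc']; exact ((hcA'.mul_right hcB').add_right (hcB'.mul_right hcA')).symm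
      rw [hN]; exact (((Commute.ofNat_left 4 f).mul_left hcf).add_left
        ((Commute.ofNat_left 4 f).mul_left hcA'.symm)).add_left ((Commute.ofNat_left 2 f).mul_left hcB'.symm)
    have hfN : f * (N * N * N) = 0 := by
      have hcA2 : A' * c = c * A' := by
        rw [← hc', mul_add, ← mul_assoc, hA', zero_mul, zero_add, ← mul_assoc, aba_eq hA']
      have hcB2 : B' * c = c * B' := by
        rw [← hc', mul_add, ← mul_assoc B' B' A', hB', zero_mul, add_zero, ← mul_assoc, bab_eq hB']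
      have h2 : f * (N * N) = 8 * (f * c) := by
        rw [show f * (N * N) = 16 * (f * (c * c)) + 16 * (f * (c * A')) + 8 * (f * (c * B'))
            + 16 * (f * (A' * c)) + 8 * (f * (B' * c)) + 16 * (f * (A' * A'))
            + 8 * (f * (A' * B' + B' * A')) + 4 * (f * (B' * B')) by simp only [hN]; noncomm_ring,
          hfe, hA0, hB0, hcA2, hcB2, hA0, hB0, hA', hB', hc']
        simp
      calc f * (N * N * N) = f * (N * N) * N := by noncomm_ring
        _ = 32 * (f * (c * c)) + 32 * (f * (c * A')) + 16 * (f * (c * B')) := by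
            rw [h2, hN]; noncomm_ring
        _ = 0 := by rw [hfe, hA0, hB0]; simp
    have hpow : ∀ j : ℕ, f * ((w : GLw p d) : M2 p d) ^ j = f * (1 + N) ^ j := by
      intro j
      induction j with
      | zero => simp
      | succ j ih =>
        rw [pow_succ, ← mul_assoc, ih, pow_succ]
        have hc2 : Commute ((1 + N) ^ j) f := ((Commute.one_left f).add_left hNf).pow_left j
        rw [← hc2.eq, mul_assoc, hval, ← mul_assoc]
        rw [hc2.eq, mul_assoc]
    -- the fixed subgroup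
    let T : Subgroup H0 :=
      { carrier := {y | f * ((y : GLw p d) : M2 p d) = f}
        one_mem' := by simp
        mul_mem' := fun {y z} hy hz => by
          show f * (((y * z : H0) : GLw p d) : M2 p d) = f
          rw [Subgroup.coe_mul, Units.val_mul, ← mul_assoc, show f * ((y : GLw p d) : M2 p d) = f from hy]
          exact hz
        inv_mem' := fun {y} hy => by
          show f * (((y⁻¹ : H0) : GLw p d) : M2 p d) = f
          conv_lhs => rw [← show f * ((y : GLw p d) : M2 p d) = f from hy]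
          rw [Subgroup.coe_inv, mul_assoc, Units.mul_inv, mul_one] }
    have hTp : w ^ p ∈ T := by
      show f * (((w ^ p : H0) : GLw p d) : M2 p d) = f
      rw [SubgroupClass.coe_pow, Units.val_pow_eq_pow_val, hpow, add_pow_char_of_commute p (Commute.one_left N),
        one_pow, mul_add, mul_one, show N ^ p = N * N * N * N ^ (p - 3) by
          rw [← pow_three', ← pow_add]; congr 1; omega,
        ← mul_assoc f, hfN, zero_mul, add_zero]
    obtain ⟨n, hn⟩ : ∃ n : ℕ, n = Nat.card ψ.ker := ⟨_, rfl⟩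
    have hT2 : w ^ (2 * n) ∈ T := by
      have hk : w * w ∈ ψ.ker := (hker' _).1 (by rw [map_mul, hw, neg_mul_neg, one_mul])
      have h3 : (w * w) ^ n = 1 := by
        rw [hn]; exact congrArg Subtype.val (pow_card_eq_one' (x := (⟨_, hk⟩ : ψ.ker)))
      rw [pow_mul, pow_two, h3]
      exact one_mem T
    have hco : Nat.gcd p (2 * n) = 1 := Nat.Coprime.mul_right
      ((hp.coprime_iff_not_dvd).2 fun hd => by have := Nat.le_of_dvd (by norm_num) hd; omega)
      (hn ▸ (hp.coprime_iff_not_dvd).2 hker)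
    have hwT : w ∈ T := by
      have hbez := Nat.gcd_eq_gcd_ab p (2 * n)
      rw [hco, Nat.cast_one] at hbez
      rw [← zpow_one w, hbez, _root_.zpow_add, _root_.zpow_mul, _root_.zpow_mul, zpow_natCast, zpow_natCast]
      exact mul_mem (zpow_mem hTp _) (zpow_mem hT2 _)
    have h4 : f * ((w : GLw p d) : M2 p d) = f := hwT
    rw [hval, mul_add, mul_one, add_eq_left] at h4
    exact h4
  have k1 := key a b A B hq hbq hc.symm hfcA hfcB hfA' hfB' hAu hBu hw1
  have k2 := key b a B A hbq hq (by rw [hc, add_comm]) hfcB hfcA hfB' hfA' hBu hAu hw2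
  have h2u : ∀ y : M2 p d, ∀ r : ℕ, 0 < r → r < p → r • y = 0 → y = 0 := fun y r hr hrp hy => by
    rw [← Nat.cast_smul_eq_nsmul (ZMod p)] at hy
    refine (smul_eq_zero.1 hy).resolve_left fun e => ?_
    have := Nat.le_of_dvd hr ((CharP.cast_eq_zero_iff (ZMod p) p _).1 e)
    omega
  have hfA : f * A = 0 := by
    have hAc : A * c = c * A := by rw [hc]; exact (sym_comm_left hq).eq.symm
    have e1 : A * (f * (4 * c + 4 * A + 2 * B)) = 4 * (f * (c * A)) + 4 * (f * (A * A)) + 2 * (f * (A * B)) := by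
      rw [← mul_assoc, ← hfA'.eq, mul_assoc, ← hAc]; noncomm_ring
    have e2 : f * (4 * c + 4 * A + 2 * B) * A = 4 * (f * (c * A)) + 4 * (f * (A * A)) + 2 * (f * (B * A)) := by
      noncomm_ring
    simp only [k1, hfcA, hq, mul_zero, zero_mul, zero_add] at e1 e2
    have e1' := h2u _ 2 (by norm_num) (by omega) (by rw [nsmul_eq_mul, Nat.cast_ofNat]; exact e1.symm)
    have e2' := h2u _ 2 (by norm_num) (by omega) (by rw [nsmul_eq_mul, Nat.cast_ofNat]; exact e2.symm)
    have hfc : f * c = 0 := by rw [hc, mul_add, e1', e2', add_zero]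
    have h6 : (6 : ℕ) • (f * A) = 0 := by
      rw [nsmul_eq_mul]
      calc ((6 : ℕ) : M2 p d) * (f * A)
          = 2 * (f * (4 * c + 4 * A + 2 * B)) - f * (4 * c + 4 * B + 2 * A) - 4 * (f * c) := by
            rw [Nat.cast_ofNat]; noncomm_ring
        _ = 0 := by rw [k1, k2, hfc]; simp
    exact h2u _ 3 (by norm_num) (by omega) (h2u _ 2 (by norm_num) (by omega) (by rw [smul_smul]; exact h6))
  have hfB : f * B = 0 := by
    have hfc : f * c = 0 := by
      rw [hc, mul_add, ← mul_assoc, hfA, zero_mul, zero_add, ← mul_assoc, hfB'.eq, mul_assoc, hfA, mul_zero]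
    refine h2u _ 2 (by norm_num) (by omega) ?_
    rw [nsmul_eq_mul, Nat.cast_ofNat]
    calc 2 * (f * B) = f * (4 * c + 4 * A + 2 * B) - 4 * (f * c) - 4 * (f * A) := by noncomm_ring
      _ = 0 := by rw [k1, hfc, hfA]; simp
  have hfAB : f * (A * B) = 0 := by rw [← mul_assoc, hfA, zero_mul]
  -- the representation of `SL₂(p)`
  have hce' : (A * B + B * A) * e = -e := by rw [← hc]; exact hce
  have hPhi := phi_mul hq hbq hee hce' heA heB
  have hPhi1 := phi_one hce'
  have hPf : ∀ s : Matrix (Fin 2) (Fin 2) (ZMod p), phi A B e s * f = 0 ∧ f * phi A B e s = 0 := by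
    intro s
    have hfe : f * e = 0 := by rw [hf, sub_mul, one_mul, hee, sub_self]
    constructor
    · simp only [phi, add_mul, smul_mul_assoc, neg_mul, mul_assoc, hef, mul_zero, neg_zero, smul_zero,
        add_zero]
    · simp only [phi, mul_add, mul_smul_comm, mul_neg]
      simp only [← mul_assoc, hfA, hfB, zero_mul, smul_zero, neg_zero, add_zero]
  let Ψ : Matrix (Fin 2) (Fin 2) (ZMod p) → M2 p d := fun s => phi A B e s + f
  have hΨ : ∀ s t, Ψ (s * t) = Ψ s * Ψ t := fun s t => by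
    simp only [Ψ, add_mul, mul_add, (hPf _).1, (hPf _).2, hff, hPhi, add_zero, zero_add]
  have hΨ1 : Ψ 1 = 1 := by simp only [Ψ, hPhi1, hf, add_sub_cancel]
  have hAe : A * e = A := by
    rw [← heA.eq, show e = 1 - f by rw [hf, sub_sub_cancel], sub_mul, one_mul, hfA, sub_zero]
  have hBe : B * e = B := by
    rw [← heB.eq, show e = 1 - f by rw [hf, sub_sub_cancel], sub_mul, one_mul, hfB, sub_zero]
  have hsum : -(A * B * e) + -(B * A * e) + f = 1 := by
    rw [← neg_add, ← add_mul, hce', neg_neg, hf, add_sub_cancel]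
  have hΨa : Ψ (up (1 : ZMod p)).1 = ((a : GLw p d) : M2 p d) := by
    simp only [Ψ, phi, Qd.up_coe, Matrix.of_apply, Matrix.cons_val', Matrix.cons_val_zero,
      Matrix.cons_val_one, Matrix.empty_val', Matrix.cons_val_fin_one, one_smul, zero_smul, add_zero]
    rw [hAu, hAe, ← hsum]; abel
  have hΨb : Ψ (lo (-1 : ZMod p)).1 = ((b : GLw p d) : M2 p d) := by
    simp only [Ψ, phi, Qd.lo_coe, Matrix.of_apply, Matrix.cons_val', Matrix.cons_val_zero,
      Matrix.cons_val_one, Matrix.empty_val', Matrix.cons_val_fin_one, one_smul, zero_smul, add_zero,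
      neg_smul, neg_neg]
    rw [hBu, hBe, ← hsum]; abel
  have hlift : ∀ s : Matrix.SpecialLinearGroup (Fin 2) (ZMod p),
      ∃ y : H0, ((y : GLw p d) : M2 p d) = Ψ s.1 := by
    intro s
    have h1 : s ∈ Submonoid.closure ({up (1 : ZMod p), lo (-1)} : Set _) := by
      rw [← Subgroup.closure_toSubmonoid_of_finite, Qd.closure_up_lo (neg_ne_zero.2 one_ne_zero)]
      trivial
    induction h1 using Submonoid.closure_induction with
    | mem x hx =>
      rcases hx with rfl | hx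
      · exact ⟨a, hΨa.symm⟩
      · rw [Set.mem_singleton_iff.1 hx]; exact ⟨b, hΨb.symm⟩
    | one => exact ⟨1, by simp [hΨ1]⟩
    | mul x y _ _ hx hy =>
      obtain ⟨x', hx'⟩ := hx
      obtain ⟨y', hy'⟩ := hy
      exact ⟨x' * y', by rw [Subgroup.coe_mul, Units.val_mul, hx', hy', Matrix.SpecialLinearGroup.coe_mul, hΨ]⟩
  -- the torus element
  obtain ⟨ζ, hζ⟩ := IsCyclic.exists_generator (α := (ZMod p)ˣ)
  let hd' : Matrix.SpecialLinearGroup (Fin 2) (ZMod p) :=
    ⟨!![(ζ : ZMod p), 0; 0, ((ζ⁻¹ : (ZMod p)ˣ) : ZMod p)], by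
      rw [Matrix.det_fin_two_of, mul_zero, sub_zero, Units.mul_inv]⟩
  obtain ⟨t, ht⟩ := hlift hd'
  have htv : ((t : GLw p d) : M2 p d)
      = (ζ : ZMod p) • (-(A * B * e)) + ((ζ⁻¹ : (ZMod p)ˣ) : ZMod p) • (-(B * A * e)) + f := by
    rw [ht]; simp [Ψ, phi, hd']
  have hΨpow : ∀ (s : Matrix.SpecialLinearGroup (Fin 2) (ZMod p)) (j : ℕ), Ψ (s ^ j).1 = Ψ s.1 ^ j := by
    intro s j
    induction j with
    | zero => simp [hΨ1]
    | succ j ih => rw [pow_succ, Matrix.SpecialLinearGroup.coe_mul, hΨ, ih, pow_succ]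
  refine ⟨(t : GLw p d), hHX t.2, ζ, fun j hj hjp h1 => ?_, Units.ext ?_, Units.ext ?_, fun v hv => ?_,
    ?_, fun v hv => ?_, ?_, ⟨H0, hHX, hHM, fun v hv htv' g hg => ?_⟩, ?_⟩
  · have h2 := orderOf_eq_card_of_forall_mem_zpowers hζ
    rw [Nat.card_eq_fintype_card, ZMod.card_units] at h2
    have := Nat.le_of_dvd hj (orderOf_dvd_of_pow_eq_one h1)
    omega
  · rw [Units.val_pow_eq_pow_val, ht, ← hΨpow]
    congr 1
    have hh : ∀ j : ℕ, (hd' ^ j).1 = !![(ζ : ZMod p) ^ j, 0; 0, ((ζ⁻¹ : (ZMod p)ˣ) : ZMod p) ^ j] := by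
      intro j
      induction j with
      | zero => simp [Matrix.one_fin_two]
      | succ j ih =>
        rw [pow_succ, Matrix.SpecialLinearGroup.coe_mul, ih]
        simp [hd', Matrix.mul_fin_two, pow_succ]
    rw [hh, ZMod.pow_card, ZMod.pow_card]
  · set N := ((ζ : ZMod p) * ζ).val with hN
    have hconj : hd' * up 1 = up (((ζ : ZMod p) * ζ)) * hd' := by
      apply Subtype.ext
      rw [Matrix.SpecialLinearGroup.coe_mul, Matrix.SpecialLinearGroup.coe_mul, Qd.up_coe, Qd.up_coe]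
      show !![(ζ : ZMod p), 0; 0, ((ζ⁻¹ : (ZMod p)ˣ) : ZMod p)] * _
        = _ * !![(ζ : ZMod p), 0; 0, ((ζ⁻¹ : (ZMod p)ˣ) : ZMod p)]
      rw [Matrix.mul_fin_two, Matrix.mul_fin_two]
      simp [mul_assoc]
    have hupN : Ψ (up ((ζ : ZMod p) * ζ)).1 = ((u ^ N : GLw p d) : M2 p d) := by
      rw [show up ((ζ : ZMod p) * ζ) = up (1 : ZMod p) ^ N by
        rw [Qd.up_pow, mul_one, hN, ZMod.natCast_zmod_val], hΨpow, hΨa, Units.val_pow_eq_pow_val]
    have h1 := congrArg Subtype.val hconj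
    rw [Matrix.SpecialLinearGroup.coe_mul, Matrix.SpecialLinearGroup.coe_mul] at h1
    have h2 := congrArg Ψ h1
    rw [hΨ, hΨ, ← ht, hΨa, hupN] at h2
    rw [Units.val_mul, Units.val_mul]
    rw [show ((a : GLw p d) : M2 p d) = (u : M2 p d) from rfl] at h2
    rw [h2, mul_assoc, Units.mul_inv, mul_one]
  · have hev : (B * A * e) *ᵥ v = 0 := by
      rw [mul_assoc, ← heA.eq, ← mul_assoc, ← Matrix.mulVec_mulVec, hv, Matrix.mulVec_zero]
    have hfA2 : f *ᵥ v + (-(A * B * e)) *ᵥ v = v := by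
      conv_rhs => rw [← Matrix.one_mulVec v, ← hsum]
      simp only [Matrix.add_mulVec, Matrix.neg_mulVec, hev, neg_zero, add_zero]
      abel
    have htv1 : ((t : GLw p d) : M2 p d) *ᵥ v = (ζ : ZMod p) • ((-(A * B * e)) *ᵥ v) + f *ᵥ v := by
      simp only [htv, Matrix.add_mulVec, Matrix.smul_mulVec, Matrix.neg_mulVec, hev, neg_zero,
        smul_zero, add_zero]
    have htf : ((t : GLw p d) : M2 p d) * f = f := by
      rw [ht]; simp only [Ψ, add_mul, (hPf _).1, hff, zero_add]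
    have h3 : (((t : GLw p d) : M2 p d) - (ζ : ZMod p) • 1) *ᵥ v = (1 - (ζ : ZMod p)) • (f *ᵥ v) := by
      rw [Matrix.sub_mulVec, Matrix.smul_mulVec, Matrix.one_mulVec, htv1]
      nth_rewrite 3 [← hfA2]
      module
    rw [← Matrix.mulVec_mulVec, h3, Matrix.mulVec_smul, Matrix.mulVec_mulVec, sub_mul, one_mul, htf,
      sub_self, Matrix.zero_mulVec, smul_zero]
  · show (((t : GLw p d) : M2 p d) - (ζ : ZMod p) • 1) * A = 0
    rw [sub_mul, smul_one_mul, htv, sub_eq_zero]
    have e1 : A * B * e * A = -A := by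
      rw [mul_assoc, heA.eq, ← mul_assoc, aba_eq hq, mul_assoc, ← heA.eq, ← mul_assoc, hce', neg_mul, heA.eq,
        hAe]
    have e2 : B * A * e * A = 0 := by rw [mul_assoc, heA.eq, ← mul_assoc, mul_assoc B A A, hq, mul_zero, zero_mul]
    simp only [add_mul, smul_mul_assoc, neg_mul, e1, e2, hfA, neg_neg, neg_zero, smul_zero, add_zero]
  · refine ⟨((ζ : ZMod p) - 1) • (-((B * e) *ᵥ v)), ?_⟩
    have hev : (B * A * e) *ᵥ v = 0 := by
      rw [mul_assoc, ← heA.eq, ← mul_assoc, ← Matrix.mulVec_mulVec, hv, Matrix.mulVec_zero]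
    have hfA2 : f *ᵥ v + (-(A * B * e)) *ᵥ v = v := by
      conv_rhs => rw [← Matrix.one_mulVec v, ← hsum]
      simp only [Matrix.add_mulVec, Matrix.neg_mulVec, hev, neg_zero, add_zero]
      abel
    rw [htv]
    simp only [Matrix.add_mulVec, Matrix.smul_mulVec, Matrix.neg_mulVec, hev, neg_zero, smul_zero, add_zero,
      Matrix.mulVec_smul, Matrix.mulVec_neg, Matrix.mulVec_mulVec, ← mul_assoc]
    rw [show f *ᵥ v = v - (-(A * B * e)) *ᵥ v from eq_sub_of_add_eq hfA2, Matrix.neg_mulVec]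
    module
  · have hlin : ∀ x : ZMod p, ((t : GLw p d) : M2 p d) - x • 1 =
        phi A B e !![(ζ : ZMod p) - x, 0; 0, ((ζ⁻¹ : (ZMod p)ˣ) : ZMod p) - x] + (1 - x) • f := by
      intro x
      rw [htv]
      conv_lhs => rw [← hsum]
      simp [phi]
      module
    have h1 := hlin 1
    rw [one_smul, sub_self, zero_smul, add_zero] at h1
    rw [h1, hlin, mul_add, mul_smul_comm, (hPf _).1, smul_zero, add_zero, ← hPhi, hlin, mul_add, mul_smul_comm,
      (hPf _).1, smul_zero, add_zero, ← hPhi]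
    simp [phi, Matrix.mul_fin_two]
  · -- fixed vectors
    have hev : (B * A * e) *ᵥ v = 0 := by
      rw [mul_assoc, ← heA.eq, ← mul_assoc, ← Matrix.mulVec_mulVec, hv, Matrix.mulVec_zero]
    have hfA2 : f *ᵥ v + (-(A * B * e)) *ᵥ v = v := by
      conv_rhs => rw [← Matrix.one_mulVec v, ← hsum]
      simp only [Matrix.add_mulVec, Matrix.neg_mulVec, hev, neg_zero, add_zero]
      abel
    have h11 : (-(A * B * e)) *ᵥ v = 0 := by
      have h1 := htv'
      rw [htv] at h1
      simp only [Matrix.add_mulVec, Matrix.smul_mulVec, Matrix.neg_mulVec, hev, neg_zero, smul_zero,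
        add_zero] at h1
      rw [Matrix.neg_mulVec] at hfA2 ⊢
      have h2 : ((ζ : ZMod p) - 1) • (-((A * B * e) *ᵥ v)) = 0 := by
        rw [sub_smul, one_smul, sub_eq_zero]
        refine add_right_cancel (b := f *ᵥ v) ?_
        rw [h1]
        rw [add_comm] at hfA2
        exact hfA2.symm
      refine (smul_eq_zero.1 h2).resolve_left fun e0 => ?_
      have h3 := orderOf_eq_card_of_forall_mem_zpowers hζ
      rw [show ζ = 1 from Units.ext (sub_eq_zero.1 e0), orderOf_one, Nat.card_eq_fintype_card,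
        ZMod.card_units] at h3
      omega
    rw [h11, add_zero] at hfA2
    -- the central involution commutes with the group
    have hE : ∀ y : H0, Commute f ((y : GLw p d) : M2 p d) := by
      intro y
      have hi0v : ((i0 : GLw p d) : M2 p d) = f - e := by
        have h1 : ((i0 : GLw p d) : M2 p d)
            = Ψ (up 1 * lo (-1) * up 1 * (up 1 * lo (-1) * up 1) : Matrix.SpecialLinearGroup (Fin 2) (ZMod p)).1 := by
          simp only [Matrix.SpecialLinearGroup.coe_mul, hΨ, hΨa, hΨb, hi0, Subgroup.coe_mul, Units.val_mul]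
        rw [h1, show (up 1 * lo (-1) * up 1 * (up 1 * lo (-1) * up 1) : Matrix.SpecialLinearGroup (Fin 2) (ZMod p)).1
          = -1 by
            rw [show (up 1 * lo (-1) * up 1 * (up 1 * lo (-1) * up 1) :
              Matrix.SpecialLinearGroup (Fin 2) (ZMod p)) = -1 from by
                apply Qd.ext2 <;> simp [Qd.mul00, Qd.mul01, Qd.mul10, Qd.mul11],
              Matrix.SpecialLinearGroup.coe_neg, Matrix.SpecialLinearGroup.coe_one]]
        simp only [Ψ]
        rw [show phi A B e (-1) = -phi A B e 1 by simp only [phi, Matrix.neg_apply, neg_smul]; abel,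
          hPhi1]
        abel
      have hmem : y ∈ centralizer ({i0} : Set H0) := by
        let C : Subgroup (GLw p d) := (centralizer ({i0} : Set H0) ⊓
          normalClosure ({a} : Set H0)).map H0.subtype
        have hnC : (centralizer ({i0} : Set H0)) ≥ normalClosure ({a} : Set H0) := by
          refine (Subgroup.closure_le _).2 ?_
          intro z hz
          obtain ⟨z₀, hz₀, hz₁⟩ := Group.mem_conjugatesOfSet_iff.1 hz
          rw [Set.mem_singleton_iff.1 hz₀] at hz₁
          obtain ⟨k, rfl⟩ := isConj_iff.1 hz₁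
          exact mem_centralizer_singleton_iff.2 (hcomm i0 hw1 _ (by
            rw [conj_pow, hap, mul_one, mul_inv_cancel])).symm
        have hN := hnc ((normalClosure ({a} : Set H0)).map H0.subtype)
          ⟨a, subset_normalClosure rfl, rfl⟩ (map_subtype_le _) (by
            rintro k hk _ ⟨n, hn, rfl⟩
            exact ⟨⟨k, hk⟩ * n * ⟨k, hk⟩⁻¹, normalClosure_normal.conj_mem n hn _, rfl⟩)
        obtain ⟨y', hy', hyy⟩ := hN.ge y.2
        rw [← (Subtype.ext hyy : y' = y)]
        exact hnC hy'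
      have h5 := congrArg (fun z : H0 => ((z : GLw p d) : M2 p d)) (mem_centralizer_singleton_iff.1 hmem)
      simp only [Subgroup.coe_mul, Units.val_mul, hi0v] at h5
      have h6 : Commute (f - e) ((y : GLw p d) : M2 p d) := h5.symm
      have h7 : Commute (f + f) ((y : GLw p d) : M2 p d) := by
        rw [show f + f = 1 + (f - e) by rw [hf]; abel]
        exact (Commute.one_left _).add_left h6
      show f * _ = _ * f
      refine sub_eq_zero.1 (h2u _ 2 (by norm_num) (by omega) ?_)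
      rw [two_nsmul, ← sub_eq_zero.2 h7.eq]
      noncomm_ring
    let N3 : Subgroup H0 :=
      { carrier := {y | ((y : GLw p d) : M2 p d) * f = f}
        one_mem' := by simp
        mul_mem' := fun {y z} hy hz => by
          show (((y * z : H0) : GLw p d) : M2 p d) * f = f
          rw [Subgroup.coe_mul, Units.val_mul, mul_assoc, show ((z : GLw p d) : M2 p d) * f = f from hz]
          exact hy
        inv_mem' := fun {y} hy => by
          show (((y⁻¹ : H0) : GLw p d) : M2 p d) * f = f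
          conv_lhs => rw [← show ((y : GLw p d) : M2 p d) * f = f from hy]
          rw [Subgroup.coe_inv, ← mul_assoc, Units.inv_mul, one_mul] }
    have hN3 := hnc (N3.map H0.subtype) ⟨a, ?_, rfl⟩ (map_subtype_le _) ?_
    · obtain ⟨y, hy, hyg⟩ := hN3.ge hg
      rw [← hfA2, ← hyg, Matrix.mulVec_mulVec]
      exact congrArg (· *ᵥ v) hy
    · show ((a : GLw p d) : M2 p d) * f = f
      rw [hAu, add_mul, one_mul, ← hfA'.eq, hfA, add_zero]
    · rintro k hk _ ⟨y, hy, rfl⟩
      refine ⟨⟨k, hk⟩ * y * ⟨k, hk⟩⁻¹, ?_, rfl⟩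
      show (((⟨k, hk⟩ * y * ⟨k, hk⟩⁻¹ : H0) : GLw p d) : M2 p d) * f = f
      simp only [Subgroup.coe_mul, Subgroup.coe_inv, Units.val_mul]
      have hkf := (hE (⟨k, hk⟩⁻¹)).eq
      simp only [Subgroup.coe_inv] at hkf
      rw [mul_assoc, ← hkf, ← mul_assoc, mul_assoc (k : M2 p d) _ f,
        show ((y : GLw p d) : M2 p d) * f = f from hy, ← (hE ⟨k, hk⟩).eq, mul_assoc,
        Units.mul_inv, mul_one]
  · have hne : B * A * e ≠ 0 := by
      intro h0
      refine hu1 (Units.ext ?_)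
      rw [Units.val_one, ← sub_eq_zero]
      show A = 0
      have h1 : A * (B * A * e) = -A := by
        rw [← mul_assoc, ← mul_assoc, aba_eq hq, mul_assoc, ← heA.eq, ← mul_assoc]
        rw [hce', neg_mul, heA.eq, hAe]
      rw [h0, mul_zero] at h1
      exact neg_eq_zero.1 h1.symm
    obtain ⟨j, hj⟩ : ∃ j, (B * A * e) *ᵥ Pi.single j 1 ≠ 0 := by
      by_contra hcon
      push Not at hcon
      exact hne (Matrix.ext_of_mulVec_single fun j => by rw [hcon j, Matrix.zero_mulVec])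
    refine ⟨_, hj, ?_⟩
    have h16 : B * A * e * (B * A * e) = -(B * A * e) := by
      have h1 := hPhi !![0, 0; 0, 1] !![0, 0; 0, 1]
      simpa [phi, Matrix.mul_fin_two] using h1.symm
    have h4 : A * B * e * (B * A * e) = 0 := by
      have h1 := hPhi !![1, 0; 0, 0] !![0, 0; 0, 1]
      simpa [phi, Matrix.mul_fin_two] using h1.symm
    have hfe : f * (B * A * e) = 0 := by
      rw [← mul_assoc, ← mul_assoc, hfB, zero_mul, zero_mul]
    have h5 : ((t : GLw p d) : M2 p d) * (B * A * e) = ((ζ⁻¹ : (ZMod p)ˣ) : ZMod p) • (B * A * e) := by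
      rw [htv]
      simp only [add_mul, smul_mul_assoc, neg_mul, h16, h4, hfe, neg_zero, smul_zero, neg_neg, zero_add,
        add_zero]
    rw [Matrix.mulVec_mulVec, h5, Matrix.smul_mulVec]

end CfsgLib.MCFusion
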