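import Mathlib.Algebra.Algebra.Basic
import Mathlib.Algebra.CharP.Lemmas
import Mathlib.Tactic.NoncommRing

/-!
# The algebra of two quadratic elements

If `A² = B² = 0` and the square of `(1+A)(1+B)(1+A)` commutes with `A`, then `c = AB + BA` satisfies
`(1+c) c² = 0`, and the part with `c = -1` carries matrix units.
-/

set_option autoImplicit false

namespace CfsgLib.MCFusion

variable {R : Type*} [Ring R] {A B : R}

theorem sym_comm_left (hA : A * A = 0) : Commute (A * B + B * A) A := by
  show (A * B + B * A) * A = A * (A * B + B * A)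
  rw [add_mul, mul_add, mul_assoc B A A, hA, mul_zero, add_zero, ← mul_assoc A A B, hA, zero_mul,
    zero_add, mul_assoc]

theorem sym_comm_right (hB : B * B = 0) : Commute (A * B + B * A) B := by
  rw [add_comm]; exact sym_comm_left hB

theorem aba_eq (hA : A * A = 0) : A * B * A = (A * B + B * A) * A := by
  rw [add_mul, mul_assoc B A A, hA, mul_zero, add_zero]

theorem bab_eq (hB : B * B = 0) : B * A * B = (A * B + B * A) * B := by
  rw [add_mul, mul_assoc A B B, hB, mul_zero, zero_add]

/-- The word `(1+A)(1+B)(1+A)` and its square. -/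
theorem word_sq (hA : A * A = 0) (hB : B * B = 0) :
    let c := A * B + B * A
    let X := (2 + c) * A + B
    (1 + A) * (1 + B) * (1 + A) * ((1 + A) * (1 + B) * (1 + A))
      = 1 + 4 * c + 2 * (c * c) + 2 * ((1 + c) * X) := by
  intro c X
  have hcA : Commute c A := sym_comm_left hA
  have hcB : Commute c B := sym_comm_right hB
  have hw : (1 + A) * (1 + B) * (1 + A) = 1 + c + X := by
    have : (1 + A) * (1 + B) * (1 + A) = 1 + c + (2 * A + A * B * A + B) + A * A := by
      simp only [c]; noncomm_ring
    rw [this, hA, add_zero, aba_eq hA]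
    simp only [X, c]
    noncomm_ring
  have hcX : Commute c X :=
    (((Commute.ofNat_right c 2).add_right (Commute.refl c)).mul_right hcA).add_right hcB
  have hX2 : X * X = (2 + c) * c := by
    have h2A : Commute (2 + c) A := (Commute.ofNat_left 2 A).add_left hcA
    have h2B : Commute (2 + c) B := (Commute.ofNat_left 2 B).add_left hcB
    calc X * X = (2 + c) * A * ((2 + c) * A) + (2 + c) * A * B + B * ((2 + c) * A) + B * B := by
          simp only [X]; noncomm_ring
      _ = (2 + c) * (2 + c) * (A * A) + (2 + c) * (A * B) + (2 + c) * (B * A) + B * B := by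
          rw [← mul_assoc B (2 + c) A, ← h2B.eq, mul_assoc (2 + c) A ((2 + c) * A),
            ← mul_assoc A (2 + c) A, ← h2A.eq]
          noncomm_ring
      _ = (2 + c) * c := by
          rw [hA, hB, mul_zero, zero_add, add_zero, ← mul_add]
  rw [hw, show (1 + c + X) * (1 + c + X)
    = (1 + c) * (1 + c) + (1 + c) * X + X * (1 + c) + X * X by noncomm_ring,
    ← ((Commute.one_left X).add_left hcX).eq, hX2]
  noncomm_ring

/-- The relation when the square of the word commutes with `A`. -/
theorem word_rel {p : ℕ} [Fact p.Prime] [CharP R p] (hp : p ≠ 2) (hA : A * A = 0) (hB : B * B = 0)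
    (hcm : Commute ((1 + A) * (1 + B) * (1 + A) * ((1 + A) * (1 + B) * (1 + A))) A) :
    let c := A * B + B * A
    (1 + c) * c * A = 0 ∧ (1 + c) * c * B = 0 := by
  intro c
  rw [word_sq hA hB] at hcm
  set X := (2 + c) * A + B with hX
  have hcA : Commute c A := sym_comm_left hA
  have hcB : Commute c B := sym_comm_right hB
  have h4 : Commute (1 + 4 * c + 2 * (c * c)) A :=
    ((Commute.one_left A).add_left ((Commute.ofNat_left 4 A).mul_left hcA)).add_left
      ((Commute.ofNat_left 2 A).mul_left (hcA.mul_left hcA))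
  have h1 : Commute (2 * ((1 + c) * X)) A := by
    have := hcm.sub_left h4
    rwa [add_sub_cancel_left] at this
  have h2 : (1 + c) * (B * A - A * B) * 2 = 0 := by
    have h3 := sub_eq_zero.2 h1.eq
    rw [← h3, ← sub_eq_zero]
    have hc1 : Commute (1 + c) A := (Commute.one_left A).add_left hcA
    have h2A : A * (2 + c) = (2 + c) * A := ((Commute.ofNat_left 2 A).add_left hcA).eq.symm
    calc (1 + c) * (B * A - A * B) * 2 - (2 * ((1 + c) * X) * A - A * (2 * ((1 + c) * X)))
        = (1 + c) * (B * A - A * B) * 2 -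
            (2 * ((1 + c) * (X * A)) - 2 * ((1 + c) * (A * X))) := by
          rw [show A * (2 * ((1 + c) * X)) = 2 * ((1 + c) * (A * X)) by
            rw [← mul_assoc A 2, ← (Commute.ofNat_left 2 A).eq, mul_assoc 2 A, ← mul_assoc A (1 + c),
              ← hc1.eq, mul_assoc (1 + c) A X]]
          noncomm_ring
      _ = (1 + c) * ((2 + c) * (A * A)) * (-2) + (1 + c) * ((A * (2 + c)) * A) * 2 := by
          simp only [hX]; noncomm_ring
      _ = 0 := by rw [h2A, mul_assoc (2 + c) A A, hA]; simp
  have hu : IsUnit (2 : R) := by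
    obtain ⟨r, hr⟩ := ((Fact.out : p.Prime).eq_two_or_odd'.resolve_left hp).add_one
    refine ⟨⟨2, (r : R), ?_, ?_⟩, rfl⟩
    · rw [two_mul, ← Nat.cast_add, ← hr, Nat.cast_add, CharP.cast_eq_zero, Nat.cast_one, zero_add]
    · rw [mul_two, ← Nat.cast_add, ← hr, Nat.cast_add, CharP.cast_eq_zero, Nat.cast_one, zero_add]
  have h5 : (1 + c) * (B * A - A * B) = 0 := hu.mul_left_eq_zero.1 h2
  constructor
  · calc (1 + c) * c * A = (1 + c) * (A * B * A) := by rw [aba_eq hA, mul_assoc]
      _ = A * ((1 + c) * (B * A - A * B)) + (1 + c) * (A * A) * B := by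
          rw [← mul_assoc A (1 + c), ← ((Commute.one_left A).add_left hcA).eq]
          noncomm_ring
      _ = 0 := by rw [h5, hA]; simp
  · calc (1 + c) * c * B = (1 + c) * (B * A * B) := by rw [bab_eq hB, mul_assoc]
      _ = -(B * ((1 + c) * (B * A - A * B))) + (1 + c) * (B * B) * A := by
          rw [← mul_assoc B (1 + c), ← ((Commute.one_left B).add_left hcB).eq]
          noncomm_ring
      _ = 0 := by rw [h5, hB]; simp

/-- The idempotent `c²` and the matrix units below it. -/
theorem idem_rel (hA : A * A = 0) (hB : B * B = 0)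
    (hrA : (1 + (A * B + B * A)) * (A * B + B * A) * A = 0)
    (hrB : (1 + (A * B + B * A)) * (A * B + B * A) * B = 0) :
    let c := A * B + B * A
    let e := c * c
    e * e = e ∧ c * e = -e ∧ Commute e A ∧ Commute e B ∧
      (1 - e) * (c * A) = 0 ∧ (1 - e) * (c * B) = 0 ∧ (1 - e) * (c * c) = 0 := by
  intro c e
  have hcA : Commute c A := sym_comm_left hA
  have hcB : Commute c B := sym_comm_right hB
  have h3 : (1 + c) * (c * c) = 0 :=
    calc (1 + c) * (c * c) = (1 + c) * c * A * B + (1 + c) * c * B * A := by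
          simp only [c]; noncomm_ring
      _ = 0 := by rw [hrA, hrB]; simp
  have hce : c * e = -e := by
    rw [eq_neg_iff_add_eq_zero]
    calc c * e + e = (1 + c) * (c * c) := by simp only [e]; noncomm_ring
      _ = 0 := h3
  have hee : e * e = e := by
    calc e * e = c * (c * e) := by simp only [e]; noncomm_ring
      _ = e := by rw [hce, mul_neg, hce, neg_neg]
  refine ⟨hee, hce, hcA.mul_left hcA, hcB.mul_left hcB, ?_, ?_, ?_⟩
  · calc (1 - e) * (c * A) = (1 - c) * ((1 + c) * c * A) := by simp only [e]; noncomm_ring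
      _ = 0 := by rw [hrA, mul_zero]
  · calc (1 - e) * (c * B) = (1 - c) * ((1 + c) * c * B) := by simp only [e]; noncomm_ring
      _ = 0 := by rw [hrB, mul_zero]
  · rw [sub_mul, one_mul]
    show e - e * e = 0
    rw [hee, sub_self]

end CfsgLib.MCFusion
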