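import Cfsg.Agent.Lib.MaxClassFusion.Induct
import Cfsg.Agent.Lib.Fusion.System.LineTorus
import Cfsg.Agent.Lib.Fusion.System.EssentialCube

/-!
# An involutory torus on an extraspecial essential subgroup of order `p³`

An automorphism inverting the quotient by the centre and fixing the centre, normalising the
conjugations by the normalizer, hence extending to the normalizer.
-/

set_option autoImplicit false
set_option linter.style.haveILetI false
set_option linter.unusedSectionVars false

open Subgroup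
open scoped commutatorElement Classical

namespace CfsgLib.MCFusion

open Cfsg (FusionSystem autInducedBy)
open Cfsg.FusionSystem (normalizerIn centralizerIn)
open CfsgLib.Fusion
open CfsgLib.MaxClassShift (gam gam_normal gam_anti gam_one gam_comm)
open CfsgLib.MaxClassUniform (Uniform gam_le_twoStepAt)
open CfsgLib.PGroup.MaxClassRank (twoStepAt)
open CfsgLib.MaxClassEss

universe u

variable {Ω : Type u} [Group Ω] {S : Subgroup Ω} [Finite S] {p n : ℕ} [hpf : Fact p.Prime]
  {F : FusionSystem S} {E : Subgroup Ω}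

/-- The shape of a nonabelian essential subgroup of order `p³` with a uniform element. -/
structure CubeShape (p n : ℕ) (E : Subgroup Ω) (e : S) : Prop where
  le : E ≤ S
  card : Nat.card E = p ^ 3
  uniform : Uniform e p n
  six : 6 ≤ n
  mem : e ∈ E.subgroupOf S
  inf : E.subgroupOf S ⊓ lev S 1 = gam S (n - 2)
  centre : ∀ z : E, z ∈ Subgroup.center E ↔ ∃ z' ∈ gam S (n - 1), (z' : Ω) = (z : Ω)
  nab : ∃ a b : E, a * b ≠ b * a

/-- An essential subgroup of order `p³` with a uniform element meets the first two step centralizer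
in the second centre. -/
theorem exists_cubeShape (hS : IsPGroup p S) (hn : Nat.card S = p ^ n) (h6 : 6 ≤ n)
    (hE : F.IsEssential p E) (hcard : Nat.card E = p ^ 3) (hnab : ∃ a b : E, a * b ≠ b * a) {e : S}
    (he : e ∈ E.subgroupOf S) (hu : Uniform e p n) : CubeShape p n E e := by
  have hp := hpf.out
  have hES := hE.1.1
  haveI := finite_of_le hES
  haveI := lev_normal hu 1
  have hcardE : Nat.card (E.subgroupOf S) = p ^ 3 := by
    rw [Nat.card_congr (subgroupOfEquivOfLe hES).toEquiv, hcard]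
  have hZ : gam S (n - 1) ≤ E.subgroupOf S := fun z hz =>
    mem_subgroupOf.2 (MaxClassEss.centralizer_le hE z.2 fun c hc =>
      congrArg Subtype.val (comm_gam_central hu hz (⟨c, hES hc⟩ : S)))
  have heA : e ∉ lev S 1 := by rw [lev_one]; exact uniform_notMem hu le_rfl (by omega)
  set K := E.subgroupOf S ⊓ lev S 1 with hK
  have hKe : ∀ k ∈ K, e * k * e⁻¹ ∈ K := fun k hk =>
    ⟨(E.subgroupOf S).mul_mem ((E.subgroupOf S).mul_mem he hk.1) ((E.subgroupOf S).inv_mem he), (inferInstance : (lev S 1).Normal).conj_mem k hk.2 e⟩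
  have hKc : Nat.card K = p ^ 2 := by
    have h1 := card_mul_index (K.subgroupOf (E.subgroupOf S))
    rw [Nat.card_congr (subgroupOfEquivOfLe (inf_le_left : K ≤ E.subgroupOf S)).toEquiv, hcardE] at h1
    have h2 : (K.subgroupOf (E.subgroupOf S)).index = p := by
      have hdvd : K.relIndex (E.subgroupOf S) ∣ p := by
        rw [hK, inf_relIndex_left, ← index_twoStepAt hu le_rfl (show 2 + 2 ≤ n by omega), ← lev_one]
        exact relIndex_dvd_index_of_normal (lev S 1) (E.subgroupOf S)
      rcases (Nat.dvd_prime hp).1 hdvd with h | h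
      · exact absurd ((relIndex_eq_one.1 h) he).2 heA
      · exact h
    rw [h2, pow_succ] at h1
    exact Nat.eq_of_mul_eq_mul_right hp.pos h1
  have hK2 : K ≤ gam S 2 := by
    by_contra hnot
    have h2 := gam_two_le_of_inv hu (by omega) le_rfl (show 2 + 2 ≤ n by omega) K hKe
      (fun k hk => lev_one (G := S) ▸ hk.2) hnot
    have h3 := card_le_of_le h2
    rw [hu.card_gam le_rfl (by omega), hKc, Nat.pow_le_pow_iff_right hp.one_lt] at h3
    omega
  obtain ⟨l, hl2, hln, hl⟩ := inf_gam_two hu K hKe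
  rw [inf_eq_left.2 hK2] at hl
  have hl' : l = n - 2 := by
    have h3 := hKc
    rw [hl, hu.card_gam hl2 hln] at h3
    have := Nat.pow_right_injective hp.two_le h3
    omega
  subst hl'
  refine ⟨hES, hcard, hu, h6, he, hl, ?_, hnab⟩
  obtain ⟨a, b, hab⟩ := hnab
  obtain ⟨hZc, -, -⟩ := EssentialCube.center_data hcard hab
  intro z
  constructor
  · intro hz
    let f : gam S (n - 1) → center E := fun w => ⟨⟨((w : S) : Ω), mem_subgroupOf.1 (hZ w.2)⟩,
      mem_center_iff.2 fun c => Subtype.ext
        (congrArg Subtype.val (comm_gam_central hu w.2 (⟨c, hES c.2⟩ : S)) :)⟩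
    have hf : Function.Injective f := fun w w' h =>
      Subtype.ext (Subtype.ext (congrArg (fun q : center E => ((q : E) : Ω)) h))
    have hc : Nat.card (gam S (n - 1)) = Nat.card (center E) := by
      rw [hZc, hu.card_gam (by omega) (by omega), show n - (n - 1) = 1 by omega, pow_one]
    obtain ⟨w, hw⟩ := ((Nat.bijective_iff_injective_and_card f).2 ⟨hf, hc⟩).2 ⟨z, hz⟩
    exact ⟨w, w.2, congrArg (fun q : center E => ((q : E) : Ω)) hw⟩
  · rintro ⟨z', hz', he'⟩
    refine mem_center_iff.2 fun c => Subtype.ext ?_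
    show (c : Ω) * (z : Ω) = (z : Ω) * (c : Ω)
    rw [← he']
    exact congrArg Subtype.val (comm_gam_central hu hz' (⟨c, hES c.2⟩ : S))

variable {e : S}

/-- The torus of order two. -/
theorem exists_neg_auto (hS : IsPGroup p S) (hF : F.IsSaturated p) (hE : F.IsEssential p E)
    (C : CubeShape p n E e) :
    ∃ f : Ω → Ω, IsMap F (normalizerIn S E) f ∧ (∀ x ∈ E, f x ∈ E) ∧
      (∀ x : E, ∃ w ∈ gam S (n - 1), (w : Ω) = (x : Ω) * f x) ∧
      ∀ z ∈ gam S (n - 1), f (z : Ω) = z := by
  have hp := hpf.out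
  have h6 := C.six
  have hx := C.uniform
  haveI := finite_of_le C.le
  haveI := finite_mulAut (P := E)
  obtain ⟨a, b, hab⟩ := C.nab
  obtain ⟨hZc, hcom, -⟩ := EssentialCube.center_data C.card hab
  obtain ⟨hcore, hdvd⟩ := EssentialCube.autGroup_data hS hE
  set X := F.autGroup E with hX
  set Q := autInducedBy S E with hQ
  set R := Subgroup.center E with hR
  set L : Subgroup E := (gam S (n - 2)).map S.subtype |>.subgroupOf E with hL
  have hgE : gam S (n - 2) ≤ E.subgroupOf S := C.inf.ge.trans inf_le_left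
  have hLm : ∀ c : E, c ∈ L ↔ ∃ r ∈ gam S (n - 2), (r : Ω) = (c : Ω) := fun c => by
    rw [hL, mem_subgroupOf]
    exact Iff.rfl
  have hRL : R ≤ L := fun c hc => by
    obtain ⟨z, hz, hzc⟩ := (C.centre c).1 hc
    exact (hLm c).2 ⟨z, gam_anti (by omega) hz, hzc⟩
  have hLc : Nat.card L = p ^ 2 := by
    rw [hL, Nat.card_congr (subgroupOfEquivOfLe (show (gam S (n - 2)).map S.subtype ≤ E by
      rintro _ ⟨r, hr, rfl⟩; exact mem_subgroupOf.1 (hgE hr))).toEquiv,
      card_map_of_injective S.subtype_injective, hx.card_gam (by omega) (by omega)]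
    congr 1; omega
  have hinvR : LineTorus.Inv X R := fun α _ c hc => mem_center_iff.2 fun d => by
    obtain ⟨d', rfl⟩ := α.surjective d
    rw [← map_mul, ← map_mul, mem_center_iff.1 hc d']
  have hXP : Q ≤ X := autInducedBy_le_autGroup C.le
  have hP : LineTorus.Plane p X Q R L := by
    refine ⟨hXP, isPGroup_autInducedBy hS, ((isFullyAutomized_iff hS).1
      (IsSaturated.automized_receptive hS hF hE.2.1).1).2, inferInstance, fun c d => ?_, hinvR, hRL,
      by rw [hLc, hR, hZc, sq], by rw [hLc, C.card, pow_succ' p 2], ?_, ?_⟩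
    · rw [← hcom, commutator_def]
      exact commutator_mem_commutator (mem_top c) (mem_top d)
    · intro α hα c hc
      obtain ⟨g, hg, hge⟩ := mem_autInducedBy_iff.1 hα
      obtain ⟨r, hr, hrc⟩ := (hLm c).1 hc
      refine (hLm _).2 ⟨⟨g, hg⟩ * r * ⟨g, hg⟩⁻¹, (gam_normal (n - 2)).conj_mem r hr _, ?_⟩
      rw [← autFun_coe α c, hge _ c.2, ← hrc]
      rfl
    · obtain ⟨w, hw, hw'⟩ := exists_layer hx (k := n - 3) (by omega) (by omega)
      rw [show n - 3 + 1 = n - 2 by omega] at hw'
      have hwN : (w : Ω) ∈ normalizer (E : Set Ω) := by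
        have h1 : ∀ c ∈ E.subgroupOf S, w * c * w⁻¹ ∈ E.subgroupOf S := fun c hc => by
          rw [show w * c * w⁻¹ = ⁅w, c⁆ * c by rw [commutatorElement_def]; group]
          refine (E.subgroupOf S).mul_mem (hgE ?_) hc
          have := gam_comm (a := n - 3) (b := 1) (by omega) le_rfl hw (mem_top c)
          rwa [show n - 3 + 1 = n - 2 by omega] at this
        have h2 : w ∈ normalizer ((E.subgroupOf S : Subgroup S) : Set S) := mem_normalizer_fintype h1
        have h3 := Fusion.MaxClassCubeSystem.mem_sub.2 h2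
        rw [Fusion.MaxClassCubeSystem.sub_normalizer, Fusion.MaxClassCubeSystem.sub_subgroupOf C.le] at h3
        exact h3.2
      refine ⟨conjAut (w : Ω) hwN, conjAut_mem w.2 hwN, ⟨(e : Ω), mem_subgroupOf.1 C.mem⟩, fun hm => ?_⟩
      obtain ⟨z, hz, hze⟩ := (C.centre _).1 hm
      have h1 := comm_lev_succ hx (by omega) (show 1 ≤ n - 3 by omega) (by omega) (v := w)
        (by rw [lev_eq (by omega)]; exact hw) (by rwa [show n - 3 + 1 = n - 2 by omega])
      refine h1 ?_
      rw [show n - 3 + 2 = n - 1 by omega]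
      have hz2 : z = e⁻¹ * (w * e * w⁻¹) := Subtype.ext (by
        rw [hze]
        show (e : Ω)⁻¹ * ((conjAut (w : Ω) hwN ⟨(e : Ω), _⟩ : E) : Ω) = _
        rw [← autFun_coe, autFun_conjAut _ (mem_subgroupOf.1 C.mem)]
        rfl)
      have e1 : ⁅e, w⁆ = e * z⁻¹ * e⁻¹ := by rw [hz2, commutatorElement_def]; group
      rw [e1]
      exact (gam_normal (n - 1)).conj_mem _ (inv_mem hz) e
  have hCnot : ¬ LineTorus.Inv X L := fun hi => by
    rcases EssentialCube.no_line C.card hab X hcore hdvd (P := L) hRL (fun g hg y hy => hi g hg y hy) with h | h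
    · have h1 := hLc
      rw [h, hZc] at h1
      exact absurd h1 (lt_self_pow₀ hp.one_lt one_lt_two).ne
    · have h1 := hLc
      rw [h, card_top, C.card] at h1
      exact absurd (Nat.pow_right_injective hp.two_le h1) (by omega)
  obtain ⟨t, ht, hneg, htc⟩ := hP.exists_neg hCnot
  have htX := LineTorus.pGen_le ht
  have hsec : LineTorus.Sec p X R (⊥ : Subgroup E) :=
    ⟨bot_le, inferInstance, by rw [card_bot, mul_one, hR, hZc], hinvR, LineTorus.inv_bot⟩
  have hfixR : ∀ α ∈ LineTorus.pGen p X, ∀ c ∈ R, α c = c := fun α hα c hc =>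
    (inv_mul_eq_one.1 (mem_bot.1 (LineTorus.pGen_fix hsec hα c hc))).symm
  have hQfix : ∀ α ∈ Q, ∀ c ∈ R, α c = c := fun α hα =>
    hfixR α (LineTorus.le_pGen hP.qle hP.isP hα)
  have hInnQ : Cfsg.Inn E ≤ Q := by
    rw [inn_eq_autInducedBy]
    intro α hα
    obtain ⟨g, hg, hge⟩ := mem_autInducedBy_iff.1 hα
    exact mem_autInducedBy_iff.2 ⟨g, C.le hg, hge⟩
  have hnormQ : ∀ q ∈ Q, t * q * t⁻¹ ∈ Q := by
    intro q hq
    let Cs : ℕ → Subgroup E := fun i => if i = 0 then ⊤ else if i = 1 then R else ⊥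
    have hin : ⁅t, q⁆ ∈ Cfsg.Inn E := by
      refine LineTorus.stab_inner (IsPGroup.of_card C.card) hcore Cs 2 rfl rfl (fun i => ?_)
        (mul_mem (mul_mem (mul_mem htX (hXP hq)) (inv_mem htX)) (inv_mem (hXP hq))) fun i hi c hc => ?_
      · show LineTorus.Inv X (if i = 0 then ⊤ else if i = 1 then R else ⊥)
        split_ifs
        · exact LineTorus.inv_top
        · exact hinvR
        · exact LineTorus.inv_bot
      · rcases (show i = 0 ∨ i = 1 by omega) with rfl | rfl
        · exact htc q (hXP hq) c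
        · have hc' : c ∈ R := hc
          show c⁻¹ * ⁅t, q⁆ c ∈ (⊥ : Subgroup E)
          rw [mem_bot, inv_mul_eq_one, commutatorElement_def, MulAut.mul_apply, MulAut.mul_apply,
            MulAut.mul_apply]
          have h1 : ∀ α ∈ X, (∀ d ∈ R, α d = d) → ∀ d ∈ R, α⁻¹ d = d := fun α _ hα d hd => by
            conv_lhs => rw [← hα d hd]
            exact MulAut.inv_apply_self _ _ _
          rw [h1 q (hXP hq) (hQfix q hq) c hc', h1 t htX (hfixR t ht) c hc', hQfix q hq c hc',
            hfixR t ht c hc']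
    have := mul_mem (hInnQ hin) hq
    rwa [commutatorElement_def, inv_mul_cancel_right] at this
  obtain ⟨f, hf, hfa⟩ := (isReceptive_iff.1 (IsSaturated.automized_receptive hS hF hE.2.1).2).2 E _
    ((mem_autGroup_iff C.le).1 htX) (img_autFun t)
  have hle : normalizerIn S E ≤ extSub S E (autFun t) := by
    intro g hg
    obtain ⟨k, hk, hke⟩ := mem_autInducedBy_iff.1 (hnormQ _ (conjAut_mem hg.1 hg.2))
    refine mem_extSub.2 ⟨hg, k, hk, fun y hy => ?_⟩
    have h1 := hke _ (autFun_mem t hy)
    rw [autFun_mul _ _ (autFun_mem t hy), ← autFun_mul _ _ hy, inv_mul_cancel, autFun_one hy,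
      autFun_mul _ _ hy, autFun_conjAut _ hy] at h1
    exact h1
  refine ⟨f, hf.mono hle, fun y hy => by rw [hfa y hy]; exact autFun_mem t hy, fun y => ?_, fun z hz => ?_⟩
  · obtain ⟨w, hw, hwe⟩ := (C.centre _).1 (hneg y)
    exact ⟨w, hw, by rw [hwe, hfa _ y.2, autFun_coe]; rfl⟩
  · have hzE : (z : Ω) ∈ E := mem_subgroupOf.1 (hgE (gam_anti (by omega) hz))
    rw [hfa _ hzE, autFun_apply t hzE,
      hfixR t ht ⟨(z : Ω), hzE⟩ ((C.centre _).2 ⟨z, hz, rfl⟩)]

end CfsgLib.MCFusion
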