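import Cfsg.Agent.Lib.MaxClassFusion.Layers
import Cfsg.Agent.Lib.MaxClassEss.IndexOne
import Cfsg.Agent.Lib.MaxClassEss.Frattini

/-!
# Weights of an automorphism of a group of maximal class

An automorphism acts on `G / Γ₁` and on `Γ₁ / γ₂` by exponents `a` and `b`, hence on the layer `i`
by `b a^(i-1)`; if both exponents are one it has `p`-power order.
-/

set_option autoImplicit false
set_option linter.style.haveILetI false
set_option linter.unusedSectionVars false

open Subgroup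
open scoped commutatorElement Classical

namespace CfsgLib.MCFusion

open CfsgLib.MaxClassShift (gam gam_normal gam_anti gam_one gam_comm)
open CfsgLib.MaxClassUniform (Uniform gam_le_twoStepAt)
open CfsgLib.PGroup.MaxClassRank (twoStepAt layer_gen pow_mem_two)
open CfsgLib.MaxClassEss

universe u

variable {G : Type u} [Group G] [Finite G] {p n : ℕ} [hpf : Fact p.Prime] {x : G}
  (h : Uniform x p n) {Φ : MulAut G} {a b : ℤ}

include h

theorem map_lev_mem (Φ : MulAut G) {i : ℕ} {v : G} (hv : v ∈ lev G i) : Φ v ∈ lev G i := by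
  unfold lev at hv ⊢
  split_ifs at hv ⊢
  · exact twoStepAt_apply Φ hv
  · exact CfsgLib.MaxClassWeight.map_gam_le (Φ : G →* G) hv

/-- The `p`-th power falls one layer. -/
theorem pow_mem_lev_succ (h4 : 4 ≤ n) {i : ℕ} (hi : 1 ≤ i) (hin : i < n) {v : G} (hv : v ∈ lev G i) :
    v ^ p ∈ gam G (i + 1) := by
  rcases hi.eq_or_lt with rfl | hi2
  · exact pow_mem_two h.isPGroup h.card h.three h.class_eq v
  · rw [lev_eq hi2] at hv
    have h1 := (h.pow_shift n i hi2 (by omega) v hv).1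
    exact gam_anti (by have := hpf.out.two_le; omega) h1

/-- A power lands one layer deeper only for exponents divisible by `p`. -/
theorem dvd_of_zpow_mem (h4 : 4 ≤ n) {i : ℕ} (hi : 1 ≤ i) (hin : i < n) {v : G} (hv : v ∈ lev G i)
    (hv' : v ∉ gam G (i + 1)) {e : ℤ} (he : v ^ e ∈ gam G (i + 1)) : (p : ℤ) ∣ e := by
  by_contra hnd
  refine hv' ?_
  obtain ⟨r, s, hrs⟩ : ∃ r s : ℤ, r * (p : ℤ) + s * e = 1 :=
    ((Nat.prime_iff_prime_int.1 hpf.out).coprime_iff_not_dvd.2 hnd : IsCoprime (p : ℤ) e)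
  have e1 : v = (v ^ p) ^ r * (v ^ e) ^ s := by
    rw [← zpow_natCast, ← zpow_mul, ← zpow_mul, ← zpow_add, mul_comm _ r, mul_comm e s, hrs, zpow_one]
  rw [e1]
  exact mul_mem (zpow_mem (pow_mem_lev_succ h h4 hi hin hv) r) (zpow_mem he s)

/-- An element of a layer outside the next generates it. -/
theorem exists_zpow_lev (h4 : 4 ≤ n) {i : ℕ} (hi : 1 ≤ i) (hin : i < n) {v : G} (hv : v ∈ lev G i)
    (hv' : v ∉ gam G (i + 1)) {w : G} (hw : w ∈ lev G i) : ∃ e : ℤ, (v ^ e)⁻¹ * w ∈ gam G (i + 1) := by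
  rcases hi.eq_or_lt with rfl | hi2
  · haveI : (gam G 2).Normal := gam_normal 2
    rw [lev_one_gen h h4 hv hv', mem_sup_of_normal_right] at hw
    obtain ⟨y, hy, z, hz, rfl⟩ := hw
    obtain ⟨e, rfl⟩ := mem_zpowers_iff.1 hy
    exact ⟨e, by rwa [inv_mul_cancel_left]⟩
  · rw [lev_eq hi2] at hv hw
    exact layer_gen h.isPGroup h.card h.three h.class_eq hi2 hin hv hv' hw

theorem exists_notMem_succ (h4 : 4 ≤ n) {i : ℕ} (hi : 1 ≤ i) (hin : i < n) :
    ∃ v ∈ lev G i, v ∉ gam G (i + 1) := by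
  rcases hi.eq_or_lt with rfl | hi2
  · obtain ⟨e, he, he', -⟩ := exists_frame h h4
    exact ⟨e, lev_one (G := G) ▸ he, he'⟩
  · obtain ⟨v, hv, hv'⟩ := exists_layer h hi2 hin
    exact ⟨v, by rw [lev_eq hi2]; exact hv, hv'⟩

/-- The exponents of an automorphism on `G / Γ₁` and on `Γ₁ / γ₂`. -/
structure Wts (Φ : MulAut G) (x : G) (a b : ℤ) : Prop where
  xa : (x ^ a)⁻¹ * Φ x ∈ lev G 1
  vb : ∀ v ∈ lev G 1, (v ^ b)⁻¹ * Φ v ∈ gam G 2

theorem exists_wts (h4 : 4 ≤ n) (Φ : MulAut G) : ∃ a b : ℤ, Wts Φ x a b := by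
  haveI : (gam G 2).Normal := gam_normal 2
  obtain ⟨a, ha⟩ := exists_zpow_mem h le_rfl (show 2 + 2 ≤ n by omega) (Φ x)
  obtain ⟨v, hv, hv'⟩ := exists_notMem_succ h h4 le_rfl (show 1 < n by omega)
  obtain ⟨b, hb⟩ := exists_zpow_lev h h4 le_rfl (by omega) hv hv' (map_lev_mem h Φ hv)
  refine ⟨a, b, lev_one (G := G) ▸ ha, fun w hw => ?_⟩
  obtain ⟨e, he⟩ := exists_zpow_lev h h4 le_rfl (by omega) hv hv' hw
  set q := QuotientGroup.mk' (gam G 2)
  have h1 : q w = q v ^ e := by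
    rw [← map_zpow, eq_comm, ← inv_mul_eq_one, ← map_inv, ← map_mul]
    exact (QuotientGroup.eq_one_iff _).2 he
  have h2 : q (Φ v) = q v ^ b := by
    rw [← map_zpow, eq_comm, ← inv_mul_eq_one, ← map_inv, ← map_mul]
    exact (QuotientGroup.eq_one_iff _).2 hb
  have h3 : q (Φ w) = q (Φ v) ^ e := by
    rw [← map_zpow, eq_comm, ← inv_mul_eq_one, ← map_inv, ← map_mul]
    refine (QuotientGroup.eq_one_iff _).2 ?_
    have h4 : Φ ((v ^ e)⁻¹ * w) ∈ gam G 2 := CfsgLib.MaxClassWeight.map_gam_le (Φ : G →* G) he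
    rwa [map_mul, map_inv, map_zpow] at h4
  rw [← QuotientGroup.eq_one_iff, ← QuotientGroup.mk'_apply, map_mul, map_inv, map_zpow, inv_mul_eq_one, h1,
    h3, h2, ← zpow_mul, ← zpow_mul, mul_comm]

/-- The exponent on the layer `i`. -/
theorem Wts.lev (h4 : 4 ≤ n) (W : Wts Φ x a b) {i : ℕ} (hi : 1 ≤ i) (hin : i < n)
    (hok : i + 2 ≤ n ∨ twoStepAt G (n - 2) = twoStepAt G 2) {v : G} (hv : v ∈ MCFusion.lev G i) :
    (v ^ (b * a ^ (i - 1)))⁻¹ * Φ v ∈ gam G (i + 1) := by
  induction i, hi using Nat.le_induction generalizing v with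
  | base => simpa using W.vb v hv
  | succ k hk ih =>
    have hok' : k + 2 ≤ n := by omega
    obtain ⟨A, hA, hA'⟩ := exists_notMem_succ h h4 hk (by omega)
    have hA1 := ih (by omega) (Or.inl hok') hA
    set r := b * a ^ (k - 1) with hr
    set e := (x ^ a)⁻¹ * Φ x with he
    have hec : ⁅e, Φ A⁆ ∈ gam G (k + 2) := by
      have hcase : (5 ≤ n ∧ k + 3 ≤ n) ∨ twoStepAt G (n - 2) = twoStepAt G 2 := by
        rcases hok with hok | hne
        · rcases Nat.lt_or_ge n 5 with hn | hn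
          · exact Or.inr (by rw [show n - 2 = 2 by omega])
          · exact Or.inl ⟨hn, by omega⟩
        · exact Or.inr hne
      rcases hcase with ⟨hn, hok⟩ | hne
      · have := comm_lev h hn (i := 1) (k := k) le_rfl hk (by omega) W.xa (map_lev_mem h Φ hA)
        rwa [show 1 + k + 1 = k + 2 by omega] at this
      · have := comm_lev_ne h h4 hne (i := 1) (k := k) le_rfl hk W.xa (map_lev_mem h Φ hA)
        rwa [show 1 + k + 1 = k + 2 by omega] at this
    haveI := gam_normal (G := G) (k + 2)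
    set q := QuotientGroup.mk' (gam G (k + 2)) with hq
    have hq1 : ∀ {y : G}, q y = 1 ↔ y ∈ gam G (k + 2) := QuotientGroup.eq_one_iff _
    -- the next layer is central
    have hcent : ∀ {y : G}, y ∈ gam G (k + 1) → ∀ t, Commute (q y) t := by
      intro y hy t
      obtain ⟨t, rfl⟩ := QuotientGroup.mk'_surjective _ t
      rw [← commutatorElement_eq_one_iff_commute, ← map_commutatorElement, hq1]
      exact gam_comm (a := k + 1) (by omega) le_rfl hy (mem_top t)
    have hwg : ⁅x, A⁆ ∈ gam G (k + 1) := by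
      have := comm_top_lev h hk (g := x) hA
      rwa [lev_eq (show 2 ≤ k + 1 by omega)] at this
    have hwn : ⁅x, A⁆ ∉ gam G (k + 2) := comm_lev_succ h h4 hk hok' hA hA'
    have hB : ∀ t, ⁅t, (A ^ r)⁻¹ * Φ A⁆ ∈ gam G (k + 2) := fun t => by
      have := gam_comm (a := 1) (b := k + 1) le_rfl (by omega) (mem_top t) hA1
      rwa [show 1 + (k + 1) = k + 2 by omega] at this
    -- the image of the commutator
    have hx : q (Φ ⁅x, A⁆) = q ⁅x, A⁆ ^ (r * a) := by
      rw [map_commutatorElement, show Φ x = x ^ a * e by rw [he, mul_inv_cancel_left],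
        map_commutatorElement, map_mul, commutatorElement_mul_left_eq_conj_mul]
      have h1 : ⁅q e, q (Φ A)⁆ = 1 := by rw [← map_commutatorElement, hq1]; exact hec
      rw [h1, mul_one, mul_inv_cancel, one_mul, map_zpow,
        show Φ A = A ^ r * ((A ^ r)⁻¹ * Φ A) by group, map_mul, map_zpow]
      have hcW : ∀ t, Commute ⁅q x, q A⁆ t := fun t => by rw [← map_commutatorElement]; exact hcent hwg t
      have hxB : Commute (q x) (q ((A ^ r)⁻¹ * Φ A)) := by
        rw [← commutatorElement_eq_one_iff_commute, ← map_commutatorElement, hq1]; exact hB x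
      rw [commutatorElement_mul_right_eq_mul_conj,
        show ⁅q x ^ a, q ((A ^ r)⁻¹ * Φ A)⁆ = 1 from
          commutatorElement_eq_one_iff_commute.2 (hxB.zpow_left a), mul_one, mul_inv_cancel_right]
      have h5 := CfsgLib.MaxClassWeight.comm_eq_zpow (A := q x) (B := 1) (C := q A) (K := 1) (k := a)
        (a := r) hcW (Commute.one_left _) (fun t => Commute.one_left t)
      rw [mul_one, mul_one] at h5
      rw [h5, map_commutatorElement, mul_comm r a]
    rw [lev_eq (show 2 ≤ k + 1 by omega)] at hv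
    obtain ⟨j, hj⟩ := layer_gen h.isPGroup h.card h.three h.class_eq (show 2 ≤ k + 1 by omega) hin hwg hwn hv
    have e1 : q v = q ⁅x, A⁆ ^ j := by
      rw [← map_zpow, eq_comm, ← inv_mul_eq_one, ← map_inv, ← map_mul]
      exact hq1.2 hj
    have e2 : q (Φ v) = q (Φ ⁅x, A⁆) ^ j := by
      rw [← map_zpow, eq_comm, ← inv_mul_eq_one, ← map_inv, ← map_mul]
      refine hq1.2 ?_
      have h4 : Φ ((⁅x, A⁆ ^ j)⁻¹ * v) ∈ gam G (k + 2) := CfsgLib.MaxClassWeight.map_gam_le (Φ : G →* G) hj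
      rwa [map_mul, map_inv, map_zpow] at h4
    show (v ^ (b * a ^ (k + 1 - 1)))⁻¹ * Φ v ∈ gam G (k + 2)
    refine hq1.1 ?_
    have hpow : b * a ^ (k + 1 - 1) = r * a := by
      rw [hr, mul_assoc, ← pow_succ]; congr 2; omega
    rw [map_mul, map_inv, map_zpow, inv_mul_eq_one, e1, e2, hx, ← zpow_mul, ← zpow_mul, hpow, mul_comm]

/-- An eigenvalue on the layer `i` is the exponent of that layer. -/
theorem Wts.eigen (h4 : 4 ≤ n) (W : Wts Φ x a b) {i : ℕ} (hi : 1 ≤ i) (hin : i < n)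
    (hok : i + 2 ≤ n ∨ twoStepAt G (n - 2) = twoStepAt G 2) {v : G} (hv : v ∈ MCFusion.lev G i)
    (hv' : v ∉ gam G (i + 1)) {m : ℤ} (hm : (v ^ m)⁻¹ * Φ v ∈ gam G (i + 1)) :
    (m : ZMod p) = (b : ZMod p) * (a : ZMod p) ^ (i - 1) := by
  haveI := gam_normal (G := G) (i + 1)
  have h1 := W.lev h h4 hi hin hok hv
  set r := b * a ^ (i - 1) with hr
  have h2 : v ^ (m - r) ∈ gam G (i + 1) := by
    set q := QuotientGroup.mk' (gam G (i + 1))
    have e1 : q v ^ m = q (Φ v) := by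
      rw [← map_zpow, ← inv_mul_eq_one, ← map_inv, ← map_mul]
      exact (QuotientGroup.eq_one_iff _).2 hm
    have e2 : q v ^ r = q (Φ v) := by
      rw [← map_zpow, ← inv_mul_eq_one, ← map_inv, ← map_mul]
      exact (QuotientGroup.eq_one_iff _).2 h1
    rw [← QuotientGroup.eq_one_iff, ← QuotientGroup.mk'_apply, map_zpow, zpow_sub, e1, e2, mul_inv_cancel]
  have h3 := dvd_of_zpow_mem h h4 hi hin hv hv' h2
  rw [← ZMod.intCast_zmod_eq_zero_iff_dvd, Int.cast_sub, sub_eq_zero] at h3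
  rw [h3, hr]
  push_cast
  ring

theorem gam_two_le_frattini : gam G 2 ≤ frattini G :=
  (show gam G 2 = commutator G from Subgroup.top_lowerCentralSeries_one) ▸
    CfsgLib.Coprime.commutator_le_frattini h.isPGroup

/-- Both exponents one: the order is a power of `p`. -/
theorem Wts.pow_eq_one (h4 : 4 ≤ n) (W : Wts Φ x a b) (ha : (a : ZMod p) = 1) (hb : (b : ZMod p) = 1) :
    ∃ k, Φ ^ p ^ k = 1 := by
  haveI : (gam G 2).Normal := gam_normal 2
  set q := QuotientGroup.mk' (gam G 2) with hq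
  have hpq : ∀ g, q g ^ p = 1 := fun g => by
    rw [← map_pow]
    exact (QuotientGroup.eq_one_iff _).2 (pow_mem_two h.isPGroup h.card h.three h.class_eq g)
  have hzp : ∀ g, ∀ c : ℤ, (c : ZMod p) = 1 → q g ^ c = q g := fun g c hc => by
    obtain ⟨t, ht⟩ := (ZMod.intCast_zmod_eq_zero_iff_dvd (c - 1) p).1 (by push_cast; rw [hc, sub_self])
    rw [show c = 1 + (p : ℤ) * t by omega, zpow_add, zpow_one, zpow_mul, zpow_natCast, hpq, one_zpow, mul_one]
  set e := q ((x ^ a)⁻¹ * Φ x) with he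
  have hΦv : ∀ v ∈ MCFusion.lev G 1, q (Φ v) = q v := fun v hv => by
    have h1 : q ((v ^ b)⁻¹ * Φ v) = 1 := (QuotientGroup.eq_one_iff _).2 (W.vb v hv)
    rw [map_mul, map_inv, map_zpow, inv_mul_eq_one, hzp v b hb] at h1
    exact h1.symm
  have hΦx : q (Φ x) = q x * e := by
    rw [he, map_mul, map_inv, map_zpow, hzp x a ha, mul_inv_cancel_left]
  have hit : ∀ j : ℕ, q ((Φ ^ j) x) = q x * e ^ j ∧ ∀ v ∈ MCFusion.lev G 1, q ((Φ ^ j) v) = q v := by
    intro j
    induction j with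
    | zero => exact ⟨by rw [pow_zero, pow_zero, mul_one]; rfl, fun v _ => rfl⟩
    | succ j ih =>
      refine ⟨?_, fun v hv => by rw [pow_succ, MulAut.mul_apply, ih.2 _ (map_lev_mem h Φ hv), hΦv v hv]⟩
      rw [pow_succ, MulAut.mul_apply, show Φ x = x ^ a * ((x ^ a)⁻¹ * Φ x) by group, map_mul, map_zpow,
        map_mul, map_zpow, ih.1, ih.2 _ W.xa, pow_succ', ← mul_assoc]
      have hc : (q x * e ^ j) ^ a = q x * e ^ j := by
        rw [← ih.1]; exact hzp _ a ha
      rw [hc, mul_assoc, mul_assoc, (Commute.self_pow e j).eq]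
  have hp1 := (hit p).1
  have hep : e ^ p = 1 := hpq _
  rw [hep, mul_one] at hp1
  have hfr : frAct (Φ ^ p) = 1 := by
    refine frAct_eq_one_iff.2 fun g => gam_two_le_frattini h ?_
    rw [← QuotientGroup.eq_one_iff, ← QuotientGroup.mk'_apply, ← hq, map_mul, map_inv, mul_inv_eq_one]
    obtain ⟨i, hi⟩ := exists_zpow_mem h le_rfl (show 2 + 2 ≤ n by omega) g
    rw [← lev_one] at hi
    rw [show g = x ^ i * ((x ^ i)⁻¹ * g) by group, map_mul, map_zpow, map_mul, map_zpow, hp1,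
      (hit p).2 _ hi, map_mul q (x ^ i), map_zpow]
  obtain ⟨k, hk⟩ := isPGroup_of_frAct h.isPGroup (zpowers (Φ ^ p)) (fun σ hσ => by
    obtain ⟨m, rfl⟩ := mem_zpowers_iff.1 hσ
    rw [map_zpow, hfr, one_zpow]) ⟨Φ ^ p, mem_zpowers _⟩
  refine ⟨1 + k, ?_⟩
  rw [pow_add, pow_one, pow_mul]
  exact congrArg Subtype.val hk

end CfsgLib.MCFusion
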