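import Cfsg.Agent.Lib.MaxClassFusion.PearlTorus
import Cfsg.Agent.Lib.MaxClassFusion.Lift
import Cfsg.Agent.Lib.MaxClassFusion.ExcBase
import Cfsg.Agent.Lib.MaxClassFusion.Weights

/-!
# No extraspecial pearls in the exceptional case
-/

set_option autoImplicit false
set_option linter.style.haveILetI false
set_option linter.unusedSectionVars false

open Subgroup
open scoped commutatorElement Classical

namespace CfsgLib.MCFusion

open Cfsg (FusionSystem autInducedBy)
open Cfsg.FusionSystem (normalizerIn centralizerIn)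
open CfsgLib.Fusion
open CfsgLib.Fusion.MaxClassCubeSystem (sub mem_sub sub_le)
open CfsgLib.MaxClassShift (gam gam_normal gam_anti gam_one gam_comm)
open CfsgLib.MaxClassUniform (Uniform gam_le_twoStepAt)
open CfsgLib.PGroup.MaxClassRank (twoStepAt pow_mem_two)
open CfsgLib.MaxClassEss

universe u

variable {Ω : Type u} [Group Ω] {S : Subgroup Ω} [Finite S] {p n : ℕ} [hpf : Fact p.Prime]
  {F : FusionSystem S} {E : Subgroup Ω} {e : S}

/-- No image of the subgroup lies in an extreme two step centralizer. -/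
theorem image_not_inner (hE : F.IsEssential p E) (C : CubeShape p n E e) {g : Ω → Ω} (hg : IsMap F E g)
    (hin : (img E g).subgroupOf S ≤ lev S 1 ∨ (img E g).subgroupOf S ≤ twoStepAt S (n - 2)) : False := by
  have hp := hpf.out
  have hx := C.uniform
  have h6 := C.six
  haveI := finite_of_le C.le
  set P := (img E g).subgroupOf S with hPdef
  have hPS := hg.img_le
  have hcent : centralizerIn S (img E g) ≤ img E g := centralizerIn_img_le hE.1 hg le_rfl
  have hmem : ∀ v : S, (∀ c ∈ P, Commute v c) → v ∈ P := fun v hv => mem_subgroupOf.2 (hcent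
    ⟨v.2, mem_centralizer_iff.2 fun c hc =>
      (congrArg Subtype.val (hv ⟨c, hPS hc⟩ (mem_subgroupOf.2 hc)).eq.symm :)⟩)
  have hPc : Nat.card P = p ^ 3 := by
    rw [Nat.card_congr (subgroupOfEquivOfLe hPS).toEquiv, hg.card_img, C.card]
  obtain ⟨a, b, hab⟩ := C.nab
  let a' : S := ⟨g a, hg.mem_S a.2⟩
  let b' : S := ⟨g b, hg.mem_S b.2⟩
  have ha' : a' ∈ P := mem_subgroupOf.2 (hg.mem_img.2 ⟨a, a.2, rfl⟩)
  have hb' : b' ∈ P := mem_subgroupOf.2 (hg.mem_img.2 ⟨b, b.2, rfl⟩)
  have hab' : ¬ Commute a' b' := fun h => hab (Subtype.ext (hg.inj (E.mul_mem a.2 b.2) (E.mul_mem b.2 a.2) (by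
    rw [Subgroup.coe_mul, Subgroup.coe_mul, hg.map_mul a.2 b.2, hg.map_mul b.2 a.2]; exact (congrArg Subtype.val h.eq :))))
  have habP : (⟨a', ha'⟩ : P) * ⟨b', hb'⟩ ≠ ⟨b', hb'⟩ * ⟨a', ha'⟩ := fun h => hab' (congrArg Subtype.val h :)
  obtain ⟨hZc, hcom, -⟩ := EssentialCube.center_data hPc habP
  -- central elements of `S` in the image
  have hin' : ∀ r ∈ P, (∀ c ∈ P, Commute r c) → r ∈ (center P).map P.subtype := fun r hr hc =>
    ⟨⟨r, hr⟩, mem_center_iff.2 fun c => Subtype.ext (hc c c.2).eq.symm, rfl⟩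
  have hcard : ∀ U : Subgroup S, (∀ r ∈ U, ∀ c ∈ P, Commute r c) → Nat.card U ≤ p := fun U hU => by
    have h1 : U ≤ (center P).map P.subtype := fun r hr => hin' r (hmem r (hU r hr)) (hU r hr)
    have h2 := card_le_of_le h1
    rwa [card_map_of_injective P.subtype_injective, hZc] at h2
  rcases hin with hA | hC
  swap
  · have h1 := hcard (gam S (n - 2)) fun r hr c hc => (last_two_commute hx hr (hC hc)).symm
    rw [hx.card_gam (by omega) (by omega), show n - (n - 2) = 2 by omega] at h1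
    exact absurd h1 (not_le.2 (lt_self_pow₀ hp.one_lt one_lt_two))
  -- inside the first two step centralizer
  set c0 := ⁅a', b'⁆ with hc0
  have hc0ne : c0 ≠ 1 := fun h => hab' (commutatorElement_eq_one_iff_commute.1 h)
  have hc0Z : c0 ∈ gam S (n - 1) := by
    have h1 : c0 ∈ (center P).map P.subtype :=
      ⟨⁅(⟨a', ha'⟩ : P), ⟨b', hb'⟩⁆, by
        rw [← hcom, _root_.commutator_def]; exact commutator_mem_commutator (mem_top _) (mem_top _), rfl⟩
    have hZ : gam S (n - 1) ≤ (center P).map P.subtype := fun z hz =>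
      hin' z (hmem z fun c _ => (comm_gam_central hx hz c).symm) fun c _ => (comm_gam_central hx hz c).symm
    have heq : gam S (n - 1) = (center P).map P.subtype := eq_of_le_of_card_ge hZ (by
      rw [card_map_of_injective P.subtype_injective, hZc, hx.card_gam (by omega) (by omega),
        show n - (n - 1) = 1 by omega, pow_one])
    rw [heq]; exact h1
  have hcc : ∀ v : S, Commute c0 v := fun v => (comm_gam_central hx hc0Z v).symm
  have hle : gam S (n - 3) ≤ P := by
    intro w hw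
    have hwc : ∀ c ∈ P, ⁅w, c⁆ ∈ gam S (n - 1) := fun c hc => by
      have h1 := comm_lev hx (show 5 ≤ n by omega) (i := 1) (k := n - 3) le_rfl (by omega) (by omega)
        (hA hc) (show w ∈ lev S (n - 3) by rw [lev_eq (by omega)]; exact hw)
      rw [show 1 + (n - 3) + 1 = n - 1 by omega] at h1
      rw [← commutatorElement_inv]
      exact inv_mem h1
    obtain ⟨s, hs⟩ := mem_zpowers_last hx (show 4 ≤ n by omega) hc0Z hc0ne (hwc a' ha')
    obtain ⟨t, ht⟩ := mem_zpowers_last hx (show 4 ≤ n by omega) hc0Z hc0ne (hwc b' hb')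
    set y := a' ^ t * b' ^ (-s) with hy
    have hyP : y ∈ P := P.mul_mem (P.zpow_mem ha' t) (P.zpow_mem hb' _)
    have e1 : a' * b' * a'⁻¹ = c0 * b' := by rw [hc0, commutatorElement_def]; group
    have e2 : b' * a' * b'⁻¹ = c0⁻¹ * a' := by rw [hc0, commutatorElement_def]; group
    have hconj : ∀ (k : ℤ) (u v c : S), u * v * u⁻¹ = c * v → (∀ g : S, Commute c g) →
        u ^ k * v * (u ^ k)⁻¹ = c ^ k * v := by
      intro k u v c huv hcg
      induction k using Int.induction_on with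
      | zero => simp
      | succ i ih =>
        rw [zpow_add_one, mul_inv_rev,
          show u ^ (i : ℤ) * u * v * (u⁻¹ * (u ^ (i : ℤ))⁻¹) = u ^ (i : ℤ) * (u * v * u⁻¹) * (u ^ (i : ℤ))⁻¹ by
            group, huv, ← mul_assoc, ((hcg (u ^ (i : ℤ))).eq).symm, mul_assoc c, mul_assoc, ih,
          ← mul_assoc, ← zpow_one_add, add_comm, zpow_add_one]
      | pred i ih =>
        have h2 : u⁻¹ * v * u = c⁻¹ * v := by
          have h3 : u⁻¹ * (c * v) * u = v := by rw [← huv]; group
          rw [← mul_assoc, ← (hcg u⁻¹).eq, mul_assoc c, mul_assoc c] at h3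
          rw [eq_inv_mul_iff_mul_eq]; exact h3
        rw [zpow_sub_one, mul_inv_rev, inv_inv,
          show u ^ (-(i : ℤ)) * u⁻¹ * v * (u * (u ^ (-(i : ℤ)))⁻¹)
            = u ^ (-(i : ℤ)) * (u⁻¹ * v * u) * (u ^ (-(i : ℤ)))⁻¹ by group, h2, ← mul_assoc,
          ((hcg (u ^ (-(i : ℤ)))).inv_left.eq).symm, mul_assoc c⁻¹, mul_assoc, ih,
          ← mul_assoc, ((Commute.refl c).inv_left.zpow_right (-(i : ℤ))).eq, zpow_sub_one]
    have hya : y * a' * y⁻¹ = w * a' * w⁻¹ := by
      rw [hy, mul_inv_rev,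
        show a' ^ t * b' ^ (-s) * a' * ((b' ^ (-s))⁻¹ * (a' ^ t)⁻¹)
          = a' ^ t * (b' ^ (-s) * a' * (b' ^ (-s))⁻¹) * (a' ^ t)⁻¹ by group,
        hconj (-s) b' a' c0⁻¹ e2 (fun g => (hcc g).inv_left), ← mul_assoc,
        (((hcc (a' ^ t)).inv_left.zpow_left (-s)).eq).symm, mul_assoc ((c0⁻¹) ^ (-s)), mul_assoc,
        ((Commute.refl a').zpow_left t).eq, mul_inv_cancel_right, inv_zpow, ← zpow_neg, neg_neg, ← hs,
        commutatorElement_def, inv_mul_cancel_right]
    have hyb : y * b' * y⁻¹ = w * b' * w⁻¹ := by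
      rw [hy, mul_inv_rev,
        show a' ^ t * b' ^ (-s) * b' * ((b' ^ (-s))⁻¹ * (a' ^ t)⁻¹)
          = a' ^ t * (b' ^ (-s) * b' * (b' ^ (-s))⁻¹) * (a' ^ t)⁻¹ by group,
        ((Commute.refl b').zpow_left (-s)).eq, mul_inv_cancel_right,
        hconj t a' b' c0 e1 hcc, ← ht, commutatorElement_def, inv_mul_cancel_right]
    set D : Subgroup S := centralizer {y⁻¹ * w} ⊓ P with hD
    have hfix : ∀ v : S, y * v * y⁻¹ = w * v * w⁻¹ → v ∈ centralizer ({y⁻¹ * w} : Set S) := fun v hv => by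
      rw [mem_centralizer_singleton_iff]
      calc v * (y⁻¹ * w) = y⁻¹ * (y * v * y⁻¹) * w := by group
        _ = y⁻¹ * w * v := by rw [hv]; group
    have hDa : a' ∈ D := ⟨hfix a' hya, ha'⟩
    have hDb : b' ∈ D := ⟨hfix b' hyb, hb'⟩
    have hDP : D = P := by
      obtain ⟨k, hk⟩ := (hx.isPGroup.to_subgroup D).exists_card_eq
      refine eq_of_le_of_card_ge inf_le_right ?_
      rw [hPc, hk]
      refine Nat.pow_le_pow_right hp.pos ?_
      by_contra hlt
      have hk2 : k ≤ 2 := by omega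
      rcases (show k ≤ 1 ∨ k = 2 by omega) with h1 | rfl
      · haveI : IsCyclic D := by
          rcases Nat.le_one_iff_eq_zero_or_eq_one.1 h1 with rfl | rfl
          · haveI : Subsingleton D := (Nat.card_eq_one_iff_unique.1 (by rw [hk, pow_zero])).1
            infer_instance
          · exact isCyclic_of_prime_card (p := p) (by rw [hk, pow_one])
        obtain ⟨d, hd⟩ := IsCyclic.exists_generator (α := D)
        obtain ⟨i, hi⟩ := mem_zpowers_iff.1 (hd ⟨a', hDa⟩)
        obtain ⟨j, hj⟩ := mem_zpowers_iff.1 (hd ⟨b', hDb⟩)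
        have h2 := (Commute.zpow_zpow_self d i j).map D.subtype
        rw [hi, hj] at h2
        exact hab' h2
      · haveI := IsPGroup.isMulCommutative_of_card_eq_prime_sq hk
        exact hab' (congrArg Subtype.val (mul_comm' (⟨a', hDa⟩ : D) ⟨b', hDb⟩) :)
    have h1 : y⁻¹ * w ∈ P := hmem _ fun c hc => (mem_centralizer_singleton_iff.1 (hDP.ge hc).1).symm
    have := P.mul_mem hyP h1
    rwa [mul_inv_cancel_left] at this
  have heq : gam S (n - 3) = P := eq_of_le_of_card_ge hle (by
    rw [hPc, hx.card_gam (by omega) (by omega)]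
    exact le_of_eq (congrArg (p ^ ·) (by omega)))
  exact hab' (commute_of_deep hx (show 1 ≤ n - 3 by omega) (show 1 ≤ n - 3 by omega) (by omega)
    (heq.ge ha') (heq.ge hb'))

/-- In the exceptional case no essential subgroup of order `p³` with a uniform element is nonabelian. -/
theorem false_cube (hS : IsPGroup p S) (hn : Nat.card S = p ^ n) (hF : F.IsSaturated p) (h4 : 4 ≤ n)
    {x : S} (hx : Uniform x p n) (hex : twoStepAt S (n - 2) ≠ twoStepAt S 2) (hE : F.IsEssential p E)
    (hcard : Nat.card E = p ^ 3) (hnab : ∃ a b : E, a * b ≠ b * a) {e : S} (he : e ∈ E.subgroupOf S)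
    (hu : Uniform e p n) : False := by
  have hp := hpf.out
  obtain ⟨hp5, h6⟩ := five_le_of_exc hx h4 hex
  have C := exists_cubeShape hS hn h6 hE hcard hnab he hu
  obtain ⟨f, hf, hfE, hneg, hfz⟩ := exists_neg_auto hS hF hE C
  set N := normalizerIn S E with hN
  have hEN : E ≤ N := le_inf C.le le_normalizer
  have hNS : N ≤ S := inf_le_left
  have hN4 : p ^ 4 ≤ Nat.card N := by
    have hlt : E < N := by
      refine lt_normalizerIn hS C.le fun heq => ?_
      have h1 := congrArg (fun K : Subgroup Ω => Nat.card K) heq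
      simp only [hcard, hn] at h1
      exact absurd (Nat.pow_right_injective hp.two_le h1) (by omega)
    haveI := finite_of_le hNS
    obtain ⟨k, hk⟩ := (hS.to_le hNS).exists_card_eq
    have h1 := card_lt_of_lt hNS hlt
    rw [hcard, hk, Nat.pow_lt_pow_iff_right hp.one_lt] at h1
    rw [hk]
    exact Nat.pow_le_pow_right hp.pos h1
  have hT : S ≤ normalizerIn S S := le_inf le_rfl le_normalizer
  obtain ⟨-, -, k, hk, hkf, hkS⟩ := isMap_nSystem_iff.1 (isMap_of_autGroup_le_dominated hS hF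
    (E := nSystem F S S hT le_rfl) (fun R ⟨g, hg, hgR⟩ hR α hα => by
      have hRS : R ≤ S := hR.elim (fun e => e.le) fun h => h.1.1
      have hmap := (mem_autGroup_iff hRS).1 hα
      rcases hR with rfl | hess
      · exact (mem_autGroup_iff hRS).2 (isMap_nSystem_iff.2 ⟨hRS, fun y hy => hmap.mem_S hy, autFun α,
          hmap.mono (sup_le le_rfl le_rfl), fun y _ => rfl, img_autFun α⟩)
      · exfalso
        haveI := finite_of_le hRS
        have hgN : img N g ≤ R := fun y hy => by
          obtain ⟨z, hz, rfl⟩ := hg.mem_img.1 hy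
          exact hgR z hz
        have hR4 : p ^ 4 ≤ Nat.card R := hN4.trans (by
          rw [← hg.card_img]; exact card_le_of_le' hRS hgN)
        have hin := inner_of_no_uniform hu (by omega) (R.subgroupOf S) fun v hv huv => by
          have := (small_of_uniform hS hn (by omega) hess hv huv).trans' hR4
          rw [Nat.pow_le_pow_iff_right hp.one_lt] at this
          omega
        have hle : (img E g).subgroupOf S ≤ R.subgroupOf S := fun v hv =>
          mem_subgroupOf.2 (hgN (hg.img_mono hEN (mem_subgroupOf.1 hv)))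
        exact image_not_inner hE C (hg.mono hEN) (hin.imp hle.trans hle.trans)) hf)
  have hkm : IsMap F S k := hk.mono le_sup_right
  set Φ : MulAut S := autOf hkm hkS with hΦ
  have hΦc : ∀ v : S, (v : Ω) ∈ E → ((Φ v : S) : Ω) = f v := fun v hv => by
    rw [← autFun_coe, hΦ, autFun_autOf hkm hkS v.2, hkf _ (hEN hv)]
  have hmem : ∀ {v : S}, v ∈ E.subgroupOf S → v * Φ v ∈ gam S (n - 1) := fun {v} hv => by
    obtain ⟨w, hw, hwe⟩ := hneg ⟨v, mem_subgroupOf.1 hv⟩
    rw [show v * Φ v = w from Subtype.ext (by rw [hwe, Subgroup.coe_mul, hΦc v (mem_subgroupOf.1 hv)])]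
    exact hw
  have hZE : gam S (n - 1) ≤ E.subgroupOf S := ((gam_anti (by omega)).trans C.inf.ge).trans inf_le_left
  have hΦz : ∀ z ∈ gam S (n - 1), Φ z = z := fun z hz =>
    Subtype.ext (by rw [hΦc z (mem_subgroupOf.1 (hZE hz)), hfz z hz])
  obtain ⟨a, b, W⟩ := exists_wts hu (by omega) Φ
  have hA : ∀ {k : ℕ}, 2 ≤ k → gam S k ≤ lev S 1 := fun hk => (gam_anti hk).trans (gam_two_le_lev_one hu)
  have ha : (a : ZMod p) = -1 := by
    have h1 : e ^ (a + 1) ∈ lev S 1 := by
      have h2 := mul_mem (hA (by omega) (hmem he)) (inv_mem W.xa)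
      rw [show e * Φ e * ((e ^ a)⁻¹ * Φ e)⁻¹ = e ^ (a + 1) by group] at h2
      exact h2
    by_contra hne
    have hnd : ¬ (p : ℤ) ∣ a + 1 := fun hd => hne (by
      rw [← ZMod.intCast_zmod_eq_zero_iff_dvd, Int.cast_add, Int.cast_one] at hd
      exact eq_neg_of_add_eq_zero_left hd)
    obtain ⟨r, s, hrs⟩ : ∃ r s : ℤ, r * (p : ℤ) + s * (a + 1) = 1 :=
      ((Nat.prime_iff_prime_int.1 hp).coprime_iff_not_dvd.2 hnd : IsCoprime (p : ℤ) (a + 1))
    refine uniform_notMem hu le_rfl (show 2 + 2 ≤ n by omega) ?_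
    rw [← lev_one, show e = (e ^ p) ^ r * (e ^ (a + 1)) ^ s by
      rw [← zpow_natCast, ← zpow_mul, ← zpow_mul, ← zpow_add, mul_comm _ r, mul_comm (a + 1) s, hrs, zpow_one]]
    exact mul_mem (zpow_mem (gam_two_le_lev_one hu (pow_mem_two hS hu.card hu.three hu.class_eq e)) r)
      (zpow_mem h1 s)
  obtain ⟨r, hr, hr'⟩ := exists_layer hu (k := n - 2) (by omega) (by omega)
  have hrE : r ∈ E.subgroupOf S := (C.inf.ge hr).1
  have hrev : (-1 : ZMod p) = (b : ZMod p) * (a : ZMod p) ^ (n - 2 - 1) := by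
    have h1 := W.eigen hu (by omega) (show 1 ≤ n - 2 by omega) (by omega) (Or.inl (by omega))
      (show r ∈ lev S (n - 2) by rw [lev_eq (by omega)]; exact hr) hr' (m := -1) (by
        rw [zpow_neg, zpow_one, inv_inv, show n - 2 + 1 = n - 1 by omega]
        exact hmem hrE)
    rwa [Int.cast_neg, Int.cast_one] at h1
  have heven := even_of_exc hx h4 hex
  have hb1 : (b : ZMod p) = 1 := by
    obtain ⟨m, hm⟩ := heven
    rw [ha, show n - 2 - 1 = 2 * (m - 2) + 1 by omega, pow_succ, pow_mul, neg_one_sq, one_pow, one_mul,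
      mul_neg_one] at hrev
    exact (neg_inj.1 hrev).symm
  -- the pairing
  obtain ⟨y, hy, hne⟩ := exists_pair hu h4 hex (show 1 ≤ n - 2 by omega) (by omega)
    (show r ∈ lev S (n - 2) by rw [lev_eq (by omega)]; exact hr) hr'
  rw [show n - 1 - (n - 2) = 1 by omega] at hy
  set c := ⁅r, y⁆ with hc
  have hcZ : c ∈ gam S (n - 1) := by
    have := gam_comm (a := n - 2) (b := 1) (by omega) le_rfl hr (mem_top y)
    rwa [show n - 2 + 1 = n - 1 by omega] at this
  have hcc : ∀ v : S, Commute c v := fun v => (comm_gam_central hu hcZ v).symm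
  have hcp : c ^ p = 1 := pow_eq_one_of_deep hu (show 2 ≤ n - 1 by omega) (by omega) hcZ
  set g := (y ^ b)⁻¹ * Φ y with hg
  have hg2 : g ∈ gam S 2 := W.vb y hy
  have hrg : Commute r g := commute_of_deep hu (show 1 ≤ n - 2 by omega) (show 1 ≤ 2 by omega) (by omega) hr hg2
  set q := r * Φ r with hq
  have hqc : ∀ v : S, Commute q v := fun v => (comm_gam_central hu (hmem hrE) v).symm
  have hΦr : Φ r = r⁻¹ * q := by rw [hq, inv_mul_cancel_left]
  have hΦy : Φ y = y ^ b * g := by rw [hg, mul_inv_cancel_left]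
  have h1 : ⁅r, Φ y⁆ = c ^ b := by
    have e1 : r * y * r⁻¹ = c * y := by rw [hc, commutatorElement_def]; group
    have e2 : r * y ^ b * r⁻¹ = c ^ b * y ^ b := by rw [← conj_zpow, e1, (hcc y).mul_zpow]
    rw [hΦy, commutatorElement_mul_right_eq_mul_conj, commutatorElement_eq_one_iff_commute.2 hrg, mul_one,
      mul_inv_cancel_right, commutatorElement_def, e2, mul_inv_cancel_right]
  have h2 : ⁅Φ r, Φ y⁆ = (c ^ b)⁻¹ := by
    have e1 : r * Φ y * r⁻¹ = c ^ b * Φ y := by rw [← h1, commutatorElement_def]; group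
    have e2 : r⁻¹ * Φ y * r = (c ^ b)⁻¹ * Φ y := by
      have h3 : r⁻¹ * (c ^ b * Φ y) * r = Φ y := by rw [← e1]; group
      rw [← mul_assoc, ← ((hcc r⁻¹).zpow_left b).eq, mul_assoc (c ^ b), mul_assoc (c ^ b)] at h3
      rw [eq_inv_mul_iff_mul_eq]; exact h3
    rw [hΦr, commutatorElement_mul_left_eq_conj_mul, commutatorElement_eq_one_iff_commute.2 (hqc _),
      mul_one, mul_inv_cancel, one_mul, commutatorElement_def, inv_inv, e2, mul_inv_cancel_right]
  rw [← map_commutatorElement, hΦz c hcZ] at h2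
  have h3 : c ^ (1 + b) = 1 := by rw [zpow_add, zpow_one, mul_eq_one_iff_eq_inv]; exact h2
  have h4' : (p : ℤ) ∣ 1 + b := by
    rw [← orderOf_eq_prime hcp hne]
    exact orderOf_dvd_iff_zpow_eq_one.2 h3
  rw [← ZMod.intCast_zmod_eq_zero_iff_dvd, Int.cast_add, Int.cast_one, hb1] at h4'
  have h5 : ((2 : ℕ) : ZMod p) = 0 := by rw [← h4']; norm_num
  rw [ZMod.natCast_eq_zero_iff] at h5
  exact absurd (Nat.le_of_dvd (by norm_num) h5) (by omega)

end CfsgLib.MCFusion
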