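import Cfsg.Agent.Lib.MaxClassFusion.ExcBase
import Cfsg.Agent.Lib.MaxClassFusion.Auto

/-!
# The automorphism of the first two step centralizer from a quadratic element
-/

set_option autoImplicit false
set_option linter.style.haveILetI false
set_option linter.unusedSectionVars false
attribute [-simp] ZMod.inv_coe_unit

open Subgroup
open scoped commutatorElement Classical

namespace CfsgLib.MCFusion

open Cfsg (FusionSystem autInducedBy)
open Cfsg.FusionSystem (normalizerIn centralizerIn)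
open CfsgLib.Fusion
open CfsgLib.Fusion.MaxClassCubeSystem (sub mem_sub sub_le card_sub sub_subgroupOf)
open CfsgLib.MaxClassShift (gam gam_normal gam_anti gam_one gam_comm)
open CfsgLib.MaxClassUniform (Uniform gam_le_twoStepAt)
open CfsgLib.PGroup.MaxClassRank (twoStepAt)
open CfsgLib.MaxClassEss
open CfsgLib.RegUnip (M2 GLw subgroupOfFinite)

universe u

variable {Ω : Type u} [Group Ω] {S : Subgroup Ω}

/-- An automorphism of the first two step centralizer as a function on the group. -/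
noncomputable def app (σ : MulAut (lev S 1)) (b : S) : S :=
  if h : b ∈ lev S 1 then ((σ ⟨b, h⟩ : lev S 1) : S) else b

theorem app_coe (σ : MulAut (lev S 1)) (b : lev S 1) : app σ (b : S) = ((σ b : lev S 1) : S) :=
  dif_pos b.2

theorem app_apply (σ : MulAut (lev S 1)) {b : S} (hb : b ∈ lev S 1) :
    app σ b = ((σ ⟨b, hb⟩ : lev S 1) : S) := dif_pos hb

theorem app_mem {σ : MulAut (lev S 1)} {b : S} (hb : b ∈ lev S 1) : app σ b ∈ lev S 1 := by
  rw [show b = ((⟨b, hb⟩ : lev S 1) : S) from rfl, app_coe]; exact (σ _).2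

theorem app_one {σ : MulAut (lev S 1)} : app σ 1 = 1 := by
  rw [show (1 : S) = ((1 : lev S 1) : S) from rfl, app_coe, map_one]

theorem app_map_mul {σ : MulAut (lev S 1)} {b c : S} (hb : b ∈ lev S 1) (hc : c ∈ lev S 1) :
    app σ (b * c) = app σ b * app σ c := by
  rw [app_apply σ (mul_mem hb hc), app_apply σ hb, app_apply σ hc, ← Subgroup.coe_mul, ← map_mul]
  rfl

theorem app_inv {σ : MulAut (lev S 1)} {b : S} (hb : b ∈ lev S 1) : app σ b⁻¹ = (app σ b)⁻¹ :=
  eq_inv_of_mul_eq_one_left (by rw [← app_map_mul (inv_mem hb) hb, inv_mul_cancel, app_one])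

theorem app_zpow {σ : MulAut (lev S 1)} {b : S} (hb : b ∈ lev S 1) (i : ℤ) : app σ (b ^ i) = app σ b ^ i := by
  rw [app_apply σ (zpow_mem hb i), app_apply σ hb, ← SubgroupClass.coe_zpow, ← map_zpow]
  rfl

theorem app_pow {σ : MulAut (lev S 1)} {b : S} (hb : b ∈ lev S 1) (i : ℕ) : app σ (b ^ i) = app σ b ^ i := by
  rw [← zpow_natCast, app_zpow hb, zpow_natCast]

theorem app_comm {σ : MulAut (lev S 1)} {b c : S} (hb : b ∈ lev S 1) (hc : c ∈ lev S 1) :
    app σ ⁅b, c⁆ = ⁅app σ b, app σ c⁆ := by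
  rw [commutatorElement_def, commutatorElement_def, app_map_mul (mul_mem (mul_mem hb hc) (inv_mem hb)) (inv_mem hc),
    app_map_mul (mul_mem hb hc) (inv_mem hb), app_map_mul hb hc, app_inv hb, app_inv hc]

theorem app_mul (σ τ : MulAut (lev S 1)) {b : S} (hb : b ∈ lev S 1) : app (σ * τ) b = app σ (app τ b) := by
  rw [show b = ((⟨b, hb⟩ : lev S 1) : S) from rfl, app_coe, app_coe, MulAut.mul_apply, app_coe]

theorem app_one_apply {b : S} (hb : b ∈ lev S 1) : app (1 : MulAut (lev S 1)) b = b := by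
  rw [show b = ((⟨b, hb⟩ : lev S 1) : S) from rfl, app_coe, MulAut.one_apply]

theorem app_inv_apply (σ : MulAut (lev S 1)) {b : S} (hb : b ∈ lev S 1) : app σ (app σ⁻¹ b) = b := by
  rw [← app_mul _ _ hb, mul_inv_cancel, app_one_apply hb]

theorem app_inj {σ : MulAut (lev S 1)} {b c : S} (hb : b ∈ lev S 1) (hc : c ∈ lev S 1)
    (h : app σ b = app σ c) : b = c := by
  rw [show b = ((⟨b, hb⟩ : lev S 1) : S) from rfl, show c = ((⟨c, hc⟩ : lev S 1) : S) from rfl, app_coe,
    app_coe] at h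
  exact congrArg Subtype.val (σ.injective (Subtype.ext h))

variable [Finite S] {p n : ℕ} [hpf : Fact p.Prime] {F : FusionSystem S} {E : Subgroup Ω}

/-- What the torus of a quadratic element induces on the first two step centralizer. -/
structure Tor (p n : ℕ) (F : FusionSystem S) (E : Subgroup Ω) (u : S) (σ : MulAut (lev S 1))
    (l : (ZMod p)ˣ) : Prop where
  mem : σ ∈ autTop F
  prim : ∀ j, 0 < j → j < p - 1 → l ^ j ≠ 1
  quad : ∀ b ∈ vec p S E, Commute u b →
    app σ (app σ b * (b ^ (l : ZMod p).val)⁻¹) = app σ b * (b ^ (l : ZMod p).val)⁻¹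
  near : ∀ b ∈ vec p S E, Commute u b → ∃ w ∈ vec p S E, app σ b * b⁻¹ = ⁅u, w⁆
  moved : ∀ z ∈ gam S (n - 1), z ≠ 1 → app σ z ≠ z
  comm : ∀ w ∈ vec p S E, app σ ⁅u, w⁆ = ⁅u, w⁆ ^ (l : ZMod p).val
  inv : ∃ v ∈ vec p S E, v ≠ 1 ∧ app σ v = v ^ ((l⁻¹ : (ZMod p)ˣ) : ZMod p).val
  span : ∀ D : Subgroup S, (∀ b ∈ vec p S E, app σ b = b → b ∈ D) →
    (∀ b ∈ vec p S E, app σ b = b ^ ((l⁻¹ : (ZMod p)ˣ) : ZMod p).val → b ∈ D) →
    (∀ w ∈ vec p S E, ⁅u, w⁆ ∈ D) → vec p S E ≤ D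

/-- An essential subgroup in the nonexceptional case has order at least `p ^ 3`. -/
theorem Hyp.cube_le (H : Hyp p n F E) (IH : Conc.{u} p (n - 1))
    (hne : twoStepAt S (n - 2) = twoStepAt S 2) : p ^ 3 ≤ Nat.card E := by
  obtain ⟨x, hx⟩ := H.exists_x
  have h5 := H.five
  have hp := hpf.out
  have hEA := H.inner_A' IH
  have hle : gam S (n - 2) ≤ E.subgroupOf S := fun v hv => H.mem_of_commute fun e he =>
    lev_one_commute_deep hx (by omega) hne hv (hEA he)
  have hlt : gam S (n - 2) < E.subgroupOf S := lt_of_le_of_ne hle fun e =>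
    H.not_normal (H.five_prime IH) (e ▸ gam_normal (n - 2))
  have h1 := CfsgLib.MaxClassCube.mul_card_le H.isP hlt
  rwa [hx.card_gam (by omega) (by omega), H.card_E, show n - (n - 2) = 2 by omega, ← pow_succ'] at h1

/-- The torus exists. -/
theorem Hyp.exists_tor (H : Hyp p n F E) (IH : Conc.{u} p (n - 1)) (hL : Larger p n F E)
    (hne : twoStepAt S (n - 2) = twoStepAt S 2) {u : S}
    (hu : ∀ e ∈ E.subgroupOf S, u * e * u⁻¹ ∈ E.subgroupOf S) (huE : u ∉ E.subgroupOf S)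
    (hq : ∀ v ∈ vec p S E, Commute u ⁅u, v⁆) : ∃ σ l, Tor p n F E u σ l := by
  obtain ⟨x, hx⟩ := H.exists_x
  have hp := hpf.out
  have hp5 := H.five_prime IH
  haveI := finite_of_le H.le
  haveI := finite_mulAut (P := E)
  have hEA := H.inner_A' IH
  have huA : u ∈ lev S 1 := H.norm_le IH hu
  obtain ⟨d, e, Ψ, hbij, he1, hadd, happ, hEmb, hM⟩ := H.exists_emb IH
  have hN : (u : Ω) ∈ normalizerIn S E := ⟨u.2, H.mem_normalizer_iff' hu⟩
  set uN : normalizerIn S E := ⟨(u : Ω), hN⟩ with huN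
  have hcV : ∀ v ∈ vec p S E, ⁅u, v⁆ ∈ vec p S E := by
    intro v hv
    refine (vec p S E).mul_mem (x := u * v * u⁻¹) ⟨hu v hv.1, ?_, fun c hc => ?_⟩ ((vec p S E).inv_mem hv)
    · rw [conj_pow, hv.2.1, mul_one, mul_inv_cancel]
    · have hc' : u⁻¹ * c * u ∈ E.subgroupOf S := by
        have hn : u⁻¹ ∈ normalizer ((E.subgroupOf S : Subgroup S) : Set S) := inv_mem (mem_normalizer_fintype hu)
        have := (mem_normalizer_iff.1 hn c).1 hc
        rwa [inv_inv] at this
      have h2 := (hv.2.2 _ hc').map (MulAut.conj u).toMonoidHom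
      simpa [MulAut.conj_apply, mul_assoc] using h2
  have hUv : ∀ v : vec p S E, ((Ψ (H.conjX uN) : M2 p d) - 1).mulVec (e v) = e ⟨⁅u, (v : S)⁆, hcV v v.2⟩ := by
    intro v
    set c : vec p S E := ⟨⁅u, (v : S)⁆, hcV v v.2⟩ with hc
    rw [Matrix.sub_mulVec, Matrix.one_mulVec, happ (H.conjX uN) v (c * v) ?_, hadd, add_sub_cancel_right]
    rw [H.autFun_conjX _ (mem_subgroupOf.1 v.2.1)]
    show ((⁅u, (v : S)⁆ * (v : S) : S) : Ω) = ((u * (v : S) * u⁻¹ : S) : Ω)
    rw [commutatorElement_def, inv_mul_cancel_right]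
  have hUne : Ψ (H.conjX uN) ≠ 1 := fun h1 => huE (mem_subgroupOf.2 (H.mem_of_conjX IH hbij happ uN h1))
  set U := (Ψ (H.conjX uN) : M2 p d) - 1 with hU
  have hquad : U * U = 0 := by
    refine Matrix.ext_of_mulVec_single fun i => ?_
    obtain ⟨v, hv⟩ := hbij.2 (Pi.single i 1)
    rw [← hv, ← Matrix.mulVec_mulVec, hUv, hUv, Matrix.zero_mulVec,
      show (⟨⁅u, ⁅u, (v : S)⁆⁆, _⟩ : vec p S E) = 1 from
        Subtype.ext (commutatorElement_eq_one_iff_commute.2 (hq v v.2)), he1]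
  obtain ⟨t, ⟨y, rfl⟩, l, hl, -, htu, htq, htl, htfix, htc, ⟨L, hLX, hLM, hLfix⟩, w1, hw1, hw1e⟩ :=
    exists_torus hp5 hEmb (mem_map_of_mem Ψ (mem_subgroupOf.2 (conjAut_mem hN.1 hN.2))) hUne hquad
  set k : ℕ := ((l : ZMod p) * l).val with hk
  obtain ⟨α, hαy, f, hf, himg, hfE⟩ := H.exists_extension IH hbij happ (u := uN) (y := y) (k := k) htu
  set P := E ⊔ zpowers (u : Ω) with hP
  have hEP : E ≤ P := le_sup_left
  have hPA : P ≤ sub (lev S 1) :=
    sup_le (fun c hc => mem_sub.2 (hEA (mem_subgroupOf.2 hc) : (⟨c, H.le hc⟩ : S) ∈ lev S 1))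
      (zpowers_le.2 (mem_sub.2 huA))
  have hPcard : Nat.card E < Nat.card P := by
    haveI := finite_of_le hf.le
    exact card_lt_of_lt hf.le (lt_of_le_of_ne hEP fun h1 =>
      huE (mem_subgroupOf.2 (h1.ge (mem_sup_right (mem_zpowers _)))))
  obtain ⟨Φ, hΦ, hΦf⟩ := H.lift hL (Or.inl hne) (H.cube_le IH hne) hPcard hPA hf
  obtain ⟨σ, hσ, hσΦ⟩ := exists_autTop hΦ
  set T := (Ψ y : M2 p d) with hT
  have hVA : ∀ {b : S}, b ∈ vec p S E → b ∈ lev S 1 := fun hb => hEA hb.1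
  -- the action in coordinates
  have hact : ∀ b : vec p S E, ∃ c : vec p S E, app σ (b : S) = c ∧ T.mulVec (e b) = e c := by
    intro b
    refine ⟨⟨_, H.autFun_mem_vec α.2 b.2⟩, ?_, ?_⟩
    · refine Subtype.ext ?_
      rw [show app σ (b : S) = ((σ ⟨(b : S), hVA b.2⟩ : lev S 1) : S) from app_coe σ ⟨(b : S), hVA b.2⟩,
        hσΦ, hΦf _ (hEP (mem_subgroupOf.1 b.2.1)), hfE _ (mem_subgroupOf.1 b.2.1)]
    · rw [hT, ← hαy]
      exact happ α b _ rfl
  have hapV : ∀ b : vec p S E, app σ (b : S) ∈ vec p S E := fun b => by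
    obtain ⟨c, hc, -⟩ := hact b; rw [hc]; exact c.2
  have hTe : ∀ b : vec p S E, T.mulVec (e b) = e ⟨app σ (b : S), hapV b⟩ := fun b => by
    obtain ⟨c, hc, hc'⟩ := hact b
    rw [hc']; exact congrArg e (Subtype.ext hc.symm)
  have hsmul : ∀ (c : ZMod p) (b : vec p S E), c • e b = e (b ^ c.val) := fun c b => by
    rw [← zpow_natCast, e_zpow he1 hadd, natCast_zsmul, ← Nat.cast_smul_eq_nsmul (ZMod p), ZMod.natCast_zmod_val]
  have hinj : ∀ {b c : vec p S E}, e b = e c → (b : S) = c := fun h => congrArg Subtype.val (hbij.1 h)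
  have hCu : ∀ b : vec p S E, Commute u (b : S) → U.mulVec (e b) = 0 := fun b hb => by
    rw [hUv, show (⟨⁅u, (b : S)⁆, _⟩ : vec p S E) = 1 from Subtype.ext (commutatorElement_eq_one_iff_commute.2 hb), he1]
  have hsub : ∀ a b : vec p S E, e a - e b = e (a * b⁻¹) := fun a b => by
    have h1 := hadd (a * b⁻¹) b
    rw [inv_mul_cancel_right] at h1
    rw [h1, add_sub_cancel_right]
  refine ⟨σ, l, hσ, hl, fun b hb hub => ?_, fun b hb hub => ?_, fun z hz hz1 hfix => ?_, fun w hw => ?_, ?_,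
    fun D hD1 hDi hDc => ?_⟩
  · -- quadratic
    set bV : vec p S E := ⟨b, hb⟩
    set c : vec p S E := ⟨app σ b, hapV bV⟩ * (bV ^ (l : ZMod p).val)⁻¹ with hc
    have h1 := htq (e bV) (hCu bV hub)
    rw [← Matrix.mulVec_mulVec, Matrix.sub_mulVec T ((l : ZMod p) • 1), Matrix.smul_mulVec, Matrix.one_mulVec,
      hTe, hsmul, hsub, ← hc, Matrix.sub_mulVec, Matrix.one_mulVec, hTe, sub_eq_zero] at h1
    exact hinj h1
  · obtain ⟨v, hv⟩ := htfix (e ⟨b, hb⟩) (hCu ⟨b, hb⟩ hub)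
    obtain ⟨w, rfl⟩ := hbij.2 v
    rw [hTe, hUv, hsub] at hv
    exact ⟨w, w.2, hinj hv⟩
  · set zV : vec p S E := ⟨z, H.gam_last_le_vec hz⟩
    have hUz : U.mulVec (e zV) = 0 := hCu zV (comm_gam_central hx hz u)
    refine hLM fun g hg => ?_
    obtain ⟨γ, rfl⟩ := hLX hg
    refine mem_map_of_mem Ψ (mem_subgroupOf.2 (H.ext_of_fix IH γ.2 fun z' hz' => ?_))
    obtain ⟨i, rfl⟩ := mem_zpowers_last hx (by have := H.five; omega) hz hz1 hz'
    have hTz : T.mulVec (e zV) = e zV := by rw [hTe]; exact congrArg e (Subtype.ext hfix)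
    have h2 := hLfix _ hUz hTz _ hg
    rw [happ γ zV ⟨_, H.autFun_mem_vec γ.2 zV.2⟩ rfl] at h2
    have h3 : autFun (γ : MulAut E) (z : Ω) = z := congrArg (fun b : S => (b : Ω)) (hinj h2)
    have hzE : (z : Ω) ∈ E := mem_subgroupOf.1 zV.2.1
    rw [SubgroupClass.coe_zpow, autFun_apply _ (zpow_mem hzE i),
      show (⟨(z : Ω) ^ i, zpow_mem hzE i⟩ : E) = (⟨(z : Ω), hzE⟩ : E) ^ i from Subtype.ext (by simp),
      map_zpow, SubgroupClass.coe_zpow, ← autFun_apply _ hzE, h3]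
  · have h1 := congrArg (fun Y : M2 p d => Y.mulVec (e ⟨w, hw⟩)) htl
    simp only [← Matrix.mulVec_mulVec, Matrix.zero_mulVec] at h1
    rw [← hU, hUv, Matrix.sub_mulVec, Matrix.smul_mulVec, Matrix.one_mulVec, hTe, hsmul, sub_eq_zero] at h1
    have := hinj h1
    rwa [SubgroupClass.coe_pow] at this
  · obtain ⟨v, rfl⟩ := hbij.2 w1
    refine ⟨v, v.2, fun h1 => hw1 ?_, ?_⟩
    · rw [show v = 1 from Subtype.ext h1, he1]
    · rw [hTe, hsmul] at hw1e
      have := hinj hw1e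
      rwa [SubgroupClass.coe_pow] at this
  · -- the eigenvectors span
    intro v hv
    set lam : ZMod p := (l : ZMod p) with hlam
    set mu : ZMod p := ((l⁻¹ : (ZMod p)ˣ) : ZMod p) with hmu
    have hlm : lam * mu = 1 := by rw [hlam, hmu, ← Units.val_mul, mul_inv_cancel, Units.val_one]
    have hl1 : lam ≠ 1 := fun h => hl 1 one_pos (by omega) (Units.ext (by rw [pow_one, ← hlam, h, Units.val_one]))
    have hl2 : lam * lam ≠ 1 := fun h => hl 2 two_pos (by omega) (Units.ext (by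
      rw [sq, Units.val_mul, ← hlam, h, Units.val_one]))
    -- membership of vectors
    let Dv : Submodule (ZMod p) (Fin d → ZMod p) :=
      { carrier := {w | ∃ b : vec p S E, (b : S) ∈ D ∧ e b = w}
        zero_mem' := ⟨1, one_mem D, he1⟩
        add_mem' := fun {a b} ⟨a', ha, ea⟩ ⟨b', hb, eb⟩ => ⟨a' * b', mul_mem ha hb, by rw [hadd, ea, eb]⟩
        smul_mem' := fun c a ⟨a', ha, ea⟩ => ⟨a' ^ c.val, by rw [SubgroupClass.coe_pow]; exact pow_mem ha _,
          by rw [← hsmul, ea]⟩ }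
    have h1mem : ∀ w, T.mulVec w = w → w ∈ Dv := fun w hw => by
      obtain ⟨b, rfl⟩ := hbij.2 w
      rw [hTe] at hw
      exact ⟨b, hD1 b b.2 (hinj hw), rfl⟩
    have himem : ∀ w, T.mulVec w = mu • w → w ∈ Dv := fun w hw => by
      obtain ⟨b, rfl⟩ := hbij.2 w
      rw [hTe, hsmul] at hw
      have := hinj hw
      rw [SubgroupClass.coe_pow] at this
      exact ⟨b, hDi b b.2 this, rfl⟩
    have hcmem : ∀ w, U.mulVec w ∈ Dv := fun w => by
      obtain ⟨b, rfl⟩ := hbij.2 w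
      exact ⟨_, hDc b b.2, (hUv b).symm⟩
    set v0 := e ⟨v, hv⟩ with hv0
    -- `U` anticommutes with the scaling
    have hUT : U * T = mu • U := by
      have h2 : T * U = lam • U := by
        rw [sub_mul, smul_mul_assoc, one_mul, sub_eq_zero] at htl
        exact htl
      have h3 : T * (Ψ (H.conjX uN) : M2 p d) = ((Ψ (H.conjX uN) ^ k : GLw p d) : M2 p d) * T := by
        rw [hT, ← Units.val_mul, ← Units.val_mul, ← htu, inv_mul_cancel_right]
      rw [pow_of_quadratic hquad, ← hU, show (Ψ (H.conjX uN) : M2 p d) = 1 + U by rw [hU]; abel, mul_add, mul_one,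
        add_mul, one_mul, h2, smul_mul_assoc, ← Nat.cast_smul_eq_nsmul (ZMod p), hk, ZMod.natCast_zmod_val] at h3
      have h4 : lam • U = (lam * lam) • (U * T) := add_left_cancel h3
      calc U * T = (mu * mu * (lam * lam)) • (U * T) := by
            rw [show mu * mu * (lam * lam) = lam * mu * (lam * mu) by ring, hlm, one_mul, one_smul]
        _ = (mu * mu * lam) • U := by rw [← smul_smul, ← h4, smul_smul]
        _ = mu • U := by rw [show mu * mu * lam = lam * mu * mu by ring, hlm, one_mul]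
    set v1 := (T - mu • 1).mulVec v0 with hv1
    have hUv1 : U.mulVec v1 = 0 := by
      rw [hv1, Matrix.mulVec_mulVec, mul_sub, hUT, mul_smul_comm, mul_one, sub_self, Matrix.zero_mulVec]
    obtain ⟨w, hw⟩ := htfix v1 hUv1
    rw [← hU] at hw
    -- the component fixed by the torus
    set a := v1 + (1 - lam)⁻¹ • U.mulVec w with ha
    have hTU : T.mulVec (U.mulVec w) = lam • U.mulVec w := by
      have h2 := congrArg (fun Y : M2 p d => Y.mulVec w) htl
      simp only [← Matrix.mulVec_mulVec, Matrix.zero_mulVec] at h2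
      rwa [← hU, Matrix.sub_mulVec, Matrix.smul_mulVec, Matrix.one_mulVec, sub_eq_zero] at h2
    have hTv1 : T.mulVec v1 = v1 + U.mulVec w := by rw [← hw]; abel
    have hne1 : (1 : ZMod p) - lam ≠ 0 := sub_ne_zero.2 (Ne.symm hl1)
    have haT : T.mulVec a = a := by
      rw [ha, Matrix.mulVec_add, Matrix.mulVec_smul, hTU, hTv1, smul_smul, add_assoc]
      congr 1
      rw [show U.mulVec w + ((1 - lam)⁻¹ * lam) • U.mulVec w
          = (1 + (1 - lam)⁻¹ * lam) • U.mulVec w by rw [add_smul, one_smul]]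
      congr 1
      field_simp
      ring
    -- the rest
    have hne2 : lam - mu ≠ 0 := fun h => hl2 (by
      rw [sub_eq_zero] at h
      calc lam * lam = lam * mu := by rw [← h]
        _ = 1 := hlm)
    have hne3 : (1 : ZMod p) - mu ≠ 0 := fun h => hl1 (by
      rw [sub_eq_zero] at h
      rw [← h, mul_one] at hlm
      exact hlm)
    set r := v0 - (1 - mu)⁻¹ • a + (lam - mu)⁻¹ • ((1 - lam)⁻¹ • U.mulVec w) with hr
    have hTv0 : T.mulVec v0 = v1 + mu • v0 := by
      rw [hv1, Matrix.sub_mulVec, Matrix.smul_mulVec, Matrix.one_mulVec, sub_add_cancel]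
    have hrT : T.mulVec r = mu • r := by
      have hv1' : v1 = a - (1 - lam)⁻¹ • U.mulVec w := by rw [ha]; abel
      rw [hr, Matrix.mulVec_add, Matrix.mulVec_sub, Matrix.mulVec_smul, Matrix.mulVec_smul, Matrix.mulVec_smul,
        haT, hTU, hTv0, hv1']
      ext i
      simp only [Pi.add_apply, Pi.sub_apply, Pi.smul_apply, smul_eq_mul]
      field_simp
      ring
    have hv0r : v0 = r + (1 - mu)⁻¹ • a - (lam - mu)⁻¹ • ((1 - lam)⁻¹ • U.mulVec w) := by rw [hr]; abel
    have h0mem : v0 ∈ Dv := by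
      rw [hv0r]
      exact Dv.sub_mem (Dv.add_mem (himem _ hrT) (Dv.smul_mem _ (h1mem _ haT)))
        (Dv.smul_mem _ (Dv.smul_mem _ (hcmem w)))
    obtain ⟨b, hb, hbe⟩ := h0mem
    rwa [← show (b : S) = v from hinj hbe]

end CfsgLib.MCFusion
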