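import Cfsg.Agent.Lib.MaxClassFusion.QuadRep
import Cfsg.Agent.Lib.MaxClassFusion.GLLemma
import Cfsg.Agent.Lib.MaxClassFusion.Two

/-!
# A conjugate of the torus extends to the whole group
-/

set_option autoImplicit false
set_option linter.style.haveILetI false
set_option linter.unusedSectionVars false
attribute [-simp] ZMod.inv_coe_unit

open Subgroup
open scoped commutatorElement Classical

namespace CfsgLib.MCFusion

open Cfsg (FusionSystem)
open CfsgLib.Fusion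
open CfsgLib.MaxClassShift (gam gam_normal gam_anti gam_one gam_comm)
open CfsgLib.MaxClassUniform (Uniform gam_le_twoStepAt)
open CfsgLib.PGroup.MaxClassRank (twoStepAt)
open CfsgLib.MaxClassEss
open CfsgLib.RegUnip (subgroupOfFinite M2 GLw Uni mem_Uni shiftN ent dg Deg)

universe u

variable {Ω : Type u} [Group Ω] {S : Subgroup Ω} [Finite S] {p n : ℕ} [hpf : Fact p.Prime]
  {F : FusionSystem S} {E : Subgroup Ω}

/-- Triangular matrices normalise the lower transvections. -/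
theorem triangular_normalises {g T : GLw p 2} (hT : (T : M2 p 2) = !![1, 0; 1, 1])
    (hg : (g : M2 p 2) 0 1 = 0) : g * T * g⁻¹ ∈ zpowers T := by
  have hdet : (g : M2 p 2).det ≠ 0 := ((Matrix.isUnit_iff_isUnit_det _).1 g.isUnit).ne_zero
  rw [Matrix.det_fin_two, hg, zero_mul, sub_zero] at hdet
  set k : ℕ := ((g : M2 p 2) 1 1 / (g : M2 p 2) 0 0).val with hk
  have hq : ((T : M2 p 2) - 1) * ((T : M2 p 2) - 1) = 0 := by
    ext i j
    fin_cases i <;> fin_cases j <;> simp [hT, Matrix.mul_apply, Fin.sum_univ_two]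
  refine ⟨(k : ℤ), ?_⟩
  show T ^ (k : ℤ) = g * T * g⁻¹
  rw [zpow_natCast, eq_mul_inv_iff_mul_eq]
  refine Units.ext ?_
  rw [Units.val_mul, Units.val_mul, pow_of_quadratic hq]
  have hk' : (k : ZMod p) * (g : M2 p 2) 0 0 = (g : M2 p 2) 1 1 := by
    rw [hk, ZMod.natCast_zmod_val, div_mul_cancel₀ _ (left_ne_zero_of_mul hdet)]
  rw [hT]
  ext i j
  fin_cases i <;> fin_cases j <;>
    simp [Matrix.mul_apply, Fin.sum_univ_two, hg, hk', add_comm, ← Nat.cast_smul_eq_nsmul (ZMod p)]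

/-- Some conjugate of the torus extends to an automorphism of the whole group. -/
theorem Hyp.exists_norm (H : Hyp p n F E) (IH : Conc.{u} p (n - 1))
    (hne : twoStepAt S (n - 2) = twoStepAt S 2) {x : S} (hx : Uniform x p n) {u : S} (huA : u ∈ lev S 1)
    {σ : MulAut (lev S 1)} {l : (ZMod p)ˣ} (hT : Tor p n F E u σ l) {c d : ℕ} (hc3 : 3 ≤ c) (hcd : c + d = n)
    (hd : 2 ≤ d) (hdp : n + 1 ≤ c + p) (hW : omZ p S = gam S c) (hcase : d = 2 ∨ 7 ≤ p) :
    ∃ φ ∈ autTop F, ∃ Φ : MulAut S,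
      (∀ a : lev S 1, Φ a = (((φ * σ * φ⁻¹) a : lev S 1) : S)) ∧
      (d = 2 → ∀ z ∈ gam S (n - 1), app (φ * σ * φ⁻¹) z = z ^ (l : ZMod p).val) := by
  have h5 := H.five
  have hp := hpf.out
  have hp5 := H.five_prime IH
  obtain ⟨cj, hcj⟩ := exists_conjTop hx
  have D := top_data hx H.sat hcj
  have hnab : ∃ a b : lev S 1, a * b ≠ b * a := by
    by_contra hcon
    push Not at hcon
    exact H.neA (le_antisymm (H.inner_A' IH) fun a ha => H.mem_of_commute fun e he =>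
      congrArg Subtype.val (hcon ⟨a, ha⟩ ⟨e, H.inner_A' IH he⟩))
  have hcent : ∀ a ∈ lev S 1, ∀ b ∈ gam S c, Commute a b := fun a ha b hb =>
    ((hW.ge hb).2.2 a ha).symm
  have hinv : ∀ θ ∈ autTop F, ∀ b ∈ gam S c, app θ b ∈ gam S c := fun θ _ b hb =>
    hW.le (omZ_app (hW.ge hb))
  obtain ⟨φc, ρ, R⟩ := exists_topRep hx h5 hne D hnab (by omega) hcd hd hdp hcent hinv
  set s : autTop F := ⟨σ, hT.mem⟩ with hs
  set lam : ZMod p := (l : ZMod p) with hlam
  have hmemA : ∀ {b : S}, b ∈ gam S c → b ∈ lev S 1 := fun hb =>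
    gam_two_le_lev_one hx (gam_anti (show 2 ≤ c by omega) hb)
  have hpowφ : ∀ b ∈ gam S c, ∀ i : ℕ, φc (b ^ i) = (i : ZMod p) • φc b := by
    intro b hb i
    induction i with
    | zero => rw [pow_zero, (R.zero 1 (one_mem _)).2 rfl, Nat.cast_zero, zero_smul]
    | succ i ih => rw [pow_succ, R.add _ (pow_mem hb i) _ hb, ih, Nat.cast_succ, add_smul, one_smul]
  have hinj : ∀ a ∈ gam S c, ∀ b ∈ gam S c, φc a = φc b → a = b := fun a ha b hb he => by
    have h1 := R.add _ (mul_mem ha (inv_mem hb)) b hb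
    rw [inv_mul_cancel_right, he, eq_comm, add_eq_right] at h1
    exact mul_inv_eq_one.1 ((R.zero _ (mul_mem ha (inv_mem hb))).1 h1)
  have hq : ((ρ s : M2 p d) - 1) * ((ρ s : M2 p d) - lam • 1) = 0 := by
    refine Matrix.ext_of_mulVec_single fun i => ?_
    obtain ⟨b, hb, hbe⟩ := R.surj (Pi.single i 1)
    have hbV := H.omZ_le_vec IH (hW.ge hb)
    have hub : Commute u b := ((hW.ge hb).2.2 u huA).symm
    set b' := app σ b * (b ^ lam.val)⁻¹ with hb'
    have hb'c : b' ∈ gam S c := mul_mem (hinv σ hT.mem b hb) (inv_mem (pow_mem hb _))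
    have h1 : φc b' = ((ρ s : M2 p d) - lam • 1).mulVec (φc b) := by
      have h2 := R.add b' hb'c _ (pow_mem hb lam.val)
      rw [hb', inv_mul_cancel_right, R.law s b hb, hpowφ b hb, ZMod.natCast_zmod_val] at h2
      rw [Matrix.sub_mulVec, Matrix.smul_mulVec, Matrix.one_mulVec, h2, add_sub_cancel_right]
    rw [← hbe, ← Matrix.mulVec_mulVec, ← h1, Matrix.zero_mulVec, Matrix.sub_mulVec, Matrix.one_mulVec,
      sub_eq_zero, ← R.law s b' hb'c]
    exact congrArg φc (hT.quad b hbV hub)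
  have hm : cj x ∈ autTop F := D.mem x
  rcases (show d = 2 ∨ (3 ≤ d ∧ 7 ≤ p) by omega) with rfl | ⟨hd3, hp7⟩
  swap
  · obtain ⟨g, ⟨φ, rfl⟩, hg⟩ := exists_normalises hp7 hd3 (show d < p by omega) (X := ρ.range) ⟨_, rfl⟩
      (R.shift hm) (R.sylow hm) (g := ρ s) ⟨_, rfl⟩ (l := lam) (Units.ne_zero l)
      (fun j hj hjp h => hT.prim j hj hjp (Units.ext (by rw [Units.val_pow_eq_pow_val, Units.val_one]; exact h))) hq
    obtain ⟨Φ, hΦ⟩ := R.extend hm (φ * s * φ⁻¹) (by rwa [map_mul, map_mul, map_inv])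
    exact ⟨φ, φ.2, Φ, hΦ, fun h => absurd h (by omega)⟩
  -- two layers
  set T := ρ ⟨cj x, hm⟩ with hTdef
  have hT1 : (T : M2 p 2) = !![1, 0; 1, 1] := by
    rw [hTdef, R.shift hm]
    ext i j
    fin_cases i <;> fin_cases j <;> simp [shiftN]
  obtain ⟨z0, hz0, hz0'⟩ := exists_layer hx (k := n - 1) (by omega) (by omega)
  have hz0ne : z0 ≠ 1 := fun e => hz0' (e ▸ one_mem _)
  have hz0c : z0 ∈ gam S c := gam_anti (by omega) hz0
  set r := φc z0 1 with hr
  have hz0φ : φc z0 = r • (Pi.single 1 1 : Fin 2 → ZMod p) := by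
    ext i
    fin_cases i
    · simpa using R.low 1 (by omega) z0 (gam_anti (by omega) hz0) 0 (by norm_num)
    · simp [hr]
  have hr0 : r ≠ 0 := fun h => hz0ne ((R.zero z0 hz0c).1 (by rw [hz0φ, h, zero_smul]))
  -- the conclusion from an eigenvector
  have finish : ∀ φ : autTop F, (ρ (φ * s * φ⁻¹) : M2 p 2).mulVec (Pi.single 1 1) = lam • Pi.single 1 1 →
      ∃ φ ∈ autTop F, ∃ Φ : MulAut S,
        (∀ a : lev S 1, Φ a = (((φ * σ * φ⁻¹) a : lev S 1) : S)) ∧
        (2 = 2 → ∀ z ∈ gam S (n - 1), app (φ * σ * φ⁻¹) z = z ^ lam.val) := by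
    intro φ hφ
    obtain ⟨Φ, hΦ⟩ := R.extend hm (φ * s * φ⁻¹) (triangular_normalises hT1 (by
      have := congrFun hφ 0
      simpa using this))
    refine ⟨φ, φ.2, Φ, hΦ, fun _ z hz => ?_⟩
    obtain ⟨i, rfl⟩ := mem_zpowers_last hx (by omega) hz0 hz0ne hz
    have h1 : app ((φ : MulAut (lev S 1)) * σ * (φ : MulAut (lev S 1))⁻¹) z0 = z0 ^ lam.val := by
      refine hinj _ (hinv _ (φ * s * φ⁻¹).2 _ hz0c) _ (pow_mem hz0c _) ?_
      refine (R.law (φ * s * φ⁻¹) z0 hz0c).trans ?_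
      rw [hpowφ z0 hz0c, hz0φ, Matrix.mulVec_smul, hφ, smul_comm, ZMod.natCast_zmod_val]
    rw [app_zpow (hmemA hz0c), h1, ← zpow_natCast, ← zpow_natCast, ← zpow_mul, ← zpow_mul, mul_comm]
  have hg1 : (ρ s : M2 p 2).mulVec (Pi.single 1 1) ≠ Pi.single 1 1 := fun h => hT.moved z0 hz0 hz0ne
    (hinj _ (hinv σ hT.mem _ hz0c) _ hz0c ((R.law s z0 hz0c).trans (by rw [hz0φ, Matrix.mulVec_smul, h])))
  by_cases htri : ∀ g : autTop F, (ρ g : M2 p 2) 0 1 = 0
  · -- the centre is fixed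
    refine finish 1 ?_
    rw [one_mul, inv_one, mul_one]
    have hcol : (ρ s : M2 p 2).mulVec (Pi.single 1 1) = (ρ s : M2 p 2) 1 1 • Pi.single 1 1 := by
      ext i; fin_cases i <;> simp [htri s]
    have h2 := congrArg (fun Y : M2 p 2 => Y.mulVec (Pi.single 1 1) 1) hq
    simp only [← Matrix.mulVec_mulVec, Matrix.sub_mulVec, Matrix.smul_mulVec, Matrix.one_mulVec, hcol,
      ← sub_smul, Matrix.mulVec_smul, Matrix.zero_mulVec, Pi.sub_apply, Pi.smul_apply, Pi.zero_apply,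
      Pi.single_eq_same, smul_eq_mul, mul_one, ← mul_sub_one] at h2
    rw [hcol]
    rcases mul_eq_zero.1 h2 with h | h
    · rw [sub_eq_zero.1 h]
    · exact absurd (by rw [hcol, sub_eq_zero.1 h, one_smul]) hg1
  · push Not at htri
    obtain ⟨g0, hg0⟩ := htri
    obtain ⟨v, hv⟩ : ∃ v, ((ρ s : M2 p 2) - 1).mulVec v ≠ 0 := by
      refine ⟨Pi.single 1 1, ?_⟩
      rw [Matrix.sub_mulVec, Matrix.one_mulVec]
      exact sub_ne_zero.2 hg1
    set w := ((ρ s : M2 p 2) - 1).mulVec v with hw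
    have hgw : (ρ s : M2 p 2).mulVec w = lam • w := by
      have hcomm : ((ρ s : M2 p 2) - lam • 1) * ((ρ s : M2 p 2) - 1) = 0 := by
        have hcm : Commute ((ρ s : M2 p 2) - lam • 1) ((ρ s : M2 p 2) - 1) :=
          ((Commute.refl (ρ s : M2 p 2)).sub_right (Commute.one_right _)).sub_left
            ((Commute.one_left _).smul_left lam)
        rw [hcm.eq]; exact hq
      have h2 := congrArg (fun Y : M2 p 2 => Y.mulVec v) hcomm
      simp only [← Matrix.mulVec_mulVec, Matrix.zero_mulVec] at h2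
      rwa [← hw, Matrix.sub_mulVec, Matrix.smul_mulVec, Matrix.one_mulVec, sub_eq_zero] at h2
    obtain ⟨Sm, hSm⟩ : ∃ Sm : Matrix.SpecialLinearGroup (Fin 2) (ZMod p), Sm.1.mulVec w = Pi.single 1 1 := by
      by_cases h0 : w 0 = 0
      · have h1 : w 1 ≠ 0 := fun h1 => hv (by ext i; fin_cases i <;> simp [h0, h1])
        refine ⟨⟨!![w 1, 0; 0, (w 1)⁻¹], by rw [Matrix.det_fin_two_of, mul_zero, sub_zero, mul_inv_cancel₀ h1]⟩, ?_⟩
        ext i; fin_cases i <;> simp [Matrix.mulVec, dotProduct, Fin.sum_univ_two, h0, h1]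
      · refine ⟨⟨!![w 1, -w 0; (w 0)⁻¹, 0], by
          rw [Matrix.det_fin_two_of, mul_zero, neg_mul, mul_inv_cancel₀ h0, zero_sub, neg_neg]⟩, ?_⟩
        ext i; fin_cases i <;> simp [Matrix.mulVec, dotProduct, Fin.sum_univ_two, h0, mul_comm]
    have hmemT : T ∈ ρ.range := ⟨_, rfl⟩
    obtain ⟨φ, hφ⟩ := sl2_mem_of_mover ρ.range (T := T) (s := ρ g0) one_ne_zero hT1 hmemT
      (mul_mem (mul_mem ⟨g0, rfl⟩ hmemT) (inv_mem ⟨g0, rfl⟩)) hg0 Sm
    refine finish φ ?_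
    have hφv : (ρ φ : M2 p 2) = Sm.1 := by rw [hφ]; rfl
    rw [map_mul, map_mul, map_inv, Units.val_mul, Units.val_mul, ← Matrix.mulVec_mulVec, ← Matrix.mulVec_mulVec]
    have h1 : ((ρ φ)⁻¹ : GLw p 2).1.mulVec (Pi.single 1 1) = w := by
      rw [← hSm, ← hφv, Matrix.mulVec_mulVec, Units.inv_mul, Matrix.one_mulVec]
    rw [h1, hgw, Matrix.mulVec_smul, hφv, hSm]

end CfsgLib.MCFusion
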