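import Cfsg.Agent.Lib.MaxClassFusion.OmegaCentre

/-!
# Matrices of the automizer of the first two step centralizer on a central term
-/

set_option autoImplicit false
set_option linter.style.haveILetI false
set_option linter.unusedSectionVars false

open Subgroup
open scoped commutatorElement Classical

namespace CfsgLib.MCFusion

open Cfsg (FusionSystem)
open CfsgLib.Fusion
open CfsgLib.MaxClassShift (gam gam_normal gam_anti gam_one gam_comm)
open CfsgLib.MaxClassUniform (Uniform gam_le_twoStepAt)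
open CfsgLib.PGroup.MaxClassRank (twoStepAt)
open CfsgLib.MaxClassEss
open CfsgLib.RegUnip (subgroupOfFinite M2 GLw Uni mem_Uni shiftN ent dg Deg)

universe u

attribute [local irreducible] autTop app

variable {Ω : Type u} [Group Ω] {S : Subgroup Ω} [Finite S] {p n : ℕ} [hpf : Fact p.Prime]
  {F : FusionSystem S}

theorem map_ker_conj_mem {A B : Type*} [Group A] [Group B] {X : Subgroup A} (f : X →* B) :
    ∀ γ ∈ X, ∀ k ∈ f.ker.map X.subtype, γ * k * γ⁻¹ ∈ f.ker.map X.subtype := by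
  rintro γ hγ _ ⟨σ, hσ, rfl⟩
  exact ⟨⟨γ, hγ⟩ * σ * ⟨γ, hγ⟩⁻¹, (MonoidHom.normal_ker f).conj_mem σ hσ ⟨γ, hγ⟩, rfl⟩

/-- The representation of the automizer on an invariant central term. -/
structure TopRep (x : S) (F : FusionSystem S) (c d : ℕ) (cj : S →* MulAut (lev S 1))
    (φ : S → Fin d → ZMod p) (ρ : autTop F →* GLw p d) : Prop where
  add : ∀ a ∈ gam S c, ∀ b ∈ gam S c, φ (a * b) = φ a + φ b
  zero : ∀ a ∈ gam S c, φ a = 0 ↔ a = 1
  surj : ∀ v, ∃ b ∈ gam S c, φ b = v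
  law : ∀ σ : autTop F, ∀ b ∈ gam S c, φ (app (σ : MulAut (lev S 1)) b) = (ρ σ : M2 p d).mulVec (φ b)
  shift : ∀ hm : cj x ∈ autTop F, (ρ ⟨cj x, hm⟩ : M2 p d) = 1 + shiftN (ZMod p) d
  sylow : ∀ hm : cj x ∈ autTop F, ¬ p ∣ (zpowers (ρ ⟨cj x, hm⟩)).relIndex ρ.range
  extend : ∀ hm : cj x ∈ autTop F, ∀ σ : autTop F,
    ρ σ * ρ ⟨cj x, hm⟩ * (ρ σ)⁻¹ ∈ zpowers (ρ ⟨cj x, hm⟩) →
    ∃ Φ : MulAut S, ∀ a : lev S 1, Φ a = (((σ : MulAut (lev S 1)) a : lev S 1) : S)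
  low : ∀ (j : ℕ), j ≤ d → ∀ a ∈ gam S (c + j), ∀ i : Fin d, (i : ℕ) < j → φ a i = 0

theorem exists_topRep {x : S} (hx : Uniform x p n) (h5 : 5 ≤ n)
    (hne : twoStepAt S (n - 2) = twoStepAt S 2) {cj : S →* MulAut (lev S 1)}
    (D : TopData p (autTop F) cj) (hnab : ∃ a b : lev S 1, a * b ≠ b * a) {c d : ℕ} (hc : 2 ≤ c)
    (hcd : c + d = n) (hd : 2 ≤ d) (hdp : n + 1 ≤ c + p)
    (hcent : ∀ a ∈ lev S 1, ∀ b ∈ gam S c, Commute a b)
    (hinv : ∀ σ ∈ autTop F, ∀ b ∈ gam S c, app σ b ∈ gam S c) :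
    ∃ (φ : S → Fin d → ZMod p) (ρ : autTop F →* GLw p d), TopRep x F c d cj φ ρ := by
  have hab : ∀ a ∈ gam S c, ∀ b ∈ gam S c, Commute a b := fun a ha b hb =>
    hcent a (gam_two_le_lev_one hx (gam_anti hc ha)) b hb
  obtain ⟨b0, St⟩ := sect_of_term hx hc hcd (by omega) hdp hab
  obtain ⟨w, hw⟩ := St.exists_lift
  obtain ⟨φ0, C⟩ := St.exists_coord hw
  obtain ⟨R, hR⟩ := exists_restrict hx hc (autTop F) hinv
  have htrivial : ∀ σ ∈ (⊤ : Subgroup (MulAut (gam S c))), ∀ a, (gam S c).subtype a ∈ gam S (c + d) →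
      (gam S c).subtype (σ a) ∈ gam S (c + d) := by
    intro σ _ a ha
    rw [hcd, hx.gam_eq_bot le_rfl, mem_bot] at ha ⊢
    rw [show a = 1 from Subtype.ext ha, map_one, map_one]
  set ρ : autTop F →* GLw p d := (St.action hw C ⊤ htrivial).comp
    ((R.codRestrict ⊤ fun σ => mem_top _)) with hρ
  have hρv : ∀ σ, (ρ σ : M2 p d) = mat φ0 w (R σ) := fun σ => rfl
  let φ : S → Fin d → ZMod p := fun a => if h : a ∈ gam S c then φ0 ⟨a, h⟩ else 0
  have hφ : ∀ {a} (h : a ∈ gam S c), φ a = φ0 ⟨a, h⟩ := fun h => dif_pos h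
  have hzero : ∀ a ∈ gam S c, φ a = 0 ↔ a = 1 := fun a ha => by
    rw [hφ ha, C.zero, hcd, hx.gam_eq_bot le_rfl, mem_bot]
    exact Iff.rfl
  have hlaw : ∀ σ : autTop F, ∀ b ∈ gam S c, φ (app (σ : MulAut (lev S 1)) b) = (ρ σ : M2 p d).mulVec (φ b) := by
    intro σ b hb
    rw [hφ (hinv σ σ.2 b hb), hφ hb, hρv, ← St.apply_eq hw C (htrivial (R σ) (mem_top _))]
    exact congrArg φ0 (Subtype.ext (hR σ ⟨b, hb⟩).symm)
  have hinj : ∀ a ∈ gam S c, ∀ b ∈ gam S c, φ a = φ b → a = b := fun a ha b hb he => by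
    rw [hφ ha, hφ hb] at he
    have h1 : φ0 (⟨a, ha⟩ * (⟨b, hb⟩ : gam S c)⁻¹) = 0 := by rw [C.add, C.inv, he, add_neg_cancel]
    rw [C.zero, hcd, hx.gam_eq_bot le_rfl, mem_bot] at h1
    exact mul_inv_eq_one.1 h1
  -- the kernel
  set K : Subgroup (MulAut (lev S 1)) := ρ.ker.map (autTop F).subtype with hK
  have hKX : K ≤ autTop F := map_subtype_le _
  have hkfix : ∀ σ : autTop F, ρ σ = 1 → ∀ b ∈ gam S c, app (σ : MulAut (lev S 1)) b = b := fun σ hσ b hb =>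
    hinj _ (hinv σ σ.2 b hb) b hb (by rw [hlaw σ b hb, hσ, Units.val_one, Matrix.one_mulVec])
  haveI := finite_aut (G := S)
  have hKp : IsPGroup p K := by
    rintro ⟨_, σ, hσ, rfl⟩
    obtain ⟨k, hk⟩ := D.pow_eq_one hx (by omega) hnab (U := gam S c) (W := ⊥) (i := c) hc (by omega)
      (Or.inr hne) le_rfl bot_le
      (fun θ hθ a ha => app_coe θ a ▸ hinv θ hθ a ha)
      (fun θ _ a ha => by
        rw [show a = 1 from Subtype.ext (mem_bot.1 ha), map_one]; exact one_mem (⊥ : Subgroup S))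
      σ.2 (fun a ha => mem_bot.2 (mul_inv_eq_one.2 ((app_coe _ a).symm.trans (hkfix σ hσ a ha))))
    exact ⟨k, Subtype.ext hk⟩
  have hKn : ∀ γ ∈ autTop F, ∀ k ∈ K, γ * k * γ⁻¹ ∈ K := map_ker_conj_mem ρ
  have hKc := D.le_range hx.isPGroup K hKX hKp hKn
  -- the conjugations
  have hcA : ∀ (hm : ∀ g, cj g ∈ autTop F) (a : S), a ∈ lev S 1 → ρ ⟨cj a, hm a⟩ = 1 := by
    intro hm a ha
    refine Units.ext (Matrix.ext_of_mulVec_single fun i => ?_)
    rw [Units.val_one, Matrix.one_mulVec, ← C.base i, ← hφ (w i).2, ← hlaw _ _ (w i).2]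
    refine congrArg φ ?_
    show app (cj a) ((w i : gam S c) : S) = _
    rw [app_apply _ (gam_two_le_lev_one hx (gam_anti hc (w i).2)), D.conj]
    show a * ((w i : gam S c) : S) * a⁻¹ = _
    rw [(hcent a ha _ (w i).2).eq, mul_inv_cancel_right]
  have hshift : ∀ hm : cj x ∈ autTop F, (ρ ⟨cj x, hm⟩ : M2 p d) = 1 + shiftN (ZMod p) d := by
    intro hm
    rw [hρv]
    refine St.mat_shift hw C fun a => ?_
    show ((R ⟨cj x, hm⟩ a : gam S c) : S) = x * (a : S) * x⁻¹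
    rw [hR]
    show app (cj x) (a : S) = _
    rw [app_apply _ (gam_two_le_lev_one hx (gam_anti hc a.2)), D.conj]
  have hrange : ∀ g : S, ρ ⟨cj g, D.mem g⟩ ∈ zpowers (ρ ⟨cj x, D.mem x⟩) := by
    intro g
    obtain ⟨i, hi⟩ := exists_zpow_mem hx le_rfl (show 2 + 2 ≤ n by omega) g
    rw [← lev_one] at hi
    refine ⟨i, ?_⟩
    rw [show (⟨cj g, D.mem g⟩ : autTop F) = ⟨cj x, D.mem x⟩ ^ i * ⟨cj ((x ^ i)⁻¹ * g), D.mem _⟩ from
      Subtype.ext (by simp), map_mul, map_zpow, hcA D.mem _ hi, mul_one]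
  refine ⟨φ, ρ, ?_, hzero, fun v => ?_, hlaw, hshift, fun hm => ?_, fun hm σ hσ => ?_, ?_⟩
  · intro a ha b hb
    rw [hφ ha, hφ hb, hφ (mul_mem ha hb), ← C.add]
    rfl
  · have h1 : ∀ i, ∀ t : ZMod p, ∃ b ∈ gam S c, φ b = Pi.single i t := fun i t => by
      refine ⟨((w i ^ t.val : gam S c) : S), ((w i) ^ t.val).2, ?_⟩
      rw [hφ ((w i) ^ t.val).2, ← zpow_natCast]
      show φ0 (w i ^ (t.val : ℤ)) = _
      rw [C.zpow, C.base i, natCast_zsmul, ← Pi.single_smul, nsmul_one, ZMod.natCast_zmod_val]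
    rw [← Finset.univ_sum_single v]
    refine Finset.sum_induction (fun i => Pi.single i (v i)) (fun u => ∃ b ∈ gam S c, φ b = u) ?_
      ⟨1, one_mem _, (hzero 1 (one_mem _)).2 rfl⟩ fun i _ => h1 i (v i)
    rintro _ _ ⟨a, ha, rfl⟩ ⟨b, hb, rfl⟩
    exact ⟨a * b, mul_mem ha hb, by rw [hφ ha, hφ hb, hφ (mul_mem ha hb), ← C.add]; rfl⟩
  · have h1 : ¬ p ∣ (cj.range.subgroupOf (autTop F)).index := D.sylow
    have h2 : zpowers (ρ ⟨cj x, hm⟩) = (cj.range.subgroupOf (autTop F)).map ρ := by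
      refine le_antisymm (zpowers_le.2 (mem_map_of_mem ρ (show cj x ∈ cj.range from ⟨x, rfl⟩))) ?_
      rintro _ ⟨⟨σ, hσ⟩, ⟨g, rfl⟩, rfl⟩
      exact hrange g
    rw [h2, show ρ.range = (⊤ : Subgroup (autTop F)).map ρ from MonoidHom.range_eq_map ρ, relIndex_map_map,
      top_sup_eq, relIndex_top_right]
    exact fun hdv => h1 (hdv.trans (index_dvd_of_le le_sup_left))
  · obtain ⟨i, hi⟩ := mem_zpowers_iff.1 hσ
    refine D.ext σ σ.2 (D.normalizes hx (by omega) ?_)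
    have hker : (⟨cj x, hm⟩ ^ i)⁻¹ * (σ * ⟨cj x, hm⟩ * σ⁻¹) ∈ ρ.ker := by
      rw [MonoidHom.mem_ker, map_mul, map_inv, map_zpow, hi, map_mul, map_mul, map_inv, inv_mul_cancel]
    have h2 := hKc (mem_map_of_mem (autTop F).subtype hker)
    simp only [Subgroup.coe_subtype, Subgroup.coe_mul, Subgroup.coe_inv, SubgroupClass.coe_zpow] at h2
    rw [← map_zpow] at h2
    have h3 := cj.range.mul_mem (show cj (x ^ i) ∈ cj.range from ⟨_, rfl⟩) h2
    rwa [mul_inv_cancel_left] at h3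
  · intro j hj a ha i hi
    have hac : a ∈ gam S c := gam_anti (by omega) ha
    rw [hφ hac]
    exact St.coord_low hw C hj (a := ⟨a, hac⟩) ha hi

end CfsgLib.MCFusion
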