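import Cfsg.Agent.Lib.MaxClassFusion.Group
import Cfsg.Agent.Lib.MaxClassEss.IndexOne
import Cfsg.Agent.Lib.Fusion.System.Alperin
import Cfsg.Agent.Lib.Fusion.System.MaxClassCubeEssential

/-!
# Essential subgroups without uniform elements: basic facts

An essential subgroup `E` with the strongly embedded subgroup of its automizer given by the
automorphisms extending to larger subgroups.
-/

set_option autoImplicit false
set_option linter.style.haveILetI false
set_option linter.unusedSectionVars false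

open Subgroup
open scoped commutatorElement Classical

namespace CfsgLib.MCFusion

open Cfsg (FusionSystem autInducedBy)
open Cfsg.FusionSystem (normalizerIn centralizerIn)
open CfsgLib.Fusion
open CfsgLib.Fusion.MaxClassCubeSystem (sub mem_sub sub_le sub_centralizer sub_normalizer)
open CfsgLib.MaxClassShift (gam gam_normal gam_anti gam_one gam_comm)
open CfsgLib.MaxClassUniform (Uniform gam_le_twoStepAt exists_uniform)
open CfsgLib.PGroup.MaxClassRank (twoStepAt)
open CfsgLib.MaxClassEss

universe u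

variable {Ω : Type u} [Group Ω] {S : Subgroup Ω} [Finite S] {p n : ℕ} [hpf : Fact p.Prime]
  {F : FusionSystem S} {E : Subgroup Ω}

/-- An essential subgroup without uniform elements other than the two centralizers. -/
structure Hyp (p n : ℕ) (F : FusionSystem S) (E : Subgroup Ω) : Prop where
  isP : IsPGroup p S
  card : Nat.card S = p ^ n
  five : 5 ≤ n
  cl : Group.nilpotencyClass S = n - 1
  sat : F.IsSaturated p
  ess : F.IsEssential p E
  inner : E.subgroupOf S ≤ lev S 1 ∨ E.subgroupOf S ≤ twoStepAt S (n - 2)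
  neA : E.subgroupOf S ≠ lev S 1
  neC : E.subgroupOf S ≠ twoStepAt S (n - 2)

variable (H : Hyp p n F E)
include H

theorem Hyp.le : E ≤ S := H.ess.1.1

theorem Hyp.exists_x : ∃ x : S, Uniform x p n := by
  obtain ⟨x, hx, -⟩ := exists_uniform n S H.isP H.card (by have := H.five; omega) H.cl ⊥ (fun e => by
    have h1 := congrArg (fun K : Subgroup S => Nat.card K) e
    simp only [card_bot, card_top, H.card] at h1
    exact absurd h1.symm (Nat.one_lt_pow (by have := H.five; omega) hpf.out.one_lt).ne')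
  exact ⟨x, hx⟩

theorem Hyp.inner_A (hne : twoStepAt S (n - 2) = twoStepAt S 2) : E.subgroupOf S ≤ lev S 1 := by
  rcases H.inner with h1 | h1
  · exact h1
  · rwa [hne, ← lev_one] at h1

theorem Hyp.mem_of_commute {g : S} (hg : ∀ e ∈ E.subgroupOf S, Commute g e) : g ∈ E.subgroupOf S :=
  mem_subgroupOf.2 (MaxClassEss.centralizer_le H.ess g.2 fun e he =>
    congrArg Subtype.val (hg ⟨e, H.le he⟩ (mem_subgroupOf.2 he)).eq.symm)

theorem Hyp.gam_last_le : gam S (n - 1) ≤ E.subgroupOf S := fun z hz => H.mem_of_commute fun e _ => by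
  obtain ⟨x, hx⟩ := H.exists_x
  exact (comm_gam_central hx hz e).symm

theorem Hyp.lt : E < S := by
  refine lt_of_le_of_ne H.le fun e => ?_
  obtain ⟨x, hx⟩ := H.exists_x
  have h5 := H.five
  have hT : E.subgroupOf S = ⊤ := by rw [e, subgroupOf_self]
  rcases H.inner with h1 | h1
  · refine uniform_notMem hx le_rfl (by omega) ?_
    rw [← lev_one]; exact h1 (hT.ge (mem_top x))
  · exact uniform_notMem hx (i := n - 2) (by omega) (by omega) (h1 (hT.ge (mem_top x)))

theorem Hyp.card_E : Nat.card (E.subgroupOf S) = Nat.card E :=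
  Nat.card_congr (subgroupOfEquivOfLe H.le).toEquiv

/-- The automorphisms extending to larger subgroups form a proper subgroup. -/
theorem Hyp.exists_notMem_ext : ∃ g ∈ F.autGroup E, g ∉ extGroup F E := by
  by_contra hcon
  push Not at hcon
  exact extGroup_ne_autGroup H.isP H.sat H.ess (le_antisymm (extGroup_le_autGroup H.le) hcon)

theorem Hyp.autS_le_ext : autInducedBy S E ≤ extGroup F E := fun α hα => by
  obtain ⟨g, hg, e⟩ := mem_autInducedBy_iff.1 hα
  exact mem_extGroup (lt_normalizerIn H.isP H.le H.lt.ne) (isMap_conj inf_le_left hg) fun x hx => (e x hx).symm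

/-- An automorphism moving some outer conjugation to a conjugation extends. -/
theorem Hyp.mem_ext {α : MulAut E} (hα : α ∈ F.autGroup E) {t : MulAut E} (ht : t ∈ autInducedBy S E)
    (ht1 : t ∉ Cfsg.Inn E) (hc : α * t * α⁻¹ ∈ autInducedBy S E) : α ∈ extGroup F E := by
  obtain ⟨m, hm, hme⟩ := mem_autInducedBy_iff.1 ht
  obtain ⟨k, hk, hke⟩ := mem_autInducedBy_iff.1 hc
  have hmap := (mem_autGroup_iff H.le).1 hα
  obtain ⟨f, hf, hfa⟩ := (isReceptive_iff.1 (IsSaturated.automized_receptive H.isP H.sat H.ess.2.1).2).2 E _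
    hmap (img_autFun α)
  refine mem_extGroup (lt_of_le_of_ne (le_extSub hmap) fun he => ht1 ?_) hf hfa
  have h1 : m ∈ E := he.ge ⟨⟨hm, mem_normalizer_of_autFun hme⟩, k, hk, fun x hx => by
    rw [← hme x hx, ← hke _ (autFun_mem α hx), ← autFun_mul _ _ hx, ← autFun_mul _ _ hx,
      inv_mul_cancel_right]⟩
  rw [inn_eq_autInducedBy]
  exact mem_autInducedBy_iff.2 ⟨m, h1, hme⟩

/-- The extendable automorphisms behave as a strongly embedded subgroup. -/
theorem Hyp.ext_embedded {t γ : MulAut E} (ht : t ∈ autInducedBy S E) (ht1 : t ∉ Cfsg.Inn E)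
    (hγ : γ ∈ F.autGroup E) (hc : γ * t * γ⁻¹ ∈ extGroup F E) : γ ∈ extGroup F E := by
  haveI := finite_of_le H.le
  haveI := finite_mulAut (P := E)
  have hsyl : ¬ p ∣ (autInducedBy S E).relIndex (F.autGroup E) := ((isFullyAutomized_iff H.isP).1
    (IsSaturated.automized_receptive H.isP H.sat H.ess.2.1).1).2
  have hsylM : ¬ p ∣ (autInducedBy S E).relIndex (extGroup F E) := fun hd =>
    hsyl (hd.trans (Dvd.intro _ (relIndex_mul_relIndex _ _ _ H.autS_le_ext (extGroup_le_autGroup H.le))))
  have hp1 : IsPGroup p (zpowers (γ * t * γ⁻¹)) := by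
    have h1 : IsPGroup p (zpowers t) := (isPGroup_autInducedBy H.isP).to_le (zpowers_le.2 ht)
    have h2 := h1.map (MulAut.conj γ).toMonoidHom
    rwa [MonoidHom.map_zpowers] at h2
  obtain ⟨m, hm, hle⟩ := exists_conj_le_of_not_dvd_relIndex (isPGroup_autInducedBy H.isP) H.autS_le_ext hsylM
    hp1 (zpowers_le.2 hc)
  have h1 : m * (γ * t * γ⁻¹) * m⁻¹ ∈ autInducedBy S E := conjBy_le_iff.1 hle _ (mem_zpowers _)
  have h2 := H.mem_ext (mul_mem (extGroup_le_autGroup H.le hm) hγ) ht ht1
    (by rwa [show m * γ * t * (m * γ)⁻¹ = m * (γ * t * γ⁻¹) * m⁻¹ by group])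
  exact (Subgroup.mul_mem_cancel_left _ hm).1 h2

theorem Hyp.conjAut_notInn {g : Ω} (hg : g ∈ S) (hgn : g ∈ Subgroup.normalizer (E : Set Ω)) (hgE : g ∉ E) :
    conjAut g hgn ∉ Cfsg.Inn E := fun h1 =>
  hgE (mem_of_conjAut_mem_inn hg hgn H.le (centralizerIn_le_of_isCentric H.ess.1) h1)

theorem Hyp.exists_outer : ∃ t ∈ autInducedBy S E, t ∉ Cfsg.Inn E := by
  obtain ⟨g, hg, hgE⟩ := exists_mem_not_mem_normalizer H.isP H.lt
  exact ⟨_, conjAut_mem hg.1 hg.2, H.conjAut_notInn hg.1 hg.2 hgE⟩

/-- A normal subgroup of the automizer inside the extendable automorphisms meets the conjugations in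
inner ones. -/
theorem Hyp.normal_inter {K : Subgroup (MulAut E)} (hKM : K ≤ extGroup F E)
    (hn : ∀ γ ∈ F.autGroup E, ∀ k ∈ K, γ * k * γ⁻¹ ∈ K) {t : MulAut E} (ht : t ∈ autInducedBy S E)
    (htK : t ∈ K) : t ∈ Cfsg.Inn E := by
  by_contra ht1
  obtain ⟨g, hg, hgM⟩ := H.exists_notMem_ext
  exact hgM (H.ext_embedded ht ht1 hg (hKM (hn g hg t htK)))

/-- The subgroup is not normal. -/
theorem Hyp.not_normal (hp5 : 5 ≤ p) : ¬ (E.subgroupOf S).Normal := fun hEn => by
  have h4 : 4 ≤ n := by have := H.five; omega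
  have hidx := index_eq_prime hp5 H.isP H.card h4 H.cl H.sat H.ess hEn
  rcases maximal_cases hp5 H.isP H.card h4 H.cl H.ess hEn hidx with h | h | ⟨h, -⟩
  · exact H.neA (lev_one (G := S) ▸ h)
  · exact H.neC h
  · have := H.five; omega

/-- No conjugate of the subgroup is normal. -/
theorem Hyp.conj_not_normal (hp5 : 5 ≤ p) {f : Ω → Ω} (hf : IsMap F E f) :
    ¬ ((img E f).subgroupOf S).Normal := fun hn => by
  have hle := hf.img_le
  have h1 := H.ess.2.1.2 (img E f) (isConj_iff.2 ⟨f, hf, rfl⟩)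
  have h2 : normalizerIn S (img E f) = S := le_antisymm inf_le_left
    (le_inf le_rfl ((normal_subgroupOf_iff_le_normalizer hle).1 hn))
  rw [h2] at h1
  have h3 : normalizerIn S E = S := eq_of_le_of_card_le le_rfl inf_le_left h1
  refine H.not_normal hp5 ((normal_subgroupOf_iff_le_normalizer H.le).2 ?_)
  exact h3.ge.trans inf_le_right

/-- If the subgroup contains the second centre in its centre it has order at least `p ^ 4`, unless
it is abelian of order `p ^ 3`; the latter does not happen. -/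
theorem Hyp.card_ge_of_Z2 (hp5 : 5 ≤ p) (hle : gam S (n - 2) ≤ E.subgroupOf S)
    (hc : ∀ r ∈ gam S (n - 2), ∀ e ∈ E.subgroupOf S, Commute r e) : p ^ 4 ≤ Nat.card E := by
  have hp := hpf.out
  have h5 := H.five
  obtain ⟨x, hx⟩ := H.exists_x
  have hZ2 : Nat.card (gam S (n - 2)) = p ^ 2 := by rw [hx.card_gam (by omega) (by omega)]; congr 1; omega
  refine Fusion.MaxClassCubeEssential.card_ge hp5 H.isP H.card (by omega) H.cl H.sat H.ess ?_
  rintro (⟨h2, -⟩ | ⟨-, hex, -⟩)
  · have hEZ : E.subgroupOf S = gam S (n - 2) :=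
      (eq_of_le_of_card_ge hle (by rw [hZ2, H.card_E, h2])).symm
    have hCle : twoStepAt S (n - 2) ≤ E.subgroupOf S := fun g hg => H.mem_of_commute fun e he =>
      last_two_commute hx (hEZ.le he) hg
    have h3 := card_le_of_le hCle
    have e := (twoStepAt S (n - 2)).card_mul_index
    rw [index_twoStepAt hx (by omega) (by omega), H.card] at e
    rw [H.card_E, h2] at h3
    have h4 : p ^ n ≤ p ^ 2 * p := e ▸ Nat.mul_le_mul_right p h3
    rw [← pow_succ, Nat.pow_le_pow_iff_right hp.one_lt] at h4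
    omega
  · haveI := finite_of_le H.le
    let f : gam S (n - 2) →* center E :=
      MonoidHom.mk' (fun r => ⟨⟨((r : S) : Ω), mem_subgroupOf.1 (hle r.2)⟩, mem_center_iff.2 fun e =>
        Subtype.ext (congrArg (Subtype.val : S → Ω) (hc r r.2 ⟨e, H.le e.2⟩ (mem_subgroupOf.2 e.2)).eq.symm)⟩)
        fun a b => rfl
    have h3 := Nat.card_le_card_of_injective f fun a b hab =>
      Subtype.ext (Subtype.ext (congrArg (fun z : center E => ((z : E) : Ω)) hab))
    rw [hZ2, hex.2] at h3
    exact absurd h3 (not_le.2 (lt_self_pow₀ hp.one_lt one_lt_two))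

end CfsgLib.MCFusion
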