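import Cfsg.Agent.Lib.MaxClassFusion.Core

/-!
# Normalising automorphisms extend
-/

set_option autoImplicit false
set_option linter.style.haveILetI false
set_option linter.unusedSectionVars false

open Subgroup
open scoped commutatorElement Classical

namespace CfsgLib.MCFusion

open Cfsg (FusionSystem autInducedBy)
open Cfsg.FusionSystem (normalizerIn centralizerIn)
open CfsgLib.Fusion
open CfsgLib.MaxClassEss
open CfsgLib.RegUnip (M2 GLw)

universe u

/-- A normal subgroup and the index of a subgroup in their join. -/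
theorem relIndex_join_normal {G : Type*} [Group G] [Finite G] (Q K : Subgroup G) [K.Normal] :
    Q.relIndex (Q ⊔ K) = Q.relIndex K := by
  refine Nat.eq_of_mul_eq_mul_left (Nat.card_pos (α := Q)) ?_
  have h1 := relIndex_mul_relIndex ⊥ Q (Q ⊔ K) bot_le le_sup_left
  have h2 := relIndex_mul_relIndex ⊥ K (Q ⊔ K) bot_le le_sup_right
  have h3 := relIndex_mul_relIndex ⊥ (Q ⊓ K) Q bot_le inf_le_left
  have h4 := relIndex_mul_relIndex ⊥ (Q ⊓ K) K bot_le inf_le_right
  rw [inf_relIndex_left] at h3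
  rw [inf_relIndex_right] at h4
  simp only [relIndex_bot_left] at h1 h2 h3 h4
  rw [relIndex_sup_right] at h2
  rw [h1, ← h2, ← h4, ← h3]
  ring

/-- An element normalising the image of a subgroup can be chosen normalising the subgroup. -/
theorem exists_lift_normalizing {G H : Type*} [Group G] [Group H] [Finite G] {p : ℕ} [Fact p.Prime]
    (Ψ : G →* H) {Q P : Subgroup G} (hQP : Q ≤ P) (hP : IsPGroup p P) (hPi : ¬ p ∣ P.index)
    (hker : P ⊓ Ψ.ker ≤ Q) {y : G} (hy : ∀ q ∈ Q, Ψ (y * q * y⁻¹) ∈ Q.map Ψ) :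
    ∃ α, Ψ α = Ψ y ∧ ∀ q ∈ Q, α * q * α⁻¹ ∈ Q := by
  set L := Q ⊔ Ψ.ker with hL
  have hmem : ∀ {g}, Ψ g ∈ Q.map Ψ → g ∈ L := by
    rintro g ⟨q, hq, hqg⟩
    rw [show g = q * (q⁻¹ * g) by group]
    exact mul_mem (mem_sup_left hq) (mem_sup_right (by
      rw [MonoidHom.mem_ker, map_mul, map_inv, hqg, inv_mul_cancel]))
  have hQL : ¬ p ∣ Q.relIndex L := by
    have e : Q.relIndex Ψ.ker = P.relIndex Ψ.ker := by
      rw [← inf_relIndex_right Q, ← inf_relIndex_right P,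
        le_antisymm (inf_le_inf_right _ hQP) (le_inf hker inf_le_right)]
    rw [hL, relIndex_join_normal, e, ← relIndex_join_normal]
    exact fun hd => hPi (hd.trans (relIndex_dvd_index_of_le le_sup_left))
  obtain ⟨k, hk, hle⟩ := exists_conj_le_of_not_dvd_relIndex (hP.to_le hQP) (le_sup_left : Q ≤ L) hQL
    (R := Q.map (MulAut.conj y).toMonoidHom) ((hP.to_le hQP).map _) (by
      rintro _ ⟨q, hq, rfl⟩
      exact hmem (hy q hq))
  have hk' : Ψ k ∈ Q.map Ψ := by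
    refine (sup_le ?_ ?_ : L ≤ (Q.map Ψ).comap Ψ) hk
    · exact fun q hq => mem_map_of_mem Ψ hq
    · intro g hg
      show Ψ g ∈ Q.map Ψ
      rw [MonoidHom.mem_ker.1 hg]; exact one_mem _
  obtain ⟨q₀, hq₀, he⟩ := hk'
  refine ⟨q₀⁻¹ * k * y, by rw [map_mul, map_mul, map_inv, he, inv_mul_cancel, one_mul], fun q hq => ?_⟩
  have h1 := conjBy_le_iff.1 hle (y * q * y⁻¹) (mem_map_of_mem (MulAut.conj y).toMonoidHom hq)
  rw [show q₀⁻¹ * k * y * q * (q₀⁻¹ * k * y)⁻¹ = q₀⁻¹ * (k * (y * q * y⁻¹) * k⁻¹) * q₀ by group]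
  exact mul_mem (mul_mem (inv_mem hq₀) h1) hq₀

variable {Ω : Type u} [Group Ω] {S : Subgroup Ω} [Finite S] {p n : ℕ} [hpf : Fact p.Prime]
  {F : FusionSystem S} {E : Subgroup Ω}

/-- The conjugation of `E` by an element of its normalizer, in the automizer. -/
noncomputable def Hyp.conjX (H : Hyp p n F E) : normalizerIn S E →* F.autGroup E :=
  MonoidHom.mk' (fun g => ⟨conjAut (g : Ω) g.2.2, autInducedBy_le_autGroup H.le (conjAut_mem g.2.1 g.2.2)⟩)
    fun a b => Subtype.ext (autFun_ext (P := E) fun x hx => by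
      have hb := autFun_mem (conjAut (b : Ω) b.2.2) hx
      show autFun (conjAut ((a * b : normalizerIn S E) : Ω) (a * b).2.2) x
        = autFun (conjAut (a : Ω) a.2.2 * conjAut (b : Ω) b.2.2) x
      rw [autFun_mul _ _ hx, autFun_conjAut _ hx, autFun_conjAut _ hb, autFun_conjAut _ hx]
      simp only [Subgroup.coe_mul]
      group)

theorem Hyp.autFun_conjX (H : Hyp p n F E) (g : normalizerIn S E) {x : Ω} (hx : x ∈ E) :
    autFun ((H.conjX g : F.autGroup E) : MulAut E) x = (g : Ω) * x * (g : Ω)⁻¹ :=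
  autFun_conjAut _ hx

variable (H : Hyp p n F E) (IH : Conc.{u} p (n - 1)) {d : ℕ} {e : vec p S E → Fin d → ZMod p}
  {Ψ : F.autGroup E →* GLw p d} (he : Function.Bijective e)
  (happ : ∀ (α : F.autGroup E) (v w : vec p S E), ((w : S) : Ω) = autFun (α : MulAut E) ((v : S) : Ω) →
    (Ψ α : M2 p d).mulVec (e v) = e w)
include H IH he happ

/-- Automorphisms with trivial matrix fix the elements. -/
theorem Hyp.fix_of_ker {α : F.autGroup E} (hα : Ψ α = 1) {v : S} (hv : v ∈ vec p S E) :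
    autFun (α : MulAut E) (v : Ω) = v := by
  have h1 := happ α ⟨v, hv⟩ ⟨_, H.autFun_mem_vec α.2 hv⟩ rfl
  rw [hα, Units.val_one, Matrix.one_mulVec] at h1
  exact (congrArg (fun w : vec p S E => ((w : S) : Ω)) (he.1 h1)).symm

/-- Conjugations with trivial matrix come from `E`. -/
theorem Hyp.mem_of_conjX (g : normalizerIn S E) (hg : Ψ (H.conjX g) = 1) : (g : Ω) ∈ E :=
  mem_subgroupOf.1 (H.cent_vec IH (g := ⟨(g : Ω), g.2.1⟩) fun v hv => Subtype.ext (by
    have h1 := H.fix_of_ker IH he happ hg hv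
    rw [H.autFun_conjX g (mem_subgroupOf.1 hv.1)] at h1
    exact mul_inv_eq_iff_eq_mul.1 h1))

/-- An automorphism normalising the image of a conjugation extends, after a correction. -/
theorem Hyp.exists_extension {u : normalizerIn S E} {y : F.autGroup E} {k : ℕ}
    (hy : Ψ y * Ψ (H.conjX u) * (Ψ y)⁻¹ = Ψ (H.conjX u) ^ k) :
    ∃ α : F.autGroup E, Ψ α = Ψ y ∧ ∃ f, IsMap F (E ⊔ zpowers (u : Ω)) f ∧
      img (E ⊔ zpowers (u : Ω)) f = E ⊔ zpowers (u : Ω) ∧ ∀ x ∈ E, f x = autFun (α : MulAut E) x := by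
  haveI := finite_of_le H.le
  haveI := finite_mulAut (P := E)
  have hEN : E ≤ normalizerIn S E := le_inf H.le le_normalizer
  set P := E ⊔ zpowers (u : Ω) with hP
  have hPN : P ≤ normalizerIn S E := sup_le hEN (zpowers_le.2 u.2)
  set Q := (P.subgroupOf (normalizerIn S E)).map H.conjX with hQ
  have hPsyl : ¬ p ∣ ((autInducedBy S E).subgroupOf (F.autGroup E)).index := ((isFullyAutomized_iff H.isP).1
    (IsSaturated.automized_receptive H.isP H.sat H.ess.2.1).1).2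
  have hQP : Q ≤ (autInducedBy S E).subgroupOf (F.autGroup E) := by
    rintro _ ⟨g, -, rfl⟩
    exact mem_subgroupOf.2 (conjAut_mem g.2.1 g.2.2)
  have hconj : ∀ q : F.autGroup E, q ∈ (autInducedBy S E).subgroupOf (F.autGroup E) →
      ∃ g : normalizerIn S E, H.conjX g = q := by
    intro q hq
    obtain ⟨g, hg, hgq⟩ := mem_autInducedBy_iff.1 (mem_subgroupOf.1 hq)
    refine ⟨⟨g, hg, mem_normalizer_of_autFun hgq⟩, Subtype.ext (autFun_ext (P := E) fun x hx => ?_)⟩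
    rw [H.autFun_conjX _ hx, hgq x hx]
  have hker : (autInducedBy S E).subgroupOf (F.autGroup E) ⊓ Ψ.ker ≤ Q := by
    rintro q ⟨hq, hq'⟩
    obtain ⟨g, rfl⟩ := hconj q hq
    exact mem_map_of_mem _ (mem_subgroupOf.2 (mem_sup_left (H.mem_of_conjX IH he happ g hq')))
  have hzp : ∀ g : normalizerIn S E, (g : Ω) ∈ P → Ψ (H.conjX g) ∈ zpowers (Ψ (H.conjX u)) := by
    intro g hg
    have hle : P ≤ ((zpowers (Ψ (H.conjX u))).comap (Ψ.comp H.conjX)).map (normalizerIn S E).subtype := by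
      refine sup_le (fun c hc => ⟨⟨c, hEN hc⟩, ?_, rfl⟩) (zpowers_le.2 ⟨u, mem_zpowers _, rfl⟩)
      show Ψ (H.conjX ⟨c, hEN hc⟩) ∈ zpowers (Ψ (H.conjX u))
      rw [show Ψ (H.conjX ⟨c, hEN hc⟩) = 1 from ?_]
      · exact one_mem _
      refine Units.ext (Matrix.ext_of_mulVec_single fun i => ?_)
      obtain ⟨v, hv⟩ := he.2 (Pi.single i 1)
      rw [Units.val_one, Matrix.one_mulVec, ← hv]
      refine happ _ v v ?_
      rw [H.autFun_conjX _ (mem_subgroupOf.1 v.2.1)]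
      have h1 := congrArg Subtype.val (v.2.2.2 ⟨c, H.le hc⟩ (mem_subgroupOf.2 hc)).eq
      simp only [Subgroup.coe_mul] at h1
      show ((v : S) : Ω) = c * ((v : S) : Ω) * c⁻¹
      rw [← h1, mul_inv_cancel_right]
    obtain ⟨g', hg', hgg⟩ := hle hg
    rwa [← Subtype.ext hgg]
  have huQ : H.conjX u ∈ Q := mem_map_of_mem _ (mem_subgroupOf.2 (mem_sup_right (mem_zpowers _)))
  obtain ⟨α, hα, hαQ⟩ := exists_lift_normalizing Ψ hQP
    ((isPGroup_autInducedBy H.isP).of_equiv (subgroupOfEquivOfLe (autInducedBy_le_autGroup H.le)).symm)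
    hPsyl hker (y := y) (by
      rintro _ ⟨g, hg, rfl⟩
      obtain ⟨i, hi⟩ := mem_zpowers_iff.1 (hzp g (mem_subgroupOf.1 hg))
      rw [map_mul, map_mul, map_inv, ← hi, ← conj_zpow, hy]
      exact zpow_mem (pow_mem (mem_map_of_mem Ψ huQ) k) i)
  refine ⟨α, hα, ?_⟩
  have hwit : ∀ g : normalizerIn S E, (g : Ω) ∈ P → ∃ h : normalizerIn S E, (h : Ω) ∈ P ∧
      ∀ x ∈ E, autFun (α : MulAut E) ((g : Ω) * x * (g : Ω)⁻¹) = (h : Ω) * autFun (α : MulAut E) x * (h : Ω)⁻¹ := by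
    intro g hg
    obtain ⟨h, hh, hhe⟩ := hαQ _ (mem_map_of_mem H.conjX (mem_subgroupOf.2 hg : g ∈ P.subgroupOf _))
    refine ⟨h, mem_subgroupOf.1 hh, fun x hx => ?_⟩
    have hα' := autFun_mem (α : MulAut E) hx
    have h1 : autFun ((H.conjX h * α : F.autGroup E) : MulAut E) x
        = autFun ((α * H.conjX g : F.autGroup E) : MulAut E) x := by
      rw [hhe, inv_mul_cancel_right]
    rw [Subgroup.coe_mul, Subgroup.coe_mul, autFun_mul _ _ hx, autFun_mul _ _ hx, H.autFun_conjX _ hα',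
      H.autFun_conjX _ hx] at h1
    exact h1.symm
  have hPext : P ≤ extSub S E (autFun (α : MulAut E)) := by
    intro g hg
    obtain ⟨h, -, hh⟩ := hwit ⟨g, hPN hg⟩ hg
    exact mem_extSub.2 ⟨hPN hg, h, h.2.1, hh⟩
  obtain ⟨f, hf, hfa⟩ := (isReceptive_iff.1 (IsSaturated.automized_receptive H.isP H.sat H.ess.2.1).2).2 E _
    ((mem_autGroup_iff H.le).1 α.2) (img_autFun _)
  have hfP := hf.mono hPext
  refine ⟨f, hfP, img_eq_of_map_le (hPN.trans inf_le_left) hfP le_rfl fun g hg => ?_, hfa⟩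
  obtain ⟨h, hhP, hh⟩ := hwit ⟨g, hPN hg⟩ hg
  -- `f g` and `h` agree on `E`
  have hgS : f g ∈ S := hfP.mem_S hg
  have hcE : (h : Ω)⁻¹ * f g ∈ E := by
    refine mem_subgroupOf.1 (H.mem_of_commute (g := ⟨(h : Ω)⁻¹ * f g, mul_mem (inv_mem h.2.1) hgS⟩)
      fun c hc => Subtype.ext ?_)
    obtain ⟨c', hc'⟩ := (α : MulAut E).surjective ⟨(c : Ω), mem_subgroupOf.1 hc⟩
    have hcx : autFun (α : MulAut E) (c' : Ω) = c := by rw [autFun_coe, hc']
    have h1 := hfP.map_conj hg ((le_sup_left : E ≤ P) c'.2)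
    have hgc : g * (c' : Ω) * g⁻¹ ∈ E := (mem_normalizer_iff.1 (hPN hg).2 _).1 c'.2
    rw [hfa _ hgc, hfa _ c'.2, hh _ c'.2, hcx] at h1
    show (h : Ω)⁻¹ * f g * (c : Ω) = (c : Ω) * ((h : Ω)⁻¹ * f g)
    calc (h : Ω)⁻¹ * f g * (c : Ω) = (h : Ω)⁻¹ * (f g * (c : Ω) * (f g)⁻¹) * f g := by group
      _ = (h : Ω)⁻¹ * ((h : Ω) * (c : Ω) * (h : Ω)⁻¹) * f g := by rw [h1]
      _ = _ := by group
  have := mul_mem hhP ((le_sup_left : E ≤ P) hcE)
  rwa [mul_inv_cancel_left] at this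

end CfsgLib.MCFusion
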