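import Cfsg.Agent.Lib.MaxClassFusion.ZStep

/-!
# Automorphisms fixing the centre extend: the exceptional shape is impossible
-/

set_option autoImplicit false
set_option linter.style.haveILetI false
set_option linter.unusedSectionVars false
attribute [-simp] ZMod.inv_coe_unit

open Subgroup
open scoped commutatorElement Classical

namespace CfsgLib.MCFusion

open Cfsg (FusionSystem autInducedBy)
open Cfsg.FusionSystem (normalizerIn centralizerIn preimageAlong)
open CfsgLib.Fusion
open CfsgLib.Fusion.MaxClassCubeSystem (sub mem_sub sub_le sub_centralizer sub_normalizer card_sub sub_subgroupOf)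
open CfsgLib.MaxClassShift (gam gam_normal gam_anti gam_one gam_comm)
open CfsgLib.MaxClassUniform (Uniform gam_le_twoStepAt)
open CfsgLib.PGroup.MaxClassRank (twoStepAt layer_gen pow_mem_two)
open CfsgLib.MaxClassEss

universe u

theorem last_of_central {G : Type u} [Group G] [Finite G] {p n : ℕ} [Fact p.Prime] {x : G} (h : Uniform x p n)
    (h4 : 4 ≤ n) {c : G} (hc : ∀ g, Commute c g) : c ∈ gam G (n - 1) := by
  have key : ∀ L, 1 ≤ L → L + 2 ≤ n → c ∈ lev G L → c ∈ gam G (L + 1) := by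
    intro L hL hLn hcL
    by_contra hne
    refine (step_level h h4 (uniform_notMem h le_rfl (by omega)) hL hLn
      (Or.inr (uniform_notMem h (by omega) (by omega))) hcL hne).2 ?_
    rw [commutatorElement_eq_one_iff_commute.2 (hc x).symm]; exact one_mem _
  have hA : c ∈ lev G 1 := by
    rw [lev_one]
    intro v _
    rw [commutatorElement_eq_one_iff_commute.2 (hc v)]; exact one_mem _
  have h2 : c ∈ gam G 2 := key 1 le_rfl (by omega) hA
  by_contra hne
  obtain ⟨L, hL, hLn, hcL, hcL'⟩ := exists_level (show 2 ≤ n - 1 by omega) h2 hne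
  exact hcL' (key L (by omega) (by omega) (by rw [lev_eq hL]; exact hcL))

theorem centralizer_gam_last_two {G : Type u} [Group G] [Finite G] {p n : ℕ} [Fact p.Prime] {x : G}
    (h : Uniform x p n) : centralizer ((gam G (n - 2) : Subgroup G) : Set G) = twoStepAt G (n - 2) := by
  refine le_antisymm (fun g hg v hv => ?_) fun g hg => mem_centralizer_iff.2 fun v hv =>
    (last_two_commute h hv hg).eq.symm
  rw [commutatorElement_eq_one_iff_mul_comm.2 (mem_centralizer_iff.1 hg v hv).symm]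
  exact one_mem _

variable {Ω : Type u} [Group Ω] {S : Subgroup Ω} [Finite S] {p n : ℕ} [hpf : Fact p.Prime]
  {F : FusionSystem S} {E : Subgroup Ω}

/-- The second centre is fully centralized. -/
theorem Hyp.fullyCentralized_Z2 (H : Hyp p n F E) :
    F.IsFullyCentralized (sub (gam S (n - 2))) := by
  obtain ⟨x, hx⟩ := H.exists_x
  have h5 := H.five
  have hp := hpf.out
  refine ⟨sub_le _, fun Q hQ => ?_⟩
  have hQS := (isConj_le hQ).2
  rw [← sub_subgroupOf hQS, ← sub_centralizer, ← sub_centralizer, card_sub, card_sub,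
    centralizer_gam_last_two hx]
  have hc := isConj_card hQ
  have hne : centralizer ((Q.subgroupOf S : Subgroup S) : Set S) ≠ ⊤ := by
    intro he
    have hle : Q.subgroupOf S ≤ gam S (n - 1) := fun q hq => last_of_central hx (by omega) fun s =>
      mem_centralizer_iff.1 (he.ge (mem_top s)) q hq
    have h1 := card_le_of_le hle
    rw [Nat.card_congr (subgroupOfEquivOfLe hQS).toEquiv, hc, card_sub, hx.card_gam (by omega) (by omega),
      hx.card_gam (by omega) (by omega), Nat.pow_le_pow_iff_right hp.one_lt] at h1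
    omega
  have h1 := CfsgLib.MaxClassCube.mul_card_le H.isP (lt_top_iff_ne_top.2 hne)
  rw [card_top, H.card] at h1
  have e := (twoStepAt S (n - 2)).card_mul_index
  rw [index_twoStepAt hx (by omega) (by omega), H.card] at e
  rw [← e, mul_comm] at h1
  exact Nat.le_of_mul_le_mul_right h1 hp.pos

/-- Automorphisms fixing the centre extend. -/
theorem Hyp.ext_of_fix (H : Hyp p n F E) (IH : Conc.{u} p (n - 1)) {g : MulAut E}
    (hg : g ∈ F.autGroup E) (hfix : ∀ z : S, z ∈ gam S (n - 1) → autFun g (z : Ω) = z) :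
    g ∈ extGroup F E := by
  by_contra hgM
  have hp := hpf.out
  obtain ⟨hex, hp5, hcard, y, hyC, hyA, hEeq, hN⟩ := H.shape_of_fix IH hg hgM hfix
  obtain ⟨x, hx⟩ := H.exists_x
  have h5 := H.five
  obtain ⟨-, h6⟩ := five_le_of_exc hx (show 4 ≤ n by omega) hex
  haveI := finite_of_le H.le
  haveI := finite_mulAut (P := E)
  obtain ⟨v, hv, hv'⟩ := exists_layer hx (k := n - 3) (by omega) (by omega)
  rw [show n - 3 + 1 = n - 2 by omega] at hv'
  have hg2C : gam S 2 ≤ twoStepAt S (n - 2) := gam_le_twoStepAt H.isP (by omega)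
  have hEC : E.subgroupOf S ≤ twoStepAt S (n - 2) := by
    rw [hEeq]; exact sup_le (zpowers_le.2 hyC) ((gam_anti (by omega)).trans hg2C)
  have hyE : y ∈ E.subgroupOf S := hEeq.ge (mem_sup_left (mem_zpowers y))
  have h3E : gam S (n - 3) ≤ E.subgroupOf S := le_sup_right.trans hEeq.ge
  have hvE := h3E hv
  have hZ2E : gam S (n - 2) ≤ E.subgroupOf S := (gam_anti (by omega)).trans h3E
  set r0 := ⁅y, v⁆ with hr0
  obtain ⟨hr02, hr01⟩ : r0 ∈ gam S (n - 2) ∧ r0 ∉ gam S (n - 1) := by
    have h1 := step_level hx (by omega) hyA (L := n - 3) (by omega) (by omega) (Or.inl (by omega))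
      (by rw [lev_eq (by omega)]; exact hv) (by rwa [show n - 3 + 1 = n - 2 by omega])
    rwa [show n - 3 + 1 = n - 2 by omega, show n - 3 + 2 = n - 1 by omega] at h1
  have hr0p : r0 ^ p = 1 := pow_eq_one_of_deep hx (show 2 ≤ n - 2 by omega) (by omega) hr02
  have hr0o : orderOf r0 = p := orderOf_eq_prime hr0p fun e => hr01 (e ▸ one_mem _)
  set R := zpowers r0 with hRdef
  have hRc : Nat.card R = p := by rw [hRdef, Nat.card_zpowers, hr0o]
  have hR2 : R ≤ gam S (n - 2) := zpowers_le.2 hr02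
  have hRZ : R ⊓ gam S (n - 1) = ⊥ := by
    rw [eq_bot_iff]
    rintro q ⟨hq, hq'⟩
    by_contra hq1
    refine hr01 ?_
    obtain ⟨i, hi⟩ := mem_zpowers_iff.1 (mem_zpowers_of_prime_card hRc (g := (⟨q, hq⟩ : R))
      (fun e => hq1 (mem_bot.2 (congrArg Subtype.val e))) (g' := ⟨r0, mem_zpowers r0⟩))
    rw [← show q ^ i = r0 from congrArg Subtype.val hi]
    exact (gam S (n - 1)).zpow_mem hq' i
  have hRcent : ∀ r ∈ R, ∀ d ∈ twoStepAt S (n - 2), Commute d r := fun r hr d hd =>
    last_two_commute hx (hR2 hr) hd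
  -- commutators
  have hgen : ∀ e ∈ E.subgroupOf S, ⁅e, y⁆ ∈ R → ⁅e, v⁆ ∈ R → ∀ c ∈ E.subgroupOf S, ⁅e, c⁆ ∈ R := by
    intro e he hey hev c hc
    let K : Subgroup S := CfsgLib.RegUnip.subgroupOfFinite {c | c ∈ E.subgroupOf S ∧ ⁅e, c⁆ ∈ R}
      ⟨one_mem _, by rw [commutatorElement_one_right]; exact one_mem _⟩ fun {a b} ha hb =>
        ⟨(E.subgroupOf S).mul_mem ha.1 hb.1, by
          rw [commutatorElement_mul_right_eq_mul_conj, mul_assoc _ a, (hRcent _ hb.2 a (hEC ha.1)).eq,
            mul_assoc, mul_inv_cancel_right]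
          exact mul_mem ha.2 hb.2⟩
    have hZK : gam S (n - 2) ≤ K := fun w hw => ⟨hZ2E hw, by
      rw [commutatorElement_eq_one_iff_commute.2 (last_two_commute hx hw (hEC he))]; exact one_mem _⟩
    have hK : E.subgroupOf S ≤ K := by
      rw [hEeq]
      refine sup_le (zpowers_le.2 (⟨hyE, hey⟩ : y ∈ K)) ?_
      exact gam_le_of_mem hx (by omega) (by omega) hv (by rwa [show n - 3 + 1 = n - 2 by omega])
        (⟨hvE, hev⟩ : v ∈ K) (by rwa [show n - 3 + 1 = n - 2 by omega])
    exact (hK hc).2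
  have hyc := hgen y hyE (by rw [commutatorElement_self]; exact one_mem _) (mem_zpowers r0)
  have hvc := hgen v hvE (by rw [← commutatorElement_inv]; exact inv_mem (mem_zpowers r0))
    (by rw [commutatorElement_self]; exact one_mem _)
  have hcom : ∀ e ∈ E.subgroupOf S, ∀ c ∈ E.subgroupOf S, ⁅e, c⁆ ∈ R := fun e he => hgen e he
    (by rw [← commutatorElement_inv]; exact inv_mem (hyc e he))
    (by rw [← commutatorElement_inv]; exact inv_mem (hvc e he))
  -- an automorphism fixing the second centre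
  obtain ⟨g2, hg2, hg2M, hg2fix⟩ : ∃ g2 ∈ F.autGroup E, g2 ∉ extGroup F E ∧
      ∀ r : S, r ∈ gam S (n - 2) → autFun g2 (r : Ω) = r := by
    obtain ⟨t, ht, ht1⟩ := H.exists_outer
    have htX := autInducedBy_le_autGroup (F := F) H.le ht
    refine ⟨g * t * g⁻¹, mul_mem (mul_mem hg htX) (inv_mem hg), fun hm => hgM (H.ext_embedded ht ht1 hg hm), ?_⟩
    set g2 := g * t * g⁻¹ with hg2
    have hz : ∀ z : S, z ∈ gam S (n - 1) → autFun g2 (z : Ω) = z := by
      intro z hz
      have hzE : (z : Ω) ∈ E := mem_subgroupOf.1 (H.gam_last_le hz)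
      obtain ⟨s, hs, hst⟩ := mem_autInducedBy_iff.1 ht
      have h1 : autFun g⁻¹ (z : Ω) = z := by
        have := congrArg (autFun g⁻¹) (hfix z hz)
        rw [← autFun_mul _ _ hzE, inv_mul_cancel, autFun_one hzE] at this
        exact this.symm
      rw [hg2, autFun_mul _ _ hzE, h1, autFun_mul _ _ hzE, hst _ hzE,
        show s * (z : Ω) * s⁻¹ = z from by
          have := congrArg Subtype.val (comm_gam_central hx hz ⟨s, hs⟩)
          simp only [Subgroup.coe_mul] at this
          rw [this, mul_inv_cancel_right], hfix z hz]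
    obtain ⟨j, hj⟩ : ∃ j : ℕ, g2 ^ p ^ j = 1 := by
      obtain ⟨j, hj⟩ := isPGroup_autInducedBy H.isP (⟨t, ht⟩ : autInducedBy S E)
      exact ⟨j, by rw [hg2, conj_pow, show t ^ p ^ j = 1 from congrArg Subtype.val hj, mul_one, mul_inv_cancel]⟩
    set r : E := ⁅(⟨y, mem_subgroupOf.1 hyE⟩ : E), ⟨v, mem_subgroupOf.1 hvE⟩⁆ with hrdef
    have hrv : (r : Ω) = (r0 : Ω) := rfl
    obtain ⟨k, hk⟩ : ∃ k : ℤ, g2 r = r ^ k := by
      have h1 : g2 r = ⁅g2 ⟨y, mem_subgroupOf.1 hyE⟩, g2 ⟨v, mem_subgroupOf.1 hvE⟩⁆ := map_commutatorElement _ _ _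
      obtain ⟨k, hk⟩ := mem_zpowers_iff.1 (hcom ⟨_, H.le (g2 ⟨y, mem_subgroupOf.1 hyE⟩).2⟩
        (mem_subgroupOf.2 (g2 ⟨y, mem_subgroupOf.1 hyE⟩).2) ⟨_, H.le (g2 ⟨v, mem_subgroupOf.1 hvE⟩).2⟩
        (mem_subgroupOf.2 (g2 ⟨v, mem_subgroupOf.1 hvE⟩).2))
      refine ⟨k, Subtype.ext ?_⟩
      rw [SubgroupClass.coe_zpow, hrv, h1]
      have := congrArg Subtype.val hk
      rw [SubgroupClass.coe_zpow] at this
      exact this.symm
    have hit : ∀ m : ℕ, (g2 ^ m) r = r ^ (k ^ m) := by
      intro m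
      induction m with
      | zero => simp
      | succ m ih => rw [pow_succ', MulAut.mul_apply, ih, map_zpow, hk, ← zpow_mul, pow_succ', mul_comm]
    have hro : orderOf r = p := by
      rw [← orderOf_coe, hrv, orderOf_coe, hr0o]
    have hk1 : (k : ZMod p) = 1 := by
      have h1 := hit (p ^ j)
      rw [hj, MulAut.one_apply] at h1
      have h2 : ((k ^ p ^ j : ℤ) : ZMod p) = ((1 : ℤ) : ZMod p) := by
        have h3 := zpow_eq_zpow_iff_modEq.1 (h1.symm.trans (zpow_one r).symm)
        rw [hro] at h3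
        exact (ZMod.intCast_eq_intCast_iff _ _ p).2 h3
      rwa [Int.cast_pow, ZMod.pow_card_pow, Int.cast_one] at h2
    have hfixr : g2 r = r := by
      rw [hk]
      refine (zpow_eq_zpow_iff_modEq.2 ?_).trans (zpow_one r)
      rw [hro, ← ZMod.intCast_eq_intCast_iff, hk1, Int.cast_one]
    intro w hw
    let Fx : Subgroup S := CfsgLib.RegUnip.subgroupOfFinite {w | (w : Ω) ∈ E ∧ autFun g2 (w : Ω) = w}
      ⟨one_mem E, ((mem_autGroup_iff H.le).1 (mul_mem (mul_mem hg htX) (inv_mem hg))).map_one⟩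
      fun {a b} ha hb => ⟨mul_mem ha.1 hb.1, by
        rw [Subgroup.coe_mul, ((mem_autGroup_iff H.le).1 (mul_mem (mul_mem hg htX) (inv_mem hg))).map_mul ha.1 hb.1,
          ha.2, hb.2]⟩
    have hle : gam S (n - 2) ≤ Fx := by
      refine gam_le_of_mem hx (by omega) (by omega) hr02 (by rwa [show n - 2 + 1 = n - 1 by omega]) ⟨r.2, ?_⟩
        fun z hz' => ?_
      · show autFun g2 (r : Ω) = r
        rw [autFun_coe, hfixr]
      · rw [show n - 2 + 1 = n - 1 by omega] at hz'
        exact ⟨mem_subgroupOf.1 (H.gam_last_le hz'), hz z hz'⟩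
    exact (hle hw).2
  -- the centralizer system
  set Q := sub (gam S (n - 2)) with hQdef
  have hQ := H.fullyCentralized_Z2
  have hQE : Q ≤ E := by
    rintro _ ⟨w, hw, rfl⟩
    exact mem_subgroupOf.1 (hZ2E hw)
  have hT : centralizerIn S Q = sub (twoStepAt S (n - 2)) := by
    rw [hQdef, ← sub_centralizer, centralizer_gam_last_two hx]
  obtain ⟨hsat, hess⟩ := cent_essential H.isP H.sat H.ess H.lt hQE hQ (hN.trans hT.ge) hg2 hg2M (by
    rintro _ ⟨w, hw, rfl⟩
    exact hg2fix w hw)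
  haveI : Finite (centralizerIn S Q) := finite_of_le inf_le_left
  have hTp : IsPGroup p (centralizerIn S Q) := H.isP.to_le inf_le_left
  have hEN : E < normalizerIn S E := lt_normalizerIn H.isP H.le H.lt.ne
  have hET : E < centralizerIn S Q := lt_of_lt_of_le hEN (hN.trans hT.ge)
  rcases (show n = 6 ∨ 8 ≤ n by
    obtain ⟨m, rfl⟩ := even_of_exc hx (by omega) hex; omega) with rfl | h8
  · -- order `p⁶`
    simp only [show (6 : ℕ) - 2 = 4 from rfl, show (6 : ℕ) - 3 = 3 from rfl, show (6 : ℕ) - 1 = 5 from rfl] at *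
    obtain ⟨u, hu, hu'⟩ := exists_layer hx (k := 2) le_rfl (by omega)
    have huC : u ∈ twoStepAt S 4 := hg2C hu
    set z1 := ⁅u, v⁆ with hz1
    have hz1Z : z1 ∈ gam S 5 := gam_comm (a := 2) (b := 3) (by omega) (by omega) hu hv
    have hz1ne : z1 ≠ 1 := fun e => not_commute_pair hx (by omega) hex (L := 2) (by omega) (by omega)
      (by rw [lev_eq le_rfl]; exact hu) hu' (by rw [show 6 - 1 - 2 = 3 from rfl, lev_eq (by omega)]; exact hv)
      hv' (commutatorElement_eq_one_iff_commute.1 e)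
    have hconj : ∀ e ∈ E.subgroupOf S, u * e * u⁻¹ ∈ E.subgroupOf S := by
      intro e he
      rw [show u * e * u⁻¹ = ⁅u, e⁆ * e by rw [commutatorElement_def]; group]
      refine (E.subgroupOf S).mul_mem (h3E ?_) he
      exact gam_comm (a := 2) (b := 1) (by omega) le_rfl hu (mem_top e)
    have hun : (u : Ω) ∈ normalizer (E : Set Ω) := by
      have h1 : u ∈ normalizer ((E.subgroupOf S : Subgroup S) : Set S) := mem_normalizer_fintype hconj
      have h2 := mem_sub.2 h1
      rw [sub_normalizer, sub_subgroupOf H.le] at h2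
      exact h2.2
    set C := cSystem F (centralizerIn S Q) Q le_rfl hQ.1 with hCdef
    set X2 := C.autGroup E with hX2
    have hfixQ : ∀ a ∈ X2, ∀ w ∈ Q, autFun a w = w := by
      intro a ha w hw
      obtain ⟨-, -, k, -, hkf, hkQ⟩ := isMap_cSystem_iff.1 ((mem_autGroup_iff hET.le).1 ha)
      rw [← hkf w (hQE hw), hkQ w hw]
    -- the plane
    set N := Q.subgroupOf E with hNdef
    have hQcen : ∀ w ∈ Q, ∀ e ∈ E, e * w = w * e := fun w hw e he =>
      (mem_centralizer_iff.1 (hET.le he).2 w hw).symm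
    haveI : N.Normal := ⟨fun w hw e => by
      rw [show e * w * e⁻¹ = w from Subtype.ext (by
        simp only [Subgroup.coe_mul, Subgroup.coe_inv]
        rw [hQcen _ (mem_subgroupOf.1 hw) _ e.2, mul_inv_cancel_right])]
      exact hw⟩
    have hNmap : ∀ a ∈ X2, N.map (a : E →* E) = N := by
      intro a ha
      ext w
      have hfix' : ∀ w : E, w ∈ N → a w = w := fun w hw => Subtype.ext (by
        rw [← autFun_coe]; exact hfixQ a ha _ (mem_subgroupOf.1 hw))
      constructor
      · rintro ⟨w, hw, rfl⟩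
        show a w ∈ N
        rw [hfix' w hw]; exact hw
      · intro hw
        exact ⟨w, hw, hfix' w hw⟩
    let π : X2 →* MulAut (E ⧸ N) := MonoidHom.mk' (fun a => QuotientGroup.congr N N (a : MulAut E) (hNmap a a.2))
      fun a b => MulEquiv.ext fun q => Quotient.inductionOn' q fun w => rfl
    have hπ : ∀ (a : X2) (e : E), π a (e : E ⧸ N) = (((a : MulAut E) e : E) : E ⧸ N) := fun a e => rfl
    have hRQ : ∀ c : S, c ∈ R → (c : Ω) ∈ Q := fun c hc => mem_sub.2 (hR2 hc)
    have hab : ∀ a b : E ⧸ N, a * b = b * a := by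
      intro a b
      obtain ⟨a, rfl⟩ := QuotientGroup.mk_surjective a
      obtain ⟨b, rfl⟩ := QuotientGroup.mk_surjective b
      rw [← QuotientGroup.mk'_apply, ← QuotientGroup.mk'_apply, ← commutatorElement_eq_one_iff_mul_comm,
        ← map_commutatorElement]
      exact (QuotientGroup.eq_one_iff _).2 (mem_subgroupOf.2 (hRQ _ (hcom ⟨_, H.le a.2⟩ (mem_subgroupOf.2 a.2)
        ⟨_, H.le b.2⟩ (mem_subgroupOf.2 b.2))))
    have hy4 : y ^ p ∈ gam S 4 := by
      by_contra hne
      obtain ⟨L, hL, hL4, hwL, hwL'⟩ := exists_level (show 2 ≤ 4 by omega)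
        (pow_mem_two H.isP hx.card hx.three hx.class_eq y) hne
      refine (step_level hx (by omega) hyA (L := L) (by omega) (by omega) (Or.inl (by omega))
        (by rw [lev_eq hL]; exact hwL) hwL').2 ?_
      rw [commutatorElement_eq_one_iff_commute.2 ((Commute.refl y).pow_right p)]; exact one_mem _
    have hexp : ∀ a : E ⧸ N, a ^ p = 1 := by
      intro a
      obtain ⟨a, rfl⟩ := QuotientGroup.mk_surjective a
      let P : Subgroup S := CfsgLib.RegUnip.subgroupOfFinite
        {c | ∃ hc : (c : Ω) ∈ E, ((⟨c, hc⟩ : E) : E ⧸ N) ^ p = 1}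
        ⟨one_mem E, by rw [show (⟨(((1 : S)) : Ω), one_mem E⟩ : E) = 1 from rfl, QuotientGroup.mk_one, one_pow]⟩
        fun {c d} ⟨hc, hc'⟩ ⟨hd, hd'⟩ => ⟨mul_mem hc hd, by
          rw [show (⟨((c * d : S) : Ω), mul_mem hc hd⟩ : E) = ⟨c, hc⟩ * ⟨d, hd⟩ from rfl, QuotientGroup.mk_mul,
            Commute.mul_pow (hab _ _), hc', hd', one_mul]⟩
      have hle : E.subgroupOf S ≤ P := by
        rw [hEeq]
        refine sup_le (zpowers_le.2 ⟨mem_subgroupOf.1 hyE, ?_⟩) fun c hc => ⟨mem_subgroupOf.1 (h3E hc), ?_⟩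
        · rw [← QuotientGroup.mk_pow, QuotientGroup.eq_one_iff]
          exact mem_subgroupOf.2 (mem_sub.2 hy4 : ((y ^ p : S) : Ω) ∈ Q)
        · rw [← QuotientGroup.mk_pow, QuotientGroup.eq_one_iff]
          refine mem_subgroupOf.2 (mem_sub.2 ?_ : ((c ^ p : S) : Ω) ∈ Q)
          rw [pow_eq_one_of_deep hx (show 2 ≤ 3 by omega) (by omega) hc]
          exact one_mem _
      exact (hle (x := ⟨(a : Ω), H.le a.2⟩) (mem_subgroupOf.2 a.2)).2
    have hNc : Nat.card N = p ^ 2 := by
      rw [hNdef, Nat.card_congr (subgroupOfEquivOfLe hQE).toEquiv, hQdef, card_sub,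
        hx.card_gam (by omega) (by omega)]
    have hHc : Nat.card (E ⧸ N) = p ^ 2 := by
      have e := N.card_eq_card_quotient_mul_card_subgroup
      rw [hcard, hNc, show p ^ 4 = p ^ 2 * p ^ 2 by rw [← pow_add]] at e
      exact (Nat.eq_of_mul_eq_mul_right (pow_pos hp.pos 2) e).symm
    -- the kernel
    have hker : π.ker ≤ Cfsg.pCore p X2 := by
      refine CfsgLib.PGroup.le_pCore inferInstance fun a => ⟨1, Subtype.ext (Subtype.ext ?_)⟩
      refine autFun_ext (P := E) fun w hw => ?_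
      have hkQ : w⁻¹ * autFun ((a : X2) : MulAut E) w ∈ Q := by
        have h1 := DFunLike.congr_fun (MonoidHom.mem_ker.1 a.2) (((⟨w, hw⟩ : E) : E ⧸ N))
        rw [hπ, MulAut.one_apply] at h1
        have h2 := mem_subgroupOf.1 (QuotientGroup.eq.1 h1.symm)
        rw [Subgroup.coe_mul, Subgroup.coe_inv, ← autFun_coe] at h2
        exact h2
      have ham := ((mem_autGroup_iff hET.le).1 (a : X2).2)
      have hpow : ∀ m : ℕ, autFun (((a : X2) : MulAut E) ^ m) w
          = w * (w⁻¹ * autFun ((a : X2) : MulAut E) w) ^ m := by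
        intro m
        induction m with
        | zero => rw [pow_zero, pow_zero, mul_one, autFun_one hw]
        | succ m ih =>
          rw [pow_succ', autFun_mul _ _ hw, ih, ham.map_mul hw (pow_mem (hQE hkQ) m),
            hfixQ _ (a : X2).2 _ (pow_mem hkQ m), pow_succ', ← mul_assoc, mul_inv_cancel_left]
      rw [SubgroupClass.coe_pow, SubgroupClass.coe_pow, hpow, OneMemClass.coe_one, OneMemClass.coe_one,
        autFun_one hw, pow_one]
      obtain ⟨q, hq, hqe⟩ := hkQ
      rw [← hqe, ← map_pow, pow_eq_one_of_deep hx (show 2 ≤ 4 by omega) (by omega) hq, map_one, mul_one]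
    obtain ⟨hcoreC, -⟩ := CfsgLib.Fusion.EssentialCube.autGroup_data hTp hess
    have hInnπ : ∀ a : X2, (a : MulAut E) ∈ Cfsg.Inn E → π a = 1 := by
      rintro a ⟨e, he⟩
      refine MulEquiv.ext fun q => ?_
      obtain ⟨w, rfl⟩ := QuotientGroup.mk_surjective q
      rw [hπ, MulAut.one_apply, ← he, MulAut.conj_apply, QuotientGroup.mk_mul, QuotientGroup.mk_mul,
        QuotientGroup.mk_inv, hab (e : E ⧸ N), mul_inv_cancel_right]
    have hcore : Cfsg.pCore p π.range = ⊥ := by
      haveI := CfsgLib.Coprime.pCore_normal' (G := π.range) p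
      set K := (Cfsg.pCore p π.range).comap π.rangeRestrict with hK
      have hKp : IsPGroup p K := (CfsgLib.Coprime.pCore_isPGroup p).comap_of_ker_isPGroup π.rangeRestrict
        (by rw [π.ker_rangeRestrict]; exact (CfsgLib.Coprime.pCore_isPGroup p).to_le hker)
      refine (Subgroup.eq_bot_iff_forall _).2 fun q hq => ?_
      obtain ⟨a, rfl⟩ := π.rangeRestrict_surjective q
      have h1 : a ∈ Cfsg.pCore p X2 := CfsgLib.Coprime.le_pCore hKp (show a ∈ K from hq)
      rw [hcoreC] at h1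
      exact Subtype.ext (hInnπ a (mem_subgroupOf.1 h1))
    -- the transvection
    set t : X2 := ⟨conjAut (u : Ω) hun, autInducedBy_le_autGroup hET.le
      (conjAut_mem (hT.ge (mem_sub.2 huC)) hun)⟩ with htdef
    have ht : ∀ e : E, (((t : MulAut E) e : E) : Ω) = (u : Ω) * e * (u : Ω)⁻¹ := fun e => rfl
    have hto : orderOf (π t) = p := by
      refine orderOf_eq_prime ?_ fun h1 => ?_
      · rw [← map_pow]
        refine MulEquiv.ext fun q => ?_
        obtain ⟨w, rfl⟩ := QuotientGroup.mk_surjective q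
        rw [hπ, MulAut.one_apply, QuotientGroup.eq]
        refine mem_subgroupOf.2 ?_
        have hpw : ∀ m : ℕ, ((((t : X2) : MulAut E) ^ m) w : Ω) = (u : Ω) ^ m * w * ((u : Ω) ^ m)⁻¹ := by
          intro m
          induction m with
          | zero => simp
          | succ m ih => rw [pow_succ', MulAut.mul_apply, ht, ih, pow_succ']; group
        set wS : S := ⟨(w : Ω), H.le w.2⟩ with hwS
        have h3 : (u ^ p * wS * (u ^ p)⁻¹)⁻¹ * wS ∈ gam S 4 := by
          rw [show (u ^ p * wS * (u ^ p)⁻¹)⁻¹ * wS = ⁅u ^ p, wS⁻¹⁆ by rw [commutatorElement_def]; group]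
          refine gam_anti (show 4 ≤ 4 + 1 by omega) (gam_comm (a := 4) (b := 1) (by omega) le_rfl ?_ (mem_top _))
          exact gam_anti (show 4 ≤ 2 + p - 1 by omega) (hx.pow_shift 6 2 le_rfl (by omega) u hu).1
        rw [SubgroupClass.coe_pow, Subgroup.coe_mul, Subgroup.coe_inv, hpw]
        exact mem_sub.2 h3
      · have h2 := DFunLike.congr_fun h1 (((⟨y, mem_subgroupOf.1 hyE⟩ : E) : E ⧸ N))
        rw [hπ, MulAut.one_apply, QuotientGroup.eq] at h2
        have h3 := mem_subgroupOf.1 h2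
        rw [Subgroup.coe_mul, Subgroup.coe_inv, ht] at h3
        have h4 : (u * y * u⁻¹)⁻¹ * y ∈ gam S 4 := mem_sub.1 h3
        have h5 : ⁅y, u⁆ ∈ gam S 4 := by
          have e : ⁅y, u⁆ = y * ((u * y * u⁻¹)⁻¹ * y)⁻¹⁻¹ * y⁻¹ := by rw [commutatorElement_def]; group
          rw [e, inv_inv]
          exact (gam_normal 4).conj_mem _ h4 y
        exact (step_level hx (by omega) hyA (L := 2) (by omega) (by omega) (Or.inl (by omega))
          (by rw [lev_eq le_rfl]; exact hu) hu').2 h5
    obtain ⟨x1, y1, L, -, hLr, hx1, hy1, -, -, hL⟩ := CfsgLib.Fusion.EssentialPlane.exists_sl_two_hom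
      hab hexp hHc π.range hcore ⟨π t, ⟨t, rfl⟩⟩ (by rw [← orderOf_coe]; exact hto)
    haveI : Fact (Even (Fintype.card (Fin 2))) := ⟨by simp⟩
    haveI : Fact (1 < p) := ⟨hp.one_lt⟩
    have hinv : ∀ q : E ⧸ N, L (-1) q = q⁻¹ := by
      letI : CommGroup (E ⧸ N) := { (inferInstance : Group (E ⧸ N)) with mul_comm := hab }
      let P : Subgroup (E ⧸ N) := MonoidHom.eqLocus (L (-1)).toMonoidHom (invMonoidHom : E ⧸ N →* E ⧸ N)
      have hval : ∀ q : E ⧸ N, ∀ a : ZMod p, q ^ (-a).val = (q ^ a.val)⁻¹ := fun q a => by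
        rw [eq_inv_iff_mul_eq_one, ← CfsgLib.Fusion.EssentialPlane.pow_val_mul (hexp q), neg_add_cancel,
          ZMod.val_zero, pow_zero]
      have hx1P : x1 ∈ P := by
        have h := hL (-1) ![1, 0]
        simp [Matrix.neg_mulVec, ZMod.val_one, hval] at h
        exact h
      have hy1P : y1 ∈ P := by
        have h := hL (-1) ![0, 1]
        simp [Matrix.neg_mulVec, ZMod.val_one, hval] at h
        exact h
      have hlt : zpowers x1 < P := lt_of_le_of_ne (zpowers_le.2 hx1P) fun e => hy1 (e.ge hy1P)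
      have h1 := CfsgLib.MaxClassCube.mul_card_le (IsPGroup.of_card hHc) hlt
      rw [Nat.card_zpowers, orderOf_eq_prime (hexp x1) hx1, ← pow_two, ← hHc] at h1
      intro q
      exact (eq_top_of_le_card P h1).ge (mem_top q)
    obtain ⟨σ, hσ⟩ := hLr ⟨-1, rfl⟩
    have hσi : ∀ q, π σ q = q⁻¹ := fun q => by rw [hσ]; exact hinv q
    have hkk : π (σ * t * σ⁻¹ * t⁻¹) = 1 := by
      have h1 : π σ * π t = π t * π σ := MulEquiv.ext fun q => by
        rw [MulAut.mul_apply, MulAut.mul_apply, hσi, hσi, map_inv]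
      rw [map_mul, map_mul, map_mul, h1, map_inv, map_inv]
      group
    have hkInn : σ * t * σ⁻¹ * t⁻¹ ∈ (Cfsg.Inn E).subgroupOf X2 := hcoreC ▸ hker (MonoidHom.mem_ker.2 hkk)
    obtain ⟨e, he⟩ := mem_subgroupOf.1 hkInn
    set σ' : MulAut E := (σ : MulAut E) with hσ'
    set vE : E := ⟨v, mem_subgroupOf.1 hvE⟩ with hvEdef
    have hz1E : (z1 : Ω) ∈ E := mem_subgroupOf.1 (H.gam_last_le hz1Z)
    set zE : E := ⟨z1, hz1E⟩ with hzE
    have htv : (t : MulAut E) vE = zE * vE := Subtype.ext (by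
      rw [ht, Subgroup.coe_mul]
      show (u : Ω) * v * (u : Ω)⁻¹ = ((z1 * v : S) : Ω)
      rw [hz1, commutatorElement_def, inv_mul_cancel_right]
      simp only [Subgroup.coe_mul, Subgroup.coe_inv])
    have hσz : σ' zE = zE := Subtype.ext (by
      rw [← autFun_coe]
      exact hfixQ _ σ.2 _ (mem_sub.2 (gam_anti (show 4 ≤ 5 by omega) hz1Z)))
    have hw1 : vE * σ' vE ∈ N := by
      have h1 : ((σ' vE : E) : E ⧸ N) = ((vE : E) : E ⧸ N)⁻¹ := (hπ σ vE).symm.trans (hσi _)
      rw [← QuotientGroup.eq_one_iff, QuotientGroup.mk_mul, h1, mul_inv_cancel]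
    set w1 : E := vE * σ' vE with hw1def
    have hσv : σ' vE = vE⁻¹ * w1 := by rw [hw1def, inv_mul_cancel_left]
    have hNcen : ∀ w ∈ N, ∀ a : E, a * w = w * a := fun w hw a =>
      Subtype.ext (hQcen _ (mem_subgroupOf.1 hw) _ a.2)
    have htw : (t : MulAut E) w1 = w1 := Subtype.ext (by
      rw [ht]
      obtain ⟨q, hq, hqe⟩ := mem_subgroupOf.1 hw1
      rw [← hqe]
      show (u : Ω) * (q : Ω) * (u : Ω)⁻¹ = q
      rw [← show ((u * q : S) : Ω) = (u : Ω) * q from rfl, (last_two_commute hx hq huC).eq, Subgroup.coe_mul,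
        mul_inv_cancel_right])
    have hzN : zE ∈ N := mem_subgroupOf.2 (mem_sub.2 (gam_anti (show 4 ≤ 5 by omega) hz1Z))
    have key := DFunLike.congr_fun he ((t : MulAut E) (σ' vE))
    simp only [Subgroup.coe_mul, Subgroup.coe_inv, MulAut.mul_apply, MulAut.inv_apply_self] at key
    rw [hσv, map_mul, map_inv, htv, htw, MulAut.conj_apply] at key
    have key' : e * ((zE * vE)⁻¹ * w1) * e⁻¹ = σ' (zE * vE) := by
      rw [key]
      show σ' ((t : MulAut E) (σ'⁻¹ (vE⁻¹ * w1))) = _
      rw [← hσv, MulAut.inv_apply_self, htv]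
    rw [map_mul, hσz, hσv] at key'
    set W : E := (zE * vE)⁻¹ * w1 with hW
    have h2 : ⁅e, W⁆ = zE * zE := by
      rw [commutatorElement_def, key', hW]
      calc zE * (vE⁻¹ * w1) * ((zE * vE)⁻¹ * w1)⁻¹ = zE * vE⁻¹ * (zE * vE) := by group
        _ = zE * (vE⁻¹ * zE * vE) := by group
        _ = zE * zE := by rw [hNcen zE hzN vE⁻¹, mul_assoc, inv_mul_cancel, mul_one]
    have h3 : z1 * z1 ∈ R := by
      have h4 := hcom ⟨(e : Ω), H.le e.2⟩ (mem_subgroupOf.2 e.2) ⟨(W : Ω), H.le W.2⟩ (mem_subgroupOf.2 W.2)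
      rwa [show ⁅(⟨(e : Ω), H.le e.2⟩ : S), (⟨(W : Ω), H.le W.2⟩ : S)⁆ = z1 * z1 from
        Subtype.ext (congrArg (fun a : E => (a : Ω)) h2)] at h4
    have h4 : z1 * z1 = 1 := mem_bot.1 (hRZ.le ⟨h3, mul_mem hz1Z hz1Z⟩)
    refine hz1ne (orderOf_eq_one_iff.1 ?_)
    have h7 := orderOf_dvd_of_pow_eq_one (show z1 ^ 2 = 1 by rw [sq, h4])
    have h8 := orderOf_dvd_of_pow_eq_one (pow_eq_one_of_deep hx (show 2 ≤ 5 by omega) (by omega) hz1Z)
    rcases (Nat.dvd_prime hp).1 h8 with h9 | h9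
    · exact h9
    · rw [h9] at h7
      have := Nat.le_of_dvd two_pos h7
      omega
  · -- larger order
    set R' := sub R with hR'
    set T := centralizerIn S Q with hTdef
    have hR'E : R' ≤ E := by
      rintro _ ⟨w, hw, rfl⟩
      exact mem_subgroupOf.1 (hZ2E (hR2 hw))
    have hRQ : R' ≤ Q := by
      rintro _ ⟨w, hw, rfl⟩
      exact mem_sub.2 (hR2 hw)
    haveI : (R'.subgroupOf T).Normal := ⟨fun z hz t => by
      have h1 := mem_centralizer_iff.1 t.2.2 (z : Ω) (hRQ (mem_subgroupOf.1 hz))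
      rw [show t * z * t⁻¹ = z from Subtype.ext (by
        simp only [Subgroup.coe_mul, Subgroup.coe_inv]; rw [← h1, mul_inv_cancel_right])]
      exact hz⟩
    haveI : (R.subgroupOf (twoStepAt S (n - 2))).Normal := ⟨fun z hz t => by
      rw [show t * z * t⁻¹ = z from Subtype.ext (by
        simp only [Subgroup.coe_mul, Subgroup.coe_inv]
        rw [(hRcent _ (mem_subgroupOf.1 hz) t t.2).eq, mul_inv_cancel_right])]
      exact hz⟩
    obtain ⟨hK, hsat', hess'⟩ := quot_essential (T := T) (R := R') hTp hsat hess hET hR'E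
      fun P f hf => cSystem_fix (F := F) hQ.1 (hQE.trans hET.le) hRQ hf
    set α := QuotientGroup.mk' (R'.subgroupOf T) with hα
    obtain ⟨β, hβ, hβ1, -⟩ := exists_quot_hom (R := R')
      (((twoStepAt S (n - 2)).equivMapOfInjective S.subtype S.subtype_injective).trans
        (MulEquiv.subgroupCongr hT.symm))
    have hker : β.ker = R.subgroupOf (twoStepAt S (n - 2)) := by
      ext d
      rw [MonoidHom.mem_ker, hβ1, mem_subgroupOf]
      exact mem_sub
    haveI : Finite α.range := Finite.of_surjective β hβ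
    obtain ⟨yq, hyq⟩ := exists_uniform_quotient hx hex (by omega) hR2 hRZ hRc
    have hu := uniform_equiv hyq ((QuotientGroup.quotientMulEquivOfEq hker).symm.trans
      (QuotientGroup.quotientKerEquivOfSurjective β hβ))
    have hGp : IsPGroup p α.range := (H.isP.to_subgroup _).of_surjective β hβ
    have hc3 : Nat.card (imgι α E) = p ^ 3 := by
      have h1 := card_imgι_mul hR'E hET.le
      rw [hcard, show Nat.card R' = p from (card_sub R).trans hRc, pow_succ p 3] at h1
      exact Nat.eq_of_mul_eq_mul_right hp.pos h1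
    have hab : ∀ a b : imgι α E, a * b = b * a := by
      rintro ⟨a, a', ha, rfl⟩ ⟨b, b', hb, rfl⟩
      refine Subtype.ext ?_
      show α a' * α b' = α b' * α a'
      rw [← commutatorElement_eq_one_iff_mul_comm, ← map_commutatorElement, hα, QuotientGroup.mk'_apply,
        QuotientGroup.eq_one_iff, mem_subgroupOf]
      exact mem_sub.2 (hcom ⟨(a' : Ω), H.le (mem_subgroupOf.1 ha)⟩ (mem_subgroupOf.2 (mem_subgroupOf.1 ha))
        ⟨(b' : Ω), H.le (mem_subgroupOf.1 hb)⟩ (mem_subgroupOf.2 (mem_subgroupOf.1 hb)))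
    haveI : Finite (imgι α E) := finite_of_le hess'.1.1
    have hge := CfsgLib.Fusion.MaxClassCubeEssential.card_ge hp5 hGp hu.card (by omega) hu.class_eq hsat'
      hess' (by
        rintro (⟨h2, -⟩ | ⟨-, hexs, -⟩)
        · rw [hc3] at h2
          exact absurd (Nat.pow_right_injective hp.two_le h2) (by norm_num)
        · have h1 : center (imgι α E) = ⊤ := eq_top_iff.2 fun a _ => mem_center_iff.2 fun b => hab b a
          have h2 := hexs.2
          rw [h1, card_top, hc3] at h2
          exact absurd h2 (lt_self_pow₀ hp.one_lt (by norm_num)).ne')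
    rw [hc3] at hge
    exact absurd hge (not_le.2 (Nat.pow_lt_pow_right hp.one_lt (by norm_num)))

end CfsgLib.MCFusion
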