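import Cfsg.Agent.Lib.MaxClassFusion.C2Struct
import Cfsg.Agent.Lib.MaxClassFusion.Induct

/-!
# Automorphisms fixing the centre extend

An automorphism of the essential subgroup fixing the centre of `S` and not extending would make the
image essential in a quotient of smaller order.
-/

set_option autoImplicit false
set_option linter.style.haveILetI false
set_option linter.unusedSectionVars false

open Subgroup
open scoped commutatorElement Classical

namespace CfsgLib.MCFusion

open Cfsg (FusionSystem autInducedBy)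
open Cfsg.FusionSystem (normalizerIn centralizerIn preimageAlong)
open CfsgLib.Fusion
open CfsgLib.Fusion.MaxClassCubeSystem (sub mem_sub sub_le sub_centralizer sub_normalizer)
open CfsgLib.MaxClassShift (gam gam_normal gam_anti gam_one gam_comm)
open CfsgLib.MaxClassUniform (Uniform gam_le_twoStepAt exists_uniform nilpotencyClass_quotient)
open CfsgLib.PGroup.MaxClassRank (twoStepAt layer_gen pow_mem_two)
open CfsgLib.MaxClassEss

universe u

variable {Ω : Type u} [Group Ω] {S : Subgroup Ω} [Finite S] {p n : ℕ} [hpf : Fact p.Prime]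
  {F : FusionSystem S} {E : Subgroup Ω}

/-- Modulo the centre the subgroup is exceptional of order `p³`: the shape it must have. -/
theorem Hyp.shape_of_fix (H : Hyp p n F E) (IH : Conc.{u} p (n - 1)) {g : MulAut E}
    (hg : g ∈ F.autGroup E) (hgM : g ∉ extGroup F E)
    (hfix : ∀ z : S, z ∈ gam S (n - 1) → autFun g (z : Ω) = z) :
    twoStepAt S (n - 2) ≠ twoStepAt S 2 ∧ 5 ≤ p ∧ Nat.card E = p ^ 4 ∧
      ∃ y ∈ twoStepAt S (n - 2), y ∉ twoStepAt S 2 ∧ E.subgroupOf S = zpowers y ⊔ gam S (n - 3) ∧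
        normalizerIn S E ≤ sub (twoStepAt S (n - 2)) := by
  have hp := hpf.out
  have h5 := H.five
  obtain ⟨x, hx⟩ := H.exists_x
  set Zc := sub (gam S (n - 1)) with hZc
  have hTS : S = centralizerIn S Zc := le_antisymm (le_inf le_rfl fun s hs => mem_centralizer_iff.2 fun z hz => by
    obtain ⟨z, hz', rfl⟩ := hz
    exact congrArg Subtype.val (comm_gam_central hx hz' ⟨s, hs⟩).symm) inf_le_left
  have hZE : Zc ≤ E := by
    rintro _ ⟨z, hz, rfl⟩
    exact mem_subgroupOf.1 (H.gam_last_le hz)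
  have hQ : F.IsFullyCentralized Zc := ⟨sub_le _, fun Q _ =>
    (card_le_of_le' le_rfl inf_le_left).trans_eq (by rw [← hTS])⟩
  obtain ⟨hsat, hess⟩ := cent_essential H.isP H.sat H.ess H.lt hZE hQ (inf_le_left.trans hTS.le) hg hgM (by
    rintro _ ⟨z, hz, rfl⟩
    exact hfix z hz)
  set T := centralizerIn S Zc with hT
  haveI : Finite T := finite_of_le inf_le_left
  haveI : (Zc.subgroupOf T).Normal := ⟨fun z hz t => by
    have h1 := mem_centralizer_iff.1 t.2.2 (z : Ω) (mem_subgroupOf.1 hz)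
    rw [show t * z * t⁻¹ = z from Subtype.ext (by
      simp only [Subgroup.coe_mul, Subgroup.coe_inv]; rw [← h1, mul_inv_cancel_right])]
    exact hz⟩
  have hET : E < T := lt_of_lt_of_eq H.lt hTS
  obtain ⟨hK, hsat', hess'⟩ := quot_essential (T := T) (R := Zc) (H.isP.to_le inf_le_left) hsat hess hET hZE
    fun P f hf => cSystem_fix (F := F) hQ.1 ((sub_le _).trans hTS.le) le_rfl hf
  set α := QuotientGroup.mk' (Zc.subgroupOf T) with hα
  obtain ⟨β, hβ, hβ1, hβE⟩ := exists_quot_hom (R := Zc) (MulEquiv.subgroupCongr hTS)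
  have hker : β.ker = gam S (n - 1) := by
    ext s
    rw [MonoidHom.mem_ker, hβ1]
    exact mem_sub
  haveI : Finite α.range := Finite.of_surjective β hβ
  have hGp : IsPGroup p α.range := H.isP.of_surjective β hβ
  obtain ⟨hqc, hqcl⟩ := nilpotencyClass_quotient H.isP H.card H.cl (show 4 ≤ n by omega)
  haveI := gam_normal (G := S) (n - 1)
  obtain ⟨xq, hxq, -⟩ := exists_uniform (n - 1) (S ⧸ gam S (n - 1)) (H.isP.to_quotient _) hqc (by omega)
    hqcl ⊥ (fun e => by
      have h1 := congrArg (fun K : Subgroup (S ⧸ gam S (n - 1)) => Nat.card K) e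
      simp only [card_bot, card_top, hqc] at h1
      exact absurd h1.symm (Nat.one_lt_pow (by omega) hp.one_lt).ne')
  have hu := uniform_equiv hxq ((QuotientGroup.quotientMulEquivOfEq hker).symm.trans
    (QuotientGroup.quotientKerEquivOfSurjective β hβ))
  set E'' := imgι α E with hE''
  have hE''eq : E''.subgroupOf α.range = (E.subgroupOf S).map β := hβE E
  have htwo : ∀ {i : ℕ}, i + 3 ≤ n → ∀ s, β s ∈ twoStepAt α.range i ↔ s ∈ twoStepAt S i := fun {i} hi s =>
    twoStepAt_map hβ (hker.le.trans (gam_anti (by omega)))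
  have hmap : ∀ {i : ℕ}, i + 3 ≤ n → E.subgroupOf S ≤ twoStepAt S i →
      E''.subgroupOf α.range ≤ twoStepAt α.range i := fun {i} hi hle => by
    rw [hE''eq]
    rintro _ ⟨s, hs, rfl⟩
    exact (htwo hi s).2 (hle hs)
  have hnA : ¬ E.subgroupOf S ≤ lev S 1 := by
    intro hA
    refine H.neA ?_
    rw [lev_one] at hA ⊢
    have hc := IH (quotientSystem hK) E'' hGp hu.card (by omega) hu.class_eq hsat' hess'
      (Or.inl (by rw [lev_one]; exact hmap (by omega) hA))
    have h1 : E''.subgroupOf α.range = twoStepAt α.range 2 := by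
      rcases hc with h1 | h1
      · rwa [lev_one] at h1
      · rcases (show n = 5 ∨ 6 ≤ n by omega) with rfl | h6
        · exact h1
        · rw [show n - 1 - 2 = n - 3 by omega] at h1
          refine h1.trans (SetLike.ext fun q => ?_)
          obtain ⟨s, rfl⟩ := hβ q
          rw [htwo (by omega), htwo (by omega), twoStepAt_common hx (by omega) (show 2 ≤ n - 3 by omega) (by omega)]
    refine le_antisymm hA fun s hs => ?_
    obtain ⟨e, he, hes⟩ := (hE''eq.symm.trans h1).ge ((htwo (by omega) s).2 hs)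
    have h2 : e⁻¹ * s ∈ gam S (n - 1) := by
      rw [← hker, MonoidHom.mem_ker, map_mul, map_inv, hes, inv_mul_cancel]
    have h3 := mul_mem he (H.gam_last_le h2)
    rwa [mul_inv_cancel_left] at h3
  have hEC : E.subgroupOf S ≤ twoStepAt S (n - 2) := H.inner.resolve_left hnA
  have hex : twoStepAt S (n - 2) ≠ twoStepAt S 2 := fun e => hnA (H.inner_A e)
  obtain ⟨hp5, h6⟩ := five_le_of_exc hx (show 4 ≤ n by omega) hex
  obtain ⟨y, hy, hyA⟩ := SetLike.not_le_iff_exists.1 hnA
  rw [lev_one] at hyA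
  have hyC := hEC hy
  -- the order
  have hZ2E : gam S (n - 2) ≤ E.subgroupOf S := fun r hr => H.mem_of_commute fun e he =>
    (last_two_commute hx hr (hEC he)).symm
  have hge := H.card_ge_of_Z2 hp5 hZ2E fun r hr e he => (last_two_commute hx hr (hEC he)).symm
  have huy : Uniform (β y) p (n - 1) := by
    refine uniform_of_outside hu (by omega) (fun h1 => hyA ((htwo (by omega) y).1 h1)) fun h1 => hyA ?_
    rw [show n - 1 - 2 = n - 3 by omega] at h1
    rw [← twoStepAt_common hx (by omega) (show 2 ≤ n - 3 by omega) (by omega)]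
    exact (htwo (by omega) y).1 h1
  have hle := small_of_uniform hGp hu.card (by omega) hess' (g := β y)
    (hE''eq.ge (mem_map_of_mem β hy)) huy
  have hcard : Nat.card E = p ^ 4 := by
    refine le_antisymm ?_ hge
    rw [← card_imgι_mul hZE (H.le.trans hTS.le), ← hα, ← hE'', pow_succ p 3,
      show Nat.card Zc = p by
        rw [hZc, CfsgLib.Fusion.MaxClassCubeSystem.card_sub, hx.card_gam (by omega) (by omega),
          show n - (n - 1) = 1 by omega, pow_one]]
    exact Nat.mul_le_mul_right p hle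
  -- the shape
  set P := E.subgroupOf S ⊓ gam S 2 with hP
  have hdec : ∀ e ∈ E.subgroupOf S, ∃ i : ℤ, (y ^ i)⁻¹ * e ∈ P := by
    intro e he
    haveI := twoStepAt_normal hx (show 1 ≤ 2 by omega)
    have hc : Nat.card (S ⧸ twoStepAt S 2) = p := by rw [← index_eq_card, index_twoStepAt hx le_rfl (by omega)]
    obtain ⟨i, hi⟩ := mem_zpowers_iff.1 (mem_zpowers_of_prime_card hc
      (g := QuotientGroup.mk' (twoStepAt S 2) y) (fun e' => hyA ((QuotientGroup.eq_one_iff _).1 e'))
      (g' := QuotientGroup.mk' (twoStepAt S 2) e))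
    have h1 : (y ^ i)⁻¹ * e ∈ E.subgroupOf S := mul_mem (inv_mem (zpow_mem hy i)) he
    refine ⟨i, h1, mem_gam_two_of_inner hx hex (by omega) (hEC h1) ?_⟩
    rw [← QuotientGroup.eq_one_iff, QuotientGroup.mk_mul, QuotientGroup.mk_inv, QuotientGroup.mk_zpow,
      ← QuotientGroup.mk'_apply, ← QuotientGroup.mk'_apply, hi, inv_mul_cancel]
  have hyp : y ^ p ∈ P := ⟨pow_mem hy p, pow_mem_two H.isP hx.card hx.three hx.class_eq y⟩
  have hPlt : P < E.subgroupOf S := lt_of_le_of_ne inf_le_left fun e =>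
    hyA (gam_le_twoStepAt H.isP (by omega) (e.ge hy).2)
  have hcE := H.card_E.trans hcard
  have hPp := CfsgLib.MaxClassCube.mul_card_le H.isP hPlt
  have hPc : Nat.card P = p ^ 3 := by
    refine le_antisymm ?_ ?_
    · rw [hcE, pow_succ' p 3] at hPp
      exact Nat.le_of_mul_le_mul_left hPp hp.pos
    · let f : Fin p × P → E.subgroupOf S := fun aw => ⟨y ^ (aw.1 : ℕ) * (aw.2 : S),
        mul_mem (pow_mem hy _) aw.2.2.1⟩
      have hf : Function.Surjective f := fun e => by
        obtain ⟨i, hi⟩ := hdec e e.2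
        have hp0 : (p : ℤ) ≠ 0 := by exact_mod_cast hp.ne_zero
        refine ⟨(⟨(i % p).toNat, ?_⟩, ⟨(y ^ p) ^ (i / p) * ((y ^ i)⁻¹ * e), mul_mem (zpow_mem hyp _) hi⟩),
          Subtype.ext ?_⟩
        · have := Int.emod_lt_of_pos i (show (0 : ℤ) < p by exact_mod_cast hp.pos)
          have := Int.emod_nonneg i hp0
          omega
        · show y ^ (i % p).toNat * ((y ^ p) ^ (i / p) * ((y ^ i)⁻¹ * (e : S))) = e
          rw [← zpow_natCast, Int.toNat_of_nonneg (Int.emod_nonneg i hp0), ← mul_assoc, ← zpow_natCast,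
            ← zpow_mul, ← zpow_add, Int.emod_add_mul_ediv, mul_inv_cancel_left]
      have h1 := Nat.card_le_card_of_surjective f hf
      rw [hcE, Nat.card_prod, Nat.card_fin, pow_succ' p 3] at h1
      exact Nat.le_of_mul_le_mul_left h1 hp.pos
  have hPinv : ∀ k ∈ P, y * k * y⁻¹ ∈ P := fun k hk => ⟨(E.subgroupOf S).mul_mem ((E.subgroupOf S).mul_mem hy hk.1) ((E.subgroupOf S).inv_mem hy),
    (gam_normal 2).conj_mem k hk.2 y⟩
  have hZ2P : gam S (n - 2) ≤ P := le_inf hZ2E (gam_anti (by omega))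
  obtain ⟨w, hwP, hw⟩ : ∃ w ∈ P, w ∉ gam S (n - 2) := by
    by_contra hcon
    push Not at hcon
    have h1 := card_le_of_le (show P ≤ gam S (n - 2) from hcon)
    rw [hPc, hx.card_gam (by omega) (by omega), Nat.pow_le_pow_iff_right hp.one_lt] at h1
    omega
  obtain ⟨L, hL, hLn, hwL, hwL'⟩ := exists_level (show 2 ≤ n - 2 by omega) hwP.2 hw
  have hLP : gam S L ≤ P := gam_le_of_mem hx hL (by omega) hwL hwL' hwP
    (shift_le hx (by omega) hyA P hPinv (Or.inr hZ2P) (L := L) (by omega) (by omega) hwP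
      (by rw [lev_eq hL]; exact hwL) hwL')
  have hPeq : P = gam S (n - 3) := by
    have h1 := card_le_of_le hLP
    rw [hPc, hx.card_gam hL (by omega), Nat.pow_le_pow_iff_right hp.one_lt] at h1
    rw [show L = n - 3 by omega] at hLP
    exact (eq_of_le_of_card_ge hLP (by
      rw [hPc, hx.card_gam (by omega) (by omega)]; exact (by rw [show n - (n - 3) = 3 by omega]))).symm
  have hEeq : E.subgroupOf S = zpowers y ⊔ gam S (n - 3) := by
    refine le_antisymm (fun e he => ?_) (sup_le (zpowers_le.2 hy) (hPeq.ge.trans inf_le_left))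
    obtain ⟨i, hi⟩ := hdec e he
    rw [show e = y ^ i * ((y ^ i)⁻¹ * e) by group]
    exact mul_mem (mem_sup_left (zpow_mem (mem_zpowers y) i)) (mem_sup_right (hPeq.le hi))
  refine ⟨hex, hp5, hcard, y, hyC, hyA, hEeq, ?_⟩
  rintro s ⟨hsS, hs⟩
  refine ⟨⟨s, hsS⟩, ?_, rfl⟩
  by_contra hnot
  have hyg2 : y ∉ gam S 2 := fun h1 => hyA (gam_le_twoStepAt H.isP (by omega) h1)
  refine comm_notMem_three hx (by omega) (gam_le_twoStepAt H.isP (show 1 ≤ n - 2 by omega))
    (index_twoStepAt hx (show 2 ≤ n - 2 by omega) (by omega)) hyC hyg2 hnot ?_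
  have h1 : ⁅(⟨s, hsS⟩ : S), y⁆ ∈ P := by
    refine ⟨?_, gam_comm (a := 1) (b := 1) le_rfl le_rfl (mem_top _) (mem_top y)⟩
    rw [commutatorElement_def]
    refine (E.subgroupOf S).mul_mem (mem_subgroupOf.2 ?_) ((E.subgroupOf S).inv_mem hy)
    exact (mem_normalizer_iff.1 hs (y : Ω)).1 (mem_subgroupOf.1 hy)
  exact gam_anti (show 3 ≤ n - 3 by omega) (hPeq.le h1)

end CfsgLib.MCFusion
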